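/-
`PGL_2` of an algebraically closed field on the projective line: fixed points and stabilisers.
-/
import Cfsg.Agent.Lib.Transfer.DicksonLine
import Mathlib

set_option autoImplicit false

namespace CfsgLib.Classical.Dickson

open Matrix Projectivization CfsgLib.Transfer
open scoped MatrixGroups LinearAlgebra.Projectivization

variable {K : Type*} [Field K]

/-- The image of `x ↦ a x + b`. -/
def aff (a : Kˣ) (b : K) : Matrix.ProjGenLinGroup (Fin 2) K :=
  Matrix.ProjGenLinGroup.mk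
    (Matrix.GeneralLinearGroup.mkOfDetNeZero !![(a : K), b; 0, 1] (by simp [Matrix.det_fin_two]))

theorem aff_mul (a c : Kˣ) (b d : K) : aff a b * aff c d = aff (a * c) (a * d + b) := by
  rw [aff, aff, aff, ← map_mul]
  congr 1
  refine Units.ext ?_
  ext i j
  fin_cases i <;> fin_cases j <;>
    simp [Matrix.GeneralLinearGroup.mkOfDetNeZero, Matrix.mul_apply, Fin.sum_univ_two]

theorem aff_one : aff (1 : Kˣ) 0 = 1 := by
  rw [aff, ← map_one Matrix.ProjGenLinGroup.mk]
  congr 1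
  refine Units.ext ?_
  simp [Matrix.GeneralLinearGroup.mkOfDetNeZero, Matrix.one_fin_two]

theorem aff_inj {a c : Kˣ} {b d : K} (h : aff a b = aff c d) : a = c ∧ b = d := by
  obtain ⟨u, hu⟩ := Matrix.ProjGenLinGroup.mk_eq_mk_iff.1 h
  have e0 := congrArg (fun M : GL (Fin 2) K => M.val 1 1) hu
  have e1 := congrArg (fun M : GL (Fin 2) K => M.val 0 0) hu
  have e2 := congrArg (fun M : GL (Fin 2) K => M.val 0 1) hu
  simp [Matrix.GeneralLinearGroup.mkOfDetNeZero, Matrix.mul_apply, Fin.sum_univ_two,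
    Matrix.scalar_apply] at e0 e1 e2
  exact ⟨Units.ext (by simpa [e0] using e1), by simpa [e0] using e2⟩

theorem aff_eq_one {a : Kˣ} {b : K} : aff a b = 1 ↔ a = 1 ∧ b = 0 := by
  constructor
  · intro h
    rw [← aff_one] at h
    exact aff_inj h
  · rintro ⟨rfl, rfl⟩
    exact aff_one

theorem aff_smul_inf (a : Kˣ) (b : K) : aff a b • (lineInf : ℙ K (Fin 2 → K)) = lineInf := by
  rw [aff, lineInf, Projectivization.PGL.mk_smul_mk, Projectivization.mk_eq_mk_iff']
  refine ⟨a, ?_⟩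
  ext i
  fin_cases i <;> simp [Units.smul_def, Matrix.GeneralLinearGroup.mkOfDetNeZero, Matrix.smul_eq_mulVec,
    Matrix.mulVec, dotProduct, Fin.sum_univ_two]

theorem aff_smul_pt (a : Kˣ) (b t : K) : aff a b • linePt t = linePt ((a : K) * t + b) := by
  rw [aff, linePt, linePt, Projectivization.PGL.mk_smul_mk, Projectivization.mk_eq_mk_iff']
  refine ⟨1, ?_⟩
  ext i
  fin_cases i <;> simp [Units.smul_def, Matrix.GeneralLinearGroup.mkOfDetNeZero, Matrix.smul_eq_mulVec,
    Matrix.mulVec, dotProduct, Fin.sum_univ_two]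

theorem exists_aff_of_fix_inf {g : Matrix.ProjGenLinGroup (Fin 2) K}
    (h : g • (lineInf : ℙ K (Fin 2 → K)) = lineInf) : ∃ a b, g = aff a b := by
  obtain ⟨M, rfl⟩ := Matrix.ProjGenLinGroup.mk_surjective g
  rw [lineInf, Projectivization.PGL.mk_smul_mk, Projectivization.mk_eq_mk_iff'] at h
  obtain ⟨e, he⟩ := h
  have h10 : M.val 1 0 = 0 := by
    have := congrFun he 1
    simpa [Units.smul_def, Matrix.smul_eq_mulVec, Matrix.mulVec, dotProduct, Fin.sum_univ_two] using this.symm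
  have hd : M.val 0 0 * M.val 1 1 ≠ 0 := by
    have := ((Matrix.isUnit_iff_isUnit_det M.val).1 M.isUnit).ne_zero
    rwa [Matrix.det_fin_two, h10, mul_zero, sub_zero] at this
  have h0 := left_ne_zero_of_mul hd
  have h1 := right_ne_zero_of_mul hd
  refine ⟨Units.mk0 (M.val 0 0 / M.val 1 1) (div_ne_zero h0 h1), M.val 0 1 / M.val 1 1,
    Matrix.ProjGenLinGroup.mk_eq_mk_iff.2 ⟨Units.mk0 (M.val 1 1)⁻¹ (inv_ne_zero h1), Units.ext ?_⟩⟩
  ext i j
  fin_cases i <;> fin_cases j <;>
    simp [Matrix.GeneralLinearGroup.mkOfDetNeZero, Matrix.mul_apply, Fin.sum_univ_two, Matrix.scalar_apply, h10,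
      h1] <;> field_simp

theorem exists_to_inf (x : ℙ K (Fin 2 → K)) :
    ∃ h : Matrix.ProjGenLinGroup (Fin 2) K, h • x = lineInf := by
  rcases line_cases x with rfl | ⟨t, rfl⟩
  · exact ⟨1, one_smul _ _⟩
  · refine ⟨Matrix.ProjGenLinGroup.mk (Matrix.GeneralLinearGroup.mkOfDetNeZero !![0, 1; 1, -t]
      (by simp [Matrix.det_fin_two])), ?_⟩
    rw [linePt, lineInf, Projectivization.PGL.mk_smul_mk, Projectivization.mk_eq_mk_iff']
    refine ⟨1, ?_⟩
    ext i
    fin_cases i <;> simp [Units.smul_def, Matrix.GeneralLinearGroup.mkOfDetNeZero, Matrix.smul_eq_mulVec,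
      Matrix.mulVec, dotProduct, Fin.sum_univ_two]

theorem exists_to_inf_zero {x y : ℙ K (Fin 2 → K)} (hxy : x ≠ y) :
    ∃ h : Matrix.ProjGenLinGroup (Fin 2) K, h • x = lineInf ∧ h • y = linePt 0 := by
  obtain ⟨h, hx⟩ := exists_to_inf x
  rcases line_cases (h • y) with hy | ⟨c, hy⟩
  · exact absurd (MulAction.injective h (hx.trans hy.symm)) hxy
  · refine ⟨aff 1 (-c) * h, ?_, ?_⟩
    · rw [mul_smul, hx, aff_smul_inf]
    · rw [mul_smul, hy, aff_smul_pt]
      simp

/-- The fixed points. -/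
def fixSet (g : Matrix.ProjGenLinGroup (Fin 2) K) : Set (ℙ K (Fin 2 → K)) := {x | g • x = x}

theorem mem_fixSet {g : Matrix.ProjGenLinGroup (Fin 2) K} {x : ℙ K (Fin 2 → K)} :
    x ∈ fixSet g ↔ g • x = x := Iff.rfl

theorem fixSet_conj (h g : Matrix.ProjGenLinGroup (Fin 2) K) :
    fixSet (h * g * h⁻¹) = (fun x => h • x) '' fixSet g := by
  ext x
  simp only [Set.mem_image, mem_fixSet]
  constructor
  · intro hx
    refine ⟨h⁻¹ • x, ?_, smul_inv_smul h x⟩
    rwa [mul_smul, mul_smul, smul_eq_iff_eq_inv_smul] at hx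
  · rintro ⟨y, hy, rfl⟩
    rw [mul_smul, mul_smul, inv_smul_smul, hy]

theorem fixSet_aff_of_ne {a : Kˣ} (ha : a ≠ 1) (b : K) :
    fixSet (aff a b) = {lineInf, linePt (b / (1 - a))} := by
  have h1 : (1 : K) - a ≠ 0 := sub_ne_zero.2 fun h => ha (Units.ext h.symm)
  ext x
  simp only [mem_fixSet, Set.mem_insert_iff, Set.mem_singleton_iff]
  constructor
  · intro hx
    rcases line_cases x with rfl | ⟨t, rfl⟩
    · exact Or.inl rfl
    · rw [aff_smul_pt] at hx
      have := linePt_inj hx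
      refine Or.inr (congrArg linePt ?_)
      field_simp
      linear_combination -this
  · rintro (rfl | rfl)
    · exact aff_smul_inf a b
    · rw [aff_smul_pt]
      congr 1
      field_simp
      ring

theorem fixSet_aff_one {b : K} (hb : b ≠ 0) : fixSet (aff 1 b) = {(lineInf : ℙ K (Fin 2 → K))} := by
  ext x
  simp only [mem_fixSet, Set.mem_singleton_iff]
  constructor
  · intro hx
    rcases line_cases x with rfl | ⟨t, rfl⟩
    · rfl
    · rw [aff_smul_pt] at hx
      have := linePt_inj hx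
      exact absurd (by simpa using this) hb
  · rintro rfl
    exact aff_smul_inf 1 b

theorem aff_one_pow (b : K) : ∀ n : ℕ, aff 1 b ^ n = aff 1 ((n : K) * b)
  | 0 => by simp [aff_one]
  | n + 1 => by
    rw [pow_succ, aff_one_pow b n, aff_mul]
    simp [add_mul, add_comm]

theorem aff_pow_fst (a : Kˣ) (b : K) : ∀ n : ℕ, ∃ c, aff a b ^ n = aff (a ^ n) c
  | 0 => ⟨0, by simp [aff_one]⟩
  | n + 1 => by
    obtain ⟨c, hc⟩ := aff_pow_fst a b n
    exact ⟨((a : K) ^ n) * b + c, by rw [pow_succ, hc, aff_mul, pow_succ, Units.val_pow_eq_pow_val]⟩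

/-- Swapping the two fixed points of `h` inverts it. -/
theorem swap_inverts {g h : Matrix.ProjGenLinGroup (Fin 2) K} {x y : ℙ K (Fin 2 → K)} (hxy : x ≠ y)
    (hx : h • x = x) (hy : h • y = y) (gx : g • x = y) (gy : g • y = x) :
    g * g = 1 ∧ g * h * g⁻¹ = h⁻¹ := by
  obtain ⟨c, cx, cy⟩ := exists_to_inf_zero hxy
  have key : ∀ g h : Matrix.ProjGenLinGroup (Fin 2) K, h • (lineInf : ℙ K (Fin 2 → K)) = lineInf →
      h • linePt (0 : K) = linePt 0 → g • (lineInf : ℙ K (Fin 2 → K)) = linePt 0 → g • linePt (0 : K) = lineInf →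
      g * g = 1 ∧ g * h * g⁻¹ = h⁻¹ := by
    intro g h h1 h2 g1 g2
    obtain ⟨a, b, rfl⟩ := exists_aff_of_fix_inf h1
    rw [aff_smul_pt] at h2
    obtain rfl : b = 0 := by simpa using linePt_inj h2
    obtain ⟨M, rfl⟩ := Matrix.ProjGenLinGroup.mk_surjective g
    rw [lineInf, linePt, Projectivization.PGL.mk_smul_mk, Projectivization.mk_eq_mk_iff'] at g1 g2
    obtain ⟨e1, he1⟩ := g1
    obtain ⟨e2, he2⟩ := g2
    have m00 : M.val 0 0 = 0 := by
      have := congrFun he1 0
      simpa [Units.smul_def, Matrix.smul_eq_mulVec, Matrix.mulVec, dotProduct, Fin.sum_univ_two] using this.symm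
    have m11 : M.val 1 1 = 0 := by
      have := congrFun he2 1
      simpa [Units.smul_def, Matrix.smul_eq_mulVec, Matrix.mulVec, dotProduct, Fin.sum_univ_two] using this.symm
    have hd : M.val 0 1 * M.val 1 0 ≠ 0 := by
      have := ((Matrix.isUnit_iff_isUnit_det M.val).1 M.isUnit).ne_zero
      rw [Matrix.det_fin_two, m00, zero_mul, zero_sub] at this
      exact fun h => this (by rw [h, neg_zero])
    constructor
    · rw [← map_mul, ← map_one Matrix.ProjGenLinGroup.mk]
      refine (Matrix.ProjGenLinGroup.mk_eq_mk_iff.2 ⟨Units.mk0 _ hd, Units.ext ?_⟩).symm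
      ext i j
      fin_cases i <;> fin_cases j <;>
        simp [Matrix.mul_apply, Fin.sum_univ_two, Matrix.scalar_apply, m00, m11, mul_comm]
    · refine eq_inv_of_mul_eq_one_left ?_
      rw [aff, ← map_inv, ← map_mul, ← map_mul, ← map_mul, ← map_one Matrix.ProjGenLinGroup.mk]
      refine (Matrix.ProjGenLinGroup.mk_eq_mk_iff.2 ⟨a, ?_⟩).symm
      set D := Matrix.GeneralLinearGroup.mkOfDetNeZero !![(a : K), 0; 0, 1] (by simp [Matrix.det_fin_two]) with hD
      have hMD : M * D * M⁻¹ * D = M * (D * M⁻¹ * D * M) * M⁻¹ := by group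
      have hcen : ∀ (N : GL (Fin 2) K) (u : Kˣ), N * Matrix.GeneralLinearGroup.scalar (Fin 2) u * N⁻¹ =
          Matrix.GeneralLinearGroup.scalar (Fin 2) u := by
        intro N u
        have hu : Matrix.GeneralLinearGroup.scalar (Fin 2) u ∈ Subgroup.center (GL (Fin 2) K) := by
          rw [Matrix.GeneralLinearGroup.center_eq_range_scalar]; exact ⟨u, rfl⟩
        rw [Subgroup.mem_center_iff.1 hu N, mul_inv_cancel_right]
      have hinner : D * M⁻¹ * D * M = Matrix.GeneralLinearGroup.scalar (Fin 2) a := by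
        have e : D * M = M * (M⁻¹ * D * M) := by group
        have hconj : M⁻¹ * D * M * D = Matrix.GeneralLinearGroup.scalar (Fin 2) a := by
          rw [mul_assoc, mul_assoc, inv_mul_eq_iff_eq_mul]
          refine Units.ext ?_
          ext i j
          fin_cases i <;> fin_cases j <;>
            simp [hD, Matrix.GeneralLinearGroup.mkOfDetNeZero, Matrix.mul_apply, Fin.sum_univ_two,
              Matrix.scalar_apply, m00, m11, mul_comm]
        rw [show D * M⁻¹ * D * M = D * (M⁻¹ * D * M * D) * D⁻¹ by group, hconj,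
          hcen]
      rw [one_mul, hMD, hinner, hcen]
  have conjfix : ∀ (u : Matrix.ProjGenLinGroup (Fin 2) K) (s t : ℙ K (Fin 2 → K)),
      (c * u * c⁻¹) • (c • s) = c • t ↔ u • s = t := fun u s t => by
    rw [mul_smul, mul_smul, inv_smul_smul, smul_left_cancel_iff]
  obtain ⟨r1, r2⟩ := key (c * g * c⁻¹) (c * h * c⁻¹) (by rw [← cx, conjfix, hx]) (by rw [← cy, conjfix, hy])
    (by rw [← cx, ← cy, conjfix, gx]) (by rw [← cx, ← cy, conjfix, gy])
  constructor
  · have := congrArg (fun z => c⁻¹ * z * c) r1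
    simpa [mul_assoc] using this
  · have := congrArg (fun z => c⁻¹ * z * c) r2
    simpa [mul_assoc] using this

section Closed

variable [IsAlgClosed K]

theorem exists_fixed (g : Matrix.ProjGenLinGroup (Fin 2) K) : ∃ x : ℙ K (Fin 2 → K), g • x = x := by
  obtain ⟨M, rfl⟩ := Matrix.ProjGenLinGroup.mk_surjective g
  obtain ⟨r, hr⟩ := IsAlgClosed.exists_root M.val.charpoly (by rw [Matrix.charpoly_degree_eq_dim]; simp)
  have hdet : (Matrix.scalar (Fin 2) r - M.val).det = 0 := by rwa [← Matrix.eval_charpoly]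
  obtain ⟨v, hv, hMv⟩ := Matrix.exists_mulVec_eq_zero_iff.2 hdet
  refine ⟨Projectivization.mk K v hv, ?_⟩
  rw [Projectivization.PGL.mk_smul_mk, Projectivization.mk_eq_mk_iff']
  refine ⟨r, ?_⟩
  rw [Matrix.sub_mulVec, sub_eq_zero] at hMv
  change r • v = M.val *ᵥ v
  rw [← hMv]
  ext i
  simp [Matrix.mulVec_diagonal]

/-- A nontrivial element fixes one or two points. -/
theorem fix_cases {g : Matrix.ProjGenLinGroup (Fin 2) K} (hg : g ≠ 1) :
    (∃ x, fixSet g = {x}) ∨ ∃ x y, x ≠ y ∧ fixSet g = {x, y} := by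
  obtain ⟨x, hx⟩ := exists_fixed g
  obtain ⟨h, hh⟩ := exists_to_inf x
  obtain ⟨a, b, he⟩ := exists_aff_of_fix_inf (g := h * g * h⁻¹)
    (by rw [mul_smul, mul_smul, inv_smul_eq_iff.2 hh.symm, hx, hh])
  have hback : fixSet g = (fun x => h⁻¹ • x) '' fixSet (aff a b) := by
    rw [← fixSet_conj, ← he, inv_inv, show h⁻¹ * (h * g * h⁻¹) * h = g by group]
  by_cases ha : a = 1
  · subst ha
    have hb : b ≠ 0 := fun hb => hg (conj_eq_one_iff.1 (he.trans (aff_eq_one.2 ⟨rfl, hb⟩)))
    exact Or.inl ⟨h⁻¹ • lineInf, by rw [hback, fixSet_aff_one hb, Set.image_singleton]⟩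
  · refine Or.inr ⟨h⁻¹ • lineInf, h⁻¹ • linePt (b / (1 - a)), fun e => lineInf_ne_linePt _ (smul_left_cancel _ e),
      by rw [hback, fixSet_aff_of_ne ha, Set.image_pair]⟩

theorem finite_fixSet {g : Matrix.ProjGenLinGroup (Fin 2) K} (hg : g ≠ 1) : (fixSet g).Finite := by
  rcases fix_cases hg with ⟨x, hx⟩ | ⟨x, y, -, hx⟩ <;> rw [hx] <;> exact Set.toFinite _

end Closed

variable (p : ℕ) [hp : Fact p.Prime] [CharP K p]

theorem unit_eq_one_of_pow {a : Kˣ} {m : ℕ} (h : a ^ (p * m) = 1) : a ^ m = 1 := by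
  refine Units.ext (frobenius_inj K p ?_)
  rw [frobenius_def, frobenius_def, Units.val_one, one_pow, ← Units.val_pow_eq_pow_val, ← pow_mul, mul_comm, h,
    Units.val_one]

/-- The order of an element with a single fixed point is `p`, with two fixed points prime to `p`. -/
theorem order_of_fix {g : Matrix.ProjGenLinGroup (Fin 2) K} (hg : g ≠ 1) {x : ℙ K (Fin 2 → K)} (hx : g • x = x) :
    (fixSet g = {x} → g ^ p = 1) ∧ ((∃ y, y ≠ x ∧ g • y = y) → IsOfFinOrder g → ¬ p ∣ orderOf g) := by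
  obtain ⟨h, hh⟩ := exists_to_inf x
  obtain ⟨a, b, he⟩ := exists_aff_of_fix_inf (g := h * g * h⁻¹)
    (by rw [mul_smul, mul_smul, inv_smul_eq_iff.2 hh.symm, hx, hh])
  have hfix : fixSet (aff a b) = (fun x => h • x) '' fixSet g := by rw [← he, fixSet_conj]
  constructor
  · intro hs
    have ha : a = 1 := by
      by_contra ha
      rw [hs, fixSet_aff_of_ne ha, Set.image_singleton, hh] at hfix
      have h2 : linePt (b / (1 - a)) ∈ ({lineInf} : Set (ℙ K (Fin 2 → K))) := hfix ▸ Or.inr rfl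
      exact lineInf_ne_linePt _ (Set.mem_singleton_iff.1 h2).symm
    have := congrArg (fun z => h⁻¹ * z ^ p * h) he
    rw [ha, aff_one_pow, CharP.cast_eq_zero, zero_mul, aff_one, conj_pow] at this
    simpa [mul_assoc] using this
  · rintro ⟨y, hy, hgy⟩ hfin hp'
    have hpos := hfin.orderOf_pos
    have ha : a ≠ 1 := by
      rintro rfl
      have hb : b ≠ 0 := fun hb => hg (conj_eq_one_iff.1 (he.trans (aff_eq_one.2 ⟨rfl, hb⟩)))
      rw [fixSet_aff_one hb] at hfix
      have h1 : h • y ∈ ({lineInf} : Set (ℙ K (Fin 2 → K))) := hfix ▸ ⟨y, hgy, rfl⟩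
      exact hy (smul_left_cancel h (by rw [Set.mem_singleton_iff.1 h1, hh]))
    obtain ⟨m, hm⟩ := hp'
    obtain ⟨c, hc⟩ := aff_pow_fst a b (p * m)
    have h1 : aff a b ^ (p * m) = 1 := by
      rw [← he, conj_pow, ← hm, pow_orderOf_eq_one, mul_one, mul_inv_cancel]
    have ham : a ^ m = 1 := unit_eq_one_of_pow p (aff_eq_one.1 (hc.symm.trans h1)).1
    obtain ⟨d, hd⟩ := aff_pow_fst a b m
    rw [ham] at hd
    have hm0 : 0 < m := Nat.pos_of_ne_zero fun h0 => by rw [h0, mul_zero] at hm; omega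
    have hgm : g ^ m ≠ 1 := pow_ne_one_of_lt_orderOf hm0.ne'
      (hm ▸ (lt_mul_iff_one_lt_left hm0).2 hp.out.one_lt)
    have hd0 : d ≠ 0 := fun h0 => hgm (conj_eq_one_iff.1 (by rw [← conj_pow, he, hd, h0, aff_one]))
    have h3 : linePt (b / (1 - a)) ∈ fixSet (aff a b) := by rw [fixSet_aff_of_ne ha]; exact Or.inr rfl
    have h4 : linePt (b / (1 - a)) ∈ fixSet (aff a b ^ m) := by
      rw [mem_fixSet] at h3 ⊢
      have hall : ∀ n : ℕ, aff a b ^ n • linePt (b / (1 - a)) = linePt (b / (1 - a)) := by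
        intro n
        induction n with
        | zero => simp
        | succ n ih => rw [pow_succ, mul_smul, h3, ih]
      exact hall m
    rw [hd, fixSet_aff_one hd0] at h4
    exact lineInf_ne_linePt _ (Set.mem_singleton_iff.1 h4).symm

end CfsgLib.Classical.Dickson
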