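/-
Point stabilisers in finite subgroups of `PGL_2(K)`.
-/
import Cfsg.Agent.Lib.Classical.Dickson.PGLPoints

set_option autoImplicit false

namespace CfsgLib.Classical.Dickson

open Matrix Projectivization CfsgLib.Transfer
open scoped MatrixGroups LinearAlgebra.Projectivization

variable {K : Type*} [Field K] (p : ℕ) [hp : Fact p.Prime] [CharP K p]
  (G : Subgroup (Matrix.ProjGenLinGroup (Fin 2) K)) [Finite G]

theorem mem_stab_iff {g : G} {x : ℙ K (Fin 2 → K)} :
    g ∈ MulAction.stabilizer G x ↔ (g : Matrix.ProjGenLinGroup (Fin 2) K) • x = x := Iff.rfl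

theorem exists_stab_data (x : ℙ K (Fin 2 → K)) :
    ∃ (U : Subgroup G) (k : ℕ), U ≤ MulAction.stabilizer G x ∧
      (∀ g : G, g ∈ U ↔ g = 1 ∨ fixSet (g : Matrix.ProjGenLinGroup (Fin 2) K) = {x}) ∧ IsPGroup p U ∧
      Nat.card (MulAction.stabilizer G x) = Nat.card U * k ∧ 0 < k ∧ k.Coprime p ∧ k ∣ Nat.card U - 1 ∧
      (U = ⊥ → IsCyclic (MulAction.stabilizer G x)) ∧
      MulAction.stabilizer G x ≤ Subgroup.normalizer (U : Set G) := by
  classical
  obtain ⟨h, hh⟩ := exists_to_inf x
  have hconj : ∀ g : G, g ∈ MulAction.stabilizer G x →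
      ∃ (a : Kˣ) (b : K), h * (g : Matrix.ProjGenLinGroup (Fin 2) K) * h⁻¹ = aff a b := fun g hg =>
    exists_aff_of_fix_inf (by rw [mul_smul, mul_smul, inv_smul_eq_iff.2 hh.symm, (mem_stab_iff G).1 hg, hh])
  let μ0 : MulAction.stabilizer G x → Kˣ := fun g => (hconj g.1 g.2).choose
  let τ : MulAction.stabilizer G x → K := fun g => (hconj g.1 g.2).choose_spec.choose
  have hμτ : ∀ g : MulAction.stabilizer G x,
      h * ((g : G) : Matrix.ProjGenLinGroup (Fin 2) K) * h⁻¹ = aff (μ0 g) (τ g) := fun g =>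
    (hconj g.1 g.2).choose_spec.choose_spec
  have hmul : ∀ g g' : MulAction.stabilizer G x, μ0 (g * g') = μ0 g * μ0 g' := fun g g' => by
    have e : aff (μ0 (g * g')) (τ (g * g')) = aff (μ0 g) (τ g) * aff (μ0 g') (τ g') := by
      rw [← hμτ, ← hμτ, ← hμτ, Subgroup.coe_mul, Subgroup.coe_mul]
      group
    rw [aff_mul] at e
    exact (aff_inj e).1
  let μ : MulAction.stabilizer G x →* Kˣ := MonoidHom.mk' μ0 hmul
  set U : Subgroup G := μ.ker.map (MulAction.stabilizer G x).subtype with hU
  have hfixeq : ∀ g : MulAction.stabilizer G x, fixSet (aff (μ0 g) (τ g)) =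
      (fun y => h • y) '' fixSet ((g : G) : Matrix.ProjGenLinGroup (Fin 2) K) := fun g => by
    rw [← hμτ, fixSet_conj]
  have hmem : ∀ g : G, g ∈ U ↔ g = 1 ∨ fixSet (g : Matrix.ProjGenLinGroup (Fin 2) K) = {x} := by
    intro g
    constructor
    · rintro ⟨g, hg, rfl⟩
      have hg' : μ0 g = 1 := hg
      by_cases ht : τ g = 0
      · left
        have h1 := hμτ g
        rw [hg', ht, aff_one, conj_eq_one_iff] at h1
        exact Subtype.ext h1
      · right
        have e := hfixeq g
        rw [hg', fixSet_aff_one ht] at e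
        apply Set.Subset.antisymm
        · intro y hy
          have h1 : h • y ∈ ({lineInf} : Set (ℙ K (Fin 2 → K))) := e ▸ ⟨y, hy, rfl⟩
          exact smul_left_cancel h ((Set.mem_singleton_iff.1 h1).trans hh.symm)
        · rintro y rfl
          exact g.2
    · intro hg
      have hgS : g ∈ MulAction.stabilizer G x := by
        rcases hg with rfl | hg
        · exact one_mem _
        · exact (show x ∈ fixSet (g : Matrix.ProjGenLinGroup (Fin 2) K) by rw [hg]; rfl)
      refine ⟨⟨g, hgS⟩, ?_, rfl⟩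
      show μ0 ⟨g, hgS⟩ = 1
      by_contra hne
      rcases hg with rfl | hg
      · exact hne (map_one μ)
      · have e := hfixeq ⟨g, hgS⟩
        rw [fixSet_aff_of_ne hne, hg, Set.image_singleton, hh] at e
        have h2 : linePt (τ ⟨g, hgS⟩ / (1 - μ0 ⟨g, hgS⟩)) ∈ ({lineInf} : Set (ℙ K (Fin 2 → K))) := e ▸ Or.inr rfl
        exact lineInf_ne_linePt _ (Set.mem_singleton_iff.1 h2).symm
  have hUcard : Nat.card U = Nat.card μ.ker := Subgroup.card_map_of_injective Subtype.val_injective
  have hcard : Nat.card (MulAction.stabilizer G x) = Nat.card U * Nat.card μ.range := by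
    rw [Subgroup.card_eq_card_quotient_mul_card_subgroup μ.ker, mul_comm, hUcard,
      Nat.card_congr (QuotientGroup.quotientKerEquivRange μ).toEquiv]
  have hUp : IsPGroup p U := by
    intro u
    refine ⟨1, Subtype.ext ?_⟩
    rw [pow_one, SubmonoidClass.coe_pow, OneMemClass.coe_one]
    rcases (hmem u.1).1 u.2 with h1 | h1
    · rw [h1, one_pow]
    · refine Subtype.ext ?_
      rw [SubmonoidClass.coe_pow, OneMemClass.coe_one]
      by_cases hne : ((u : G) : Matrix.ProjGenLinGroup (Fin 2) K) = 1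
      · rw [hne, one_pow]
      · exact (order_of_fix p hne (show x ∈ fixSet _ by rw [h1]; rfl)).1 h1
  have hcop : (Nat.card μ.range).Coprime p := by
    rw [Nat.coprime_comm, hp.out.coprime_iff_not_dvd]
    intro hd
    haveI : Finite μ.range := Finite.of_surjective _ μ.rangeRestrict_surjective
    obtain ⟨a, ha⟩ := exists_prime_orderOf_dvd_card' p hd
    have h1 : (a : Kˣ) = 1 := by
      have := unit_eq_one_of_pow p (a := (a : Kˣ)) (m := 1) (by
        rw [mul_one, ← SubmonoidClass.coe_pow, ← ha, pow_orderOf_eq_one, OneMemClass.coe_one])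
      rwa [pow_one] at this
    rw [show a = 1 from Subtype.ext h1, orderOf_one] at ha
    exact hp.out.ne_one ha.symm
  have hdvd : Nat.card μ.range ∣ Nat.card U - 1 := by
    let B : Set Kˣ := {t | h⁻¹ * aff 1 (t : K) * h ∈ G}
    have hstab : ∀ m ∈ μ.range, ∀ t ∈ B, m * t ∈ B := by
      rintro _ ⟨g, rfl⟩ t ht
      show h⁻¹ * aff 1 ((μ0 g * t : Kˣ) : K) * h ∈ G
      have h1 := G.mul_mem (G.mul_mem (g : G).2 ht) (G.inv_mem (g : G).2)
      have e : aff (μ0 g) (τ g) * aff 1 (t : K) = aff 1 ((μ0 g * t : Kˣ) : K) * aff (μ0 g) (τ g) := by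
        rw [aff_mul, aff_mul]
        simp [Units.val_mul, add_comm]
      rw [eq_comm, ← eq_mul_inv_iff_mul_eq] at e
      rw [e, ← hμτ g]
      convert h1 using 1
      group
    have hB : Nat.card B = Nat.card U - 1 := by
      have hin : ∀ t : Kˣ, ∀ ht : t ∈ B, (⟨_, ht⟩ : G) ∈ U := fun t ht => (hmem _).2 (Or.inr (by
        show fixSet (h⁻¹ * aff 1 (t : K) * h) = {x}
        conv_lhs => rw [show h⁻¹ * aff 1 (t : K) * h = h⁻¹ * aff 1 (t : K) * h⁻¹⁻¹ by rw [inv_inv]]
        rw [fixSet_conj, fixSet_aff_one t.ne_zero, Set.image_singleton, inv_smul_eq_iff.2 hh.symm]))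
      let e : B → {u : U // u ≠ 1} := fun t => ⟨⟨_, hin t.1 t.2⟩, fun h1 => by
        have h2 : h⁻¹ * aff 1 ((t : Kˣ) : K) * h = 1 := congrArg (fun u : U => u.1.1) h1
        have h3 := congrArg (fun z => h * z * h⁻¹) h2
        have h4 : aff (1 : Kˣ) ((t : Kˣ) : K) = 1 := by simpa [mul_assoc] using h3
        exact t.1.ne_zero (aff_eq_one.1 h4).2⟩
      have hbij : Function.Bijective e := by
        constructor
        · intro s t hst
          have h2 : h⁻¹ * aff 1 ((s : Kˣ) : K) * h = h⁻¹ * aff 1 ((t : Kˣ) : K) * h :=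
            congrArg (fun u : {u : U // u ≠ 1} => u.1.1.1) hst
          exact Subtype.ext (Units.ext (aff_inj (mul_left_cancel (mul_right_cancel h2))).2)
        · rintro ⟨⟨u, hu⟩, hu1⟩
          obtain ⟨g, hg, rfl⟩ := hu
          have hg' : μ0 g = 1 := hg
          have h1 := hμτ g
          rw [hg'] at h1
          have ht : τ g ≠ 0 := fun h0 => hu1 (Subtype.ext (Subtype.ext (by
            rw [h0, aff_one, conj_eq_one_iff] at h1
            exact h1)))
          have hval : h⁻¹ * aff 1 (τ g) * h = ((g : G) : Matrix.ProjGenLinGroup (Fin 2) K) := by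
            rw [← h1]; group
          exact ⟨⟨Units.mk0 _ ht, show h⁻¹ * aff 1 (τ g) * h ∈ G by rw [hval]; exact (g : G).2⟩,
            Subtype.ext (Subtype.ext (Subtype.ext hval))⟩
      haveI : Fintype U := Fintype.ofFinite _
      rw [Nat.card_congr (Equiv.ofBijective e hbij), Nat.card_eq_fintype_card, Fintype.card_subtype_compl,
        Fintype.card_subtype_eq, Nat.card_eq_fintype_card]
    have hpre : B = QuotientGroup.mk (s := μ.range) ⁻¹' (QuotientGroup.mk '' B) := by
      refine Set.Subset.antisymm (Set.subset_preimage_image _ _) ?_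
      rintro t ⟨s, hs, hst⟩
      have := hstab _ (QuotientGroup.eq.1 hst) s hs
      rwa [mul_comm (s⁻¹ * t), mul_inv_cancel_left] at this
    rw [← hB, hpre, Nat.card_congr (QuotientGroup.preimageMkEquivSubgroupProdSet μ.range _), Nat.card_prod]
    exact dvd_mul_right _ _
  haveI : Finite μ.range := Finite.of_surjective _ μ.rangeRestrict_surjective
  refine ⟨U, Nat.card μ.range, Subgroup.map_subtype_le _, hmem, hUp, hcard, Nat.card_pos, hcop, hdvd, ?_, ?_⟩
  · intro hbot
    have hinj : Function.Injective μ := (MonoidHom.ker_eq_bot_iff μ).1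
      ((Subgroup.map_eq_bot_iff_of_injective _ Subtype.val_injective).1 hbot)
    exact isCyclic_of_subgroup_isDomain ((Units.coeHom K).comp μ) (Units.val_injective.comp hinj)
  · intro g hg
    rw [Subgroup.mem_normalizer_iff]
    intro u
    have key : ∀ g : G, g ∈ MulAction.stabilizer G x → ∀ u, u ∈ U → g * u * g⁻¹ ∈ U := fun g hg u hu => by
      refine (hmem _).2 ?_
      rcases (hmem u).1 hu with rfl | h1
      · exact Or.inl (by group)
      · refine Or.inr ?_
        rw [Subgroup.coe_mul, Subgroup.coe_mul, Subgroup.coe_inv, fixSet_conj, h1, Set.image_singleton,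
          (mem_stab_iff G).1 hg]
    refine ⟨key g hg u, fun hu => ?_⟩
    have := key g⁻¹ (inv_mem hg) _ hu
    rwa [inv_inv, show g⁻¹ * (g * u * g⁻¹) * g = u by group] at this

end CfsgLib.Classical.Dickson
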