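/-
Identification of `A_4`, `S_4` and `A_5` from the absence of elements commuting across two primes.
-/
import Cfsg.Agent.Lib.SmallGroups.Basic
import Cfsg.Agent.S0494

set_option autoImplicit false

namespace CfsgLib.Classical.Dickson

variable {G : Type*} [Group G] [Finite G]

/-- A bijection of a set with fewer elements than `r` killed by a prime `r` is the identity. -/
theorem perm_eq_one_of_small {r : ℕ} (hr : r.Prime) {T : Type*} [Finite T] (hT : Nat.card T < r)
    (σ : Equiv.Perm T) (h : σ ^ r = 1) : σ = 1 := by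
  rcases (Nat.dvd_prime hr).1 (orderOf_dvd_of_pow_eq_one h) with h1 | hr'
  · exact orderOf_eq_one_iff.1 h1
  · have hd := orderOf_dvd_natCard σ
    rw [hr', Nat.card_perm, hr.dvd_factorial] at hd
    omega

/-- An element of prime order `r` fixes each element of a small invariant set. -/
theorem commute_of_small {r : ℕ} (hr : r.Prime) {h : G} (hh : h ^ r = 1) (S : Set G) (hS : S.ncard < r)
    (hinv : ∀ x ∈ S, h * x * h⁻¹ ∈ S) {x : G} (hx : x ∈ S) : Commute h x := by
  let f : S → S := fun y => ⟨h * y * h⁻¹, hinv _ y.2⟩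
  have hf : Function.Injective f := fun a b e => Subtype.ext (by simpa [f] using e)
  let σ : Equiv.Perm S := Equiv.ofBijective f (Finite.injective_iff_bijective.1 hf)
  have hit : ∀ (n : ℕ) (y : S), ((σ ^ n) y : G) = h ^ n * y * (h ^ n)⁻¹ := by
    intro n
    induction n with
    | zero => simp
    | succ n ih =>
      intro y
      rw [pow_succ', Equiv.Perm.mul_apply]
      show h * ((σ ^ n) y : G) * h⁻¹ = _
      rw [ih, pow_succ']
      group
  have h1 := perm_eq_one_of_small hr (T := S) (by rw [Nat.card_coe_set_eq]; exact hS) σ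
    (Equiv.ext fun y => Subtype.ext (by rw [hit, hh]; simp))
  have h2 := congrArg Subtype.val (Equiv.congr_fun h1 ⟨x, hx⟩)
  show h * x = x * h
  exact mul_inv_eq_iff_eq_mul.1 h2

omit [Finite G] in
theorem zpowers_eq_of_mem {r : ℕ} [hr : Fact r.Prime] {P : Subgroup G} (hP : Nat.card P = r) {x : G} (hx : x ∈ P)
    (hx1 : x ≠ 1) : Subgroup.zpowers x = P := by
  haveI : Finite P := Nat.finite_of_card_ne_zero (hP ▸ hr.out.ne_zero)
  refine Subgroup.eq_of_le_of_card_ge (Subgroup.zpowers_le.2 hx) ?_
  have h := Subgroup.orderOf_dvd_natCard P hx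
  rw [hP] at h
  rw [hP, Nat.card_zpowers, ((Nat.dvd_prime hr.out).1 h).resolve_left fun h1 => hx1 (orderOf_eq_one_iff.1 h1)]

/-- Counting the elements of order `r` when the Sylow `r`-subgroups have order `r`. -/
theorem card_orderOf_eq {r : ℕ} [hr : Fact r.Prime] (hP : ∀ P : Sylow r G, Nat.card (P : Subgroup G) = r) :
    Nat.card {x : G // orderOf x = r} = Nat.card (Sylow r G) * (r - 1) := by
  classical
  haveI : Fintype (Sylow r G) := Fintype.ofFinite _
  let e : (Σ P : Sylow r G, {x : (P : Subgroup G) // x ≠ 1}) → {x : G // orderOf x = r} := fun s =>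
    ⟨s.2.1, by
      have h := Subgroup.orderOf_dvd_natCard (s.1 : Subgroup G) s.2.1.2
      rw [hP] at h
      exact ((Nat.dvd_prime hr.out).1 h).resolve_left fun h1 => s.2.2 (Subtype.ext (orderOf_eq_one_iff.1 h1))⟩
  have he : Function.Bijective e := by
    constructor
    · rintro ⟨P, ⟨x, hx⟩, hx1⟩ ⟨Q, ⟨y, hy⟩, hy1⟩ h
      obtain rfl : x = y := congrArg Subtype.val h
      have hx' : x ≠ 1 := fun h => hx1 (Subtype.ext h)
      obtain rfl : P = Q := Sylow.ext ((zpowers_eq_of_mem (hP P) hx hx').symm.trans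
        (zpowers_eq_of_mem (hP Q) hy hx'))
      rfl
    · rintro ⟨x, hx⟩
      have hz : IsPGroup r (Subgroup.zpowers x) := IsPGroup.of_card (n := 1) (by rw [Nat.card_zpowers, hx, pow_one])
      obtain ⟨P, hP'⟩ := hz.exists_le_sylow
      exact ⟨⟨P, ⟨x, hP' (Subgroup.mem_zpowers x)⟩, fun h => by
        rw [show x = 1 from congrArg Subtype.val h, orderOf_one] at hx
        exact hr.out.ne_one hx.symm⟩, rfl⟩
  rw [← Nat.card_congr (Equiv.ofBijective e he), Nat.card_sigma, Finset.sum_congr rfl (fun P _ => ?_),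
    Finset.sum_const, smul_eq_mul, Finset.card_univ, Nat.card_eq_fintype_card]
  haveI : Fintype (P : Subgroup G) := Fintype.ofFinite _
  rw [Nat.card_eq_fintype_card, Fintype.card_subtype_compl, Fintype.card_subtype_eq, ← Nat.card_eq_fintype_card,
    hP]

theorem cube_zmod_five : ∀ z : ZMod 5, z ^ 3 - 1 = 0 → z - 1 = 0 := by decide

theorem exists_involution_commute {b : G} (hb : orderOf b = 3) (hn : ∀ g : G, g * b * g⁻¹ ∈ ({b, b⁻¹} : Set G))
    (hcard : 4 ∣ Nat.card G) : ∃ a : G, orderOf a = 2 ∧ Commute a b := by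
  classical
  haveI : Fintype G := Fintype.ofFinite G
  haveI : Fact (Nat.Prime 2) := ⟨Nat.prime_two⟩
  obtain ⟨P, hP⟩ := Sylow.exists_subgroup_card_pow_prime 2 (n := 2) (G := G) (by simpa using hcard)
  obtain ⟨x, y, hxy, he⟩ : ∃ x y : P, x ≠ y ∧ (x : G) * b * (x : G)⁻¹ = (y : G) * b * (y : G)⁻¹ := by
    by_contra hcon
    push Not at hcon
    have hle := Nat.card_le_card_of_injective (fun x : P => (⟨(x : G) * b * (x : G)⁻¹, hn _⟩ : ({b, b⁻¹} : Set G)))
      fun x y h => by_contra fun hne => hcon x y hne (congrArg Subtype.val h)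
    rw [hP, Nat.card_coe_set_eq] at hle
    have := hle.trans (Set.ncard_insert_le _ _)
    rw [Set.ncard_singleton] at this
    omega
  set z : P := y⁻¹ * x
  have hz1 : z ≠ 1 := fun h => hxy (inv_mul_eq_one.1 h).symm
  have hzc : Commute (z : G) b := by
    show ((y : G)⁻¹ * x) * b = b * ((y : G)⁻¹ * x)
    have := congrArg (fun w => (y : G)⁻¹ * w * x) he
    simpa [mul_assoc] using this
  have hzn : orderOf z ∣ 2 ^ 2 := hP ▸ orderOf_dvd_natCard z
  obtain ⟨i, hi, hzi⟩ := (Nat.dvd_prime_pow Nat.prime_two).1 hzn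
  have hi0 : 0 < i := Nat.pos_of_ne_zero fun h => hz1 (orderOf_eq_one_iff.1 (by rw [hzi, h, pow_zero]))
  refine ⟨(z : G) ^ 2 ^ (i - 1), ?_, hzc.pow_left _⟩
  rw [← SubmonoidClass.coe_pow, Subgroup.orderOf_coe, orderOf_pow' _ (by positivity), hzi]
  interval_cases i <;> rfl

theorem card_sylow_three (hcard : Nat.card G = 12 ∨ Nat.card G = 24)
    (hno : ∀ a b : G, orderOf a = 2 → orderOf b = 3 → ¬ Commute a b) : Nat.card (Sylow 3 G) = 4 := by
  haveI : Fact (Nat.Prime 3) := ⟨Nat.prime_three⟩
  obtain ⟨P⟩ : Nonempty (Sylow 3 G) := inferInstance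
  have hPc : ∀ P : Sylow 3 G, Nat.card (P : Subgroup G) = 3 := fun P => by
    rcases hcard with h | h
    · exact (SmallGroups.card_sylow_eq (a := 1) (m := 4) (by rw [h]; rfl) (by norm_num) P).trans (pow_one 3)
    · exact (SmallGroups.card_sylow_eq (a := 1) (m := 8) (by rw [h]; rfl) (by norm_num) P).trans (pow_one 3)
  have hmod := SmallGroups.mod_eq_one_card_sylow (p := 3) (G := G)
  have hd : Nat.card (Sylow 3 G) ∣ 8 := by
    rcases hcard with h | h
    · exact (SmallGroups.card_sylow_dvd_of_card_eq (a := 1) (m := 4) (by rw [h]; rfl) (by norm_num)).trans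
        (by norm_num)
    · exact SmallGroups.card_sylow_dvd_of_card_eq (a := 1) (m := 8) (by rw [h]; rfl) (by norm_num)
  have hle := Nat.le_of_dvd (by norm_num) hd
  have h1 : Nat.card (Sylow 3 G) ≠ 1 := by
    intro h1
    have hN := SmallGroups.sylow_normal_of_card_eq_one h1 P
    obtain ⟨⟨b, hb⟩, hb1⟩ : ∃ b : (P : Subgroup G), b ≠ 1 := by
      haveI : Nontrivial (P : Subgroup G) := Finite.one_lt_card_iff_nontrivial.1 (by rw [hPc]; norm_num)
      exact exists_ne 1
    have hb1' : b ≠ 1 := fun h => hb1 (Subtype.ext h)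
    have hob : orderOf b = 3 := by
      rw [← Nat.card_zpowers, zpowers_eq_of_mem (hPc P) hb hb1', hPc]
    have hmem : ∀ g : G, g * b * g⁻¹ ∈ ({b, b⁻¹} : Set G) := fun g => by
      have h' : g * b * g⁻¹ ∈ Subgroup.zpowers b := by
        rw [zpowers_eq_of_mem (hPc P) hb hb1']
        exact hN.conj_mem b hb g
      obtain ⟨k, hk⟩ := Subgroup.mem_zpowers_iff.1 h'
      rw [← zpow_mod_orderOf, hob] at hk
      have h0 := Int.emod_nonneg k (show ((3 : ℕ) : ℤ) ≠ 0 by decide)
      have h3 := Int.emod_lt_of_pos k (show (0 : ℤ) < ((3 : ℕ) : ℤ) by decide)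
      obtain ⟨m, hm⟩ := Int.eq_ofNat_of_zero_le h0
      rw [hm, zpow_natCast] at hk
      rw [hm] at h3
      have hm3 : m < 3 := by exact_mod_cast h3
      interval_cases m
      · rw [pow_zero, eq_comm, conj_eq_one_iff] at hk
        exact absurd hk hb1'
      · exact Or.inl (by rw [← hk, pow_one])
      · refine Or.inr ?_
        rw [← hk]
        refine eq_inv_of_mul_eq_one_left ?_
        rw [← pow_succ, show 2 + 1 = orderOf b from hob.symm, pow_orderOf_eq_one]
    obtain ⟨a, ha, hab⟩ := exists_involution_commute hob hmem (by rcases hcard with h | h <;> rw [h] <;> norm_num)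
    exact hno a b ha hob hab
  interval_cases Nat.card (Sylow 3 G) <;> omega

theorem sylow_three_action_injective (hcard : Nat.card G = 12 ∨ Nat.card G = 24)
    (hno : ∀ a b : G, orderOf a = 2 → orderOf b = 3 → ¬ Commute a b) :
    Function.Injective (MulAction.toPermHom G (Sylow 3 G)) := by
  haveI : Fact (Nat.Prime 3) := ⟨Nat.prime_three⟩
  haveI : Fact (Nat.Prime 2) := ⟨Nat.prime_two⟩
  have h4 := card_sylow_three hcard hno
  obtain ⟨P, Q, hPQ⟩ : ∃ P Q : Sylow 3 G, P ≠ Q := by
    haveI : Nontrivial (Sylow 3 G) := Finite.one_lt_card_iff_nontrivial.1 (by rw [h4]; norm_num)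
    exact exists_pair_ne _
  rw [← MonoidHom.ker_eq_bot_iff]
  set K := (MulAction.toPermHom G (Sylow 3 G)).ker with hK
  have hKN : ∀ R : Sylow 3 G, K ≤ Subgroup.normalizer ((R : Subgroup G) : Set G) := by
    intro R k hk
    exact Sylow.smul_eq_iff_mem_normalizer.1 (Equiv.congr_fun (MonoidHom.mem_ker.1 hk) R)
  have hn3 : ¬ 3 ∣ Nat.card K := by
    intro h3
    obtain ⟨⟨b, hbK⟩, hb⟩ := exists_prime_orderOf_dvd_card' 3 h3
    rw [← Subgroup.orderOf_coe] at hb
    have hb' : IsPGroup 3 (Subgroup.zpowers b) :=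
      IsPGroup.of_card (n := 1) (by rw [Nat.card_zpowers, hb, pow_one])
    have hin : ∀ R : Sylow 3 G, b ∈ (R : Subgroup G) := by
      intro R
      have h1 := hb'.inf_normalizer_sylow R
      exact (le_of_eq h1 ⟨Subgroup.mem_zpowers b, hKN R hbK⟩).2
    have hne : b ≠ 1 := fun h => by subst h; simp at hb
    have hPc : ∀ R : Sylow 3 G, Nat.card (R : Subgroup G) = 3 := fun R => by
      rcases hcard with h | h
      · exact (SmallGroups.card_sylow_eq (a := 1) (m := 4) (by rw [h]; rfl) (by norm_num) R).trans (pow_one 3)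
      · exact (SmallGroups.card_sylow_eq (a := 1) (m := 8) (by rw [h]; rfl) (by norm_num) R).trans (pow_one 3)
    exact hPQ (Sylow.ext ((zpowers_eq_of_mem (hPc P) (hin P) hne).symm.trans
      (zpowers_eq_of_mem (hPc Q) (hin Q) hne)))
  have hN : Nat.card (Subgroup.normalizer ((P : Subgroup G) : Set G)) * 4 = Nat.card G := by
    rw [← SmallGroups.card_sylow_mul_card_normalizer P, h4, mul_comm]
  have hdvd := Subgroup.card_dvd_of_le (hKN P)
  have hKle : Nat.card K ∣ 2 := by
    have hd6 : Nat.card K ∣ 6 := hdvd.trans (by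
      rcases hcard with h | h
      · exact ⟨2, by omega⟩
      · exact ⟨1, by omega⟩)
    exact ((Nat.prime_three.coprime_iff_not_dvd.2 hn3).symm.dvd_of_dvd_mul_right (show Nat.card K ∣ 2 * 3 from hd6))
  rcases (Nat.dvd_prime Nat.prime_two).1 hKle with h | h
  · exact Subgroup.card_eq_one.1 h
  · exfalso
    obtain ⟨⟨z, hzK⟩, hz⟩ := exists_prime_orderOf_dvd_card' 2 (dvd_of_eq h.symm)
    rw [← Subgroup.orderOf_coe] at hz
    obtain ⟨b, hb⟩ := exists_prime_orderOf_dvd_card' 3 (G := G) (by rcases hcard with h | h <;> rw [h] <;> norm_num)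
    refine hno z b hz hb (commute_of_small (r := 3) Nat.prime_three (hb ▸ pow_orderOf_eq_one b)
      {x | x ∈ K ∧ x ≠ 1} ?_ (fun x hx => ⟨(hK ▸ MonoidHom.normal_ker _ : K.Normal).conj_mem x hx.1 b,
        fun h => hx.2 (conj_eq_one_iff.1 h)⟩) ⟨hzK, fun h => by
          simp only at hz
          rw [h, orderOf_one] at hz
          norm_num at hz⟩).symm
    have hsub : {x | x ∈ K ∧ x ≠ 1} ⊆ (K : Set G) := fun x hx => hx.1
    have := Set.ncard_le_ncard hsub (Set.toFinite _)
    rw [← Nat.card_coe_set_eq (K : Set G)] at this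
    simp only [SetLike.coe_sort_coe, h] at this
    omega

theorem alt_four_of (hcard : Nat.card G = 12)
    (hno : ∀ a b : G, orderOf a = 2 → orderOf b = 3 → ¬ Commute a b) : Nonempty (G ≃* alternatingGroup (Fin 4)) := by
  classical
  haveI : Fintype (Sylow 3 G) := Fintype.ofFinite _
  let e : Sylow 3 G ≃ Fin 4 := Fintype.equivFinOfCardEq (by
    rw [← Nat.card_eq_fintype_card, card_sylow_three (Or.inl hcard) hno])
  let f := e.permCongrHom.toMonoidHom.comp (MulAction.toPermHom G (Sylow 3 G))
  have hinj : Function.Injective f :=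
    e.permCongrHom.injective.comp (sylow_three_action_injective (Or.inl hcard) hno)
  have hidx : f.range.index = 2 := by
    have h := Subgroup.card_mul_index f.range
    rw [← Nat.card_congr (MonoidHom.ofInjective hinj).toEquiv, Nat.card_perm, Nat.card_fin, hcard] at h
    norm_num [Nat.factorial] at h
    omega
  exact ⟨(MonoidHom.ofInjective hinj).trans
    (MulEquiv.subgroupCongr (Equiv.Perm.eq_alternatingGroup_of_index_eq_two hidx))⟩

theorem sym_four_of (hcard : Nat.card G = 24)
    (hno : ∀ a b : G, orderOf a = 2 → orderOf b = 3 → ¬ Commute a b) : Nonempty (G ≃* Equiv.Perm (Fin 4)) := by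
  classical
  haveI : Fintype (Sylow 3 G) := Fintype.ofFinite _
  let e : Sylow 3 G ≃ Fin 4 := Fintype.equivFinOfCardEq (by
    rw [← Nat.card_eq_fintype_card, card_sylow_three (Or.inr hcard) hno])
  let f := e.permCongrHom.toMonoidHom.comp (MulAction.toPermHom G (Sylow 3 G))
  refine ⟨MulEquiv.ofBijective f ((Nat.bijective_iff_injective_and_card f).2
    ⟨e.permCongrHom.injective.comp (sylow_three_action_injective (Or.inr hcard) hno), ?_⟩)⟩
  rw [hcard, Nat.card_perm, Nat.card_fin]
  rfl

theorem alt_five_of (hcard : Nat.card G = 60)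
    (hno2 : ∀ a b : G, orderOf a = 2 → orderOf b = 5 → ¬ Commute a b)
    (hno3 : ∀ a b : G, orderOf a = 3 → orderOf b = 5 → ¬ Commute a b) :
    Nonempty (G ≃* alternatingGroup (Fin 5)) := by
  classical
  haveI : Fintype G := Fintype.ofFinite G
  haveI : Fact (Nat.Prime 2) := ⟨Nat.prime_two⟩
  haveI : Fact (Nat.Prime 3) := ⟨Nat.prime_three⟩
  haveI : Fact (Nat.Prime 5) := ⟨by norm_num⟩
  obtain ⟨h, hh⟩ := exists_prime_orderOf_dvd_card' 5 (G := G) (by rw [hcard]; norm_num)
  have hh5 : h ^ 5 = 1 := hh ▸ pow_orderOf_eq_one h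
  have hP5 : ∀ P : Sylow 5 G, Nat.card (P : Subgroup G) = 5 := fun P =>
    (SmallGroups.card_sylow_eq (a := 1) (m := 12) (by rw [hcard]; rfl) (by norm_num) P).trans (pow_one 5)
  have hP3 : ∀ P : Sylow 3 G, Nat.card (P : Subgroup G) = 3 := fun P =>
    (SmallGroups.card_sylow_eq (a := 1) (m := 20) (by rw [hcard]; rfl) (by norm_num) P).trans (pow_one 3)
  have hc5 : 24 ≤ Nat.card {x : G // orderOf x = 5} := by
    rw [card_orderOf_eq hP5]
    have hne : Nat.card (Sylow 5 G) ≠ 1 := by
      intro h1
      obtain ⟨P⟩ : Nonempty (Sylow 5 G) := inferInstance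
      have hN := SmallGroups.sylow_normal_of_card_eq_one h1 P
      obtain ⟨Q, hQ⟩ := (IsPGroup.of_card (p := 5) (n := 1) (G := Subgroup.zpowers h)
        (by rw [Nat.card_zpowers, hh, pow_one])).exists_le_sylow
      haveI : Subsingleton (Sylow 5 G) := (Nat.card_eq_one_iff_unique.1 h1).1
      obtain rfl := Subsingleton.elim Q P
      have hz : Subgroup.zpowers h = (Q : Subgroup G) := zpowers_eq_of_mem (hP5 Q) (hQ (Subgroup.mem_zpowers h))
        fun he => by rw [he, orderOf_one] at hh; norm_num at hh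
      obtain ⟨b, hb⟩ := exists_prime_orderOf_dvd_card' 3 (G := G) (by rw [hcard]; norm_num)
      have hcomm : Commute b h := by
        have hS : ({x | orderOf x = 5} ∩ (Q : Set G)).ncard < 5 := by
          have h1 : ({x | orderOf x = 5} ∩ (Q : Set G)) ⊆ (Q : Set G) \ {1} := fun x hx => ⟨hx.2, fun he => by
            have := hx.1
            rw [Set.mem_ofPred_eq, show x = 1 from he, orderOf_one] at this
            norm_num at this⟩
          have h2 := Set.ncard_le_ncard h1 (Set.toFinite _)
          rw [Set.ncard_sdiff_singleton_of_mem (one_mem Q)] at h2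
          have h3 : (Q : Set G).ncard = 5 := (Nat.card_coe_set_eq _).symm.trans (hP5 Q)
          omega
        have hb3 : b ^ 3 = 1 := hb ▸ pow_orderOf_eq_one b
        by_cases hlt : ({x | orderOf x = 5} ∩ (Q : Set G)).ncard < 3
        · exact commute_of_small (r := 3) Nat.prime_three hb3 _ hlt (fun x hx => ⟨by
            rw [Set.mem_ofPred_eq, show b * x * b⁻¹ = MulAut.conj b x from rfl, MulEquiv.orderOf_eq]; exact hx.1,
            hN.conj_mem x hx.2 b⟩) ⟨hh, hQ (Subgroup.mem_zpowers h)⟩
        · -- `b` induces an automorphism of order dividing three of a cyclic group of order five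
          have hmem : b * h * b⁻¹ ∈ Subgroup.zpowers h := by
            rw [hz]; exact hN.conj_mem h (hQ (Subgroup.mem_zpowers h)) b
          obtain ⟨i, hi⟩ := Subgroup.mem_zpowers_iff.1 hmem
          have hpow : ∀ n : ℕ, b ^ n * h * (b ^ n)⁻¹ = h ^ (i ^ n) := by
            intro n
            induction n with
            | zero => simp
            | succ n ih =>
              rw [pow_succ', show b * b ^ n * h * (b * b ^ n)⁻¹ = b * (b ^ n * h * (b ^ n)⁻¹) * b⁻¹ by group, ih,
                ← conj_zpow, ← hi, ← zpow_mul, ← pow_succ']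
          have h3 : (5 : ℤ) ∣ i ^ 3 - 1 := by
            have := hpow 3
            rw [hb3] at this
            simp at this
            have h' : h ^ (i ^ 3 - 1) = 1 := by rw [zpow_sub, ← this, zpow_one, mul_inv_cancel]
            have := orderOf_dvd_iff_zpow_eq_one.2 h'
            rwa [hh] at this
          have h1' : (5 : ℤ) ∣ i - 1 := by
            have key := cube_zmod_five
            have e1 : ((i ^ 3 - 1 : ℤ) : ZMod 5) = 0 := (ZMod.intCast_zmod_eq_zero_iff_dvd _ 5).2 h3
            push_cast at e1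
            have e2 := key _ e1
            exact (ZMod.intCast_zmod_eq_zero_iff_dvd _ 5).1 (by push_cast; exact e2)
          have hfix : h ^ i = h := by
            have h' : h ^ (i - 1) = 1 := orderOf_dvd_iff_zpow_eq_one.1 (by rw [hh]; exact h1')
            rwa [zpow_sub, zpow_one, mul_inv_eq_one] at h'
          show b * h = h * b
          exact mul_inv_eq_iff_eq_mul.1 (hi.symm.trans hfix)
      exact hno3 b h hb hh hcomm
    have hmod := SmallGroups.mod_eq_one_card_sylow (p := 5) (G := G)
    have hpos : 0 < Nat.card (Sylow 5 G) := Nat.card_pos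
    omega
  have hn3 : 20 ≤ Nat.card {x : G // orderOf x = 3} := by
    rw [card_orderOf_eq hP3]
    have hd : Nat.card (Sylow 3 G) ∣ 20 :=
      SmallGroups.card_sylow_dvd_of_card_eq (a := 1) (m := 20) (by rw [hcard]; rfl) (by norm_num)
    have hmod := SmallGroups.mod_eq_one_card_sylow (p := 3) (G := G)
    have hle := Nat.le_of_dvd (by norm_num) hd
    by_contra hlt
    obtain ⟨b, hb⟩ := exists_prime_orderOf_dvd_card' 3 (G := G) (by rw [hcard]; norm_num)
    have hS : {x : G | orderOf x = 3}.ncard = Nat.card (Sylow 3 G) * 2 := by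
      rw [← Nat.card_coe_set_eq]; exact card_orderOf_eq hP3
    by_cases hlt5 : Nat.card (Sylow 3 G) * 2 < 5
    · refine hno3 b h hb hh (commute_of_small (r := 5) (by norm_num) hh5 _ (hS ▸ hlt5) (fun x hx => ?_) hb).symm
      rw [Set.mem_ofPred_eq, show h * x * h⁻¹ = MulAut.conj h x from rfl, MulEquiv.orderOf_eq]
      exact hx
    · have h4 : Nat.card (Sylow 3 G) = 4 := by
        interval_cases h' : Nat.card (Sylow 3 G) <;> omega
      let σ : Equiv.Perm (Sylow 3 G) := MulAction.toPermHom G (Sylow 3 G) h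
      have hσ : σ = 1 := perm_eq_one_of_small (r := 5) (by norm_num) (by omega) σ
        (by rw [← map_pow, hh5, map_one])
      obtain ⟨R, hR⟩ := (IsPGroup.of_card (p := 3) (n := 1) (G := Subgroup.zpowers b)
        (by rw [Nat.card_zpowers, hb, pow_one])).exists_le_sylow
      have hnorm : h ∈ Subgroup.normalizer ((R : Subgroup G) : Set G) :=
        Sylow.smul_eq_iff_mem_normalizer.1 (Equiv.congr_fun hσ R)
      refine hno3 b h hb hh (commute_of_small (r := 5) (by norm_num) hh5 (R : Set G) ?_
        (fun x hx => (Subgroup.mem_normalizer_iff.1 hnorm x).1 hx) (hR (Subgroup.mem_zpowers b))).symm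
      exact lt_of_eq_of_lt ((Nat.card_coe_set_eq _).symm.trans (hP3 R)) (by norm_num)
  haveI : Nontrivial G := Finite.one_lt_card_iff_nontrivial.1 (by rw [hcard]; norm_num)
  haveI hsimple : IsSimpleGroup G := by
    refine ⟨fun N hN => ?_⟩
    by_contra hcon
    push Not at hcon
    obtain ⟨hbot, htop⟩ := hcon
    have hd : Nat.card N ∣ 60 := hcard ▸ Subgroup.card_subgroup_dvd_card N
    have hne1 : Nat.card N ≠ 1 := fun h => hbot (Subgroup.card_eq_one.1 h)
    have hlt : Nat.card N ≠ 60 := fun h => htop (Subgroup.card_eq_iff_eq_top N |>.1 (h.trans hcard.symm))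
    have hall : ∀ r : ℕ, r.Prime → (∀ P : Sylow r G, Nat.card (P : Subgroup G) = r) → r ∣ Nat.card N →
        {x : G | orderOf x = r} ⊆ (N : Set G) := by
      intro r hr hP hrd x hx
      haveI := Fact.mk hr
      obtain ⟨⟨y, hyN⟩, hy⟩ := exists_prime_orderOf_dvd_card' r hrd
      rw [← Subgroup.orderOf_coe] at hy
      obtain ⟨R, hR⟩ := (IsPGroup.of_card (p := r) (n := 1) (G := Subgroup.zpowers x)
        (by rw [Nat.card_zpowers, hx, pow_one])).exists_le_sylow
      obtain ⟨S, hS⟩ := (IsPGroup.of_card (p := r) (n := 1) (G := Subgroup.zpowers y)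
        (by rw [Nat.card_zpowers, hy, pow_one])).exists_le_sylow
      have hSN : (S : Subgroup G) ≤ N := by
        rw [← zpowers_eq_of_mem (hP S) (hS (Subgroup.mem_zpowers y)) (fun he => by
          simp only at hy; rw [he, orderOf_one] at hy; exact hr.ne_one hy.symm)]
        exact Subgroup.zpowers_le.2 hyN
      obtain ⟨g, rfl⟩ := MulAction.exists_smul_eq G S R
      have := hR (Subgroup.mem_zpowers x)
      rw [Sylow.coe_subgroup_smul] at this
      obtain ⟨s, hs, rfl⟩ := this
      exact hN.conj_mem s (hSN hs) g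
    have hNc : (N : Set G).ncard = Nat.card N := by rw [← Nat.card_coe_set_eq]; rfl
    by_cases h5 : 5 ∣ Nat.card N
    · have hins : insert (1 : G) {x : G | orderOf x = 5} ⊆ (N : Set G) :=
        Set.insert_subset (one_mem N) (hall 5 (by norm_num) hP5 h5)
      have := Set.ncard_le_ncard hins (Set.toFinite _)
      rw [Set.ncard_insert_of_notMem (by simp) (Set.toFinite _), ← Nat.card_coe_set_eq, hNc] at this
      have hc5' : 24 ≤ Nat.card {x : G | orderOf x = 5} := hc5
      have h30 : Nat.card N = 30 := by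
        obtain ⟨c, hc⟩ := h5
        obtain ⟨d, hd'⟩ := hd
        have hcd : c * d = 12 := by rw [hc, mul_assoc] at hd'; omega
        have hcle : c ≤ 12 := Nat.le_of_dvd (by norm_num) ⟨d, hcd.symm⟩
        interval_cases c <;> omega
      have hins3 : insert (1 : G) ({x : G | orderOf x = 5} ∪ {x : G | orderOf x = 3}) ⊆ (N : Set G) :=
        Set.insert_subset (one_mem N) (Set.union_subset (hall 5 (by norm_num) hP5 h5)
          (hall 3 Nat.prime_three hP3 (by rw [h30]; norm_num)))
      have h3' := Set.ncard_le_ncard hins3 (Set.toFinite _)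
      rw [Set.ncard_insert_of_notMem (by simp) (Set.toFinite _), Set.ncard_union_eq (Set.disjoint_left.2
        fun x hx hx' => by simp only [Set.mem_ofPred_eq] at hx hx'; omega) (Set.toFinite _) (Set.toFinite _),
        hNc, h30, ← Nat.card_coe_set_eq, ← Nat.card_coe_set_eq] at h3'
      have hn3' : 20 ≤ Nat.card {x : G | orderOf x = 3} := hn3
      omega
    · have h12 : Nat.card N ∣ 12 := (((show Nat.Prime 5 by norm_num).coprime_iff_not_dvd.2 h5).symm).dvd_of_dvd_mul_left
        (show Nat.card N ∣ 5 * 12 from hd)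
      by_cases h3 : 3 ∣ Nat.card N
      · have := Set.ncard_le_ncard (Set.insert_subset (one_mem N) (hall 3 Nat.prime_three hP3 h3)) (Set.toFinite _)
        rw [Set.ncard_insert_of_notMem (by simp) (Set.toFinite _), hNc, ← Nat.card_coe_set_eq] at this
        have hn3' : 20 ≤ Nat.card {x : G | orderOf x = 3} := hn3
        have := Nat.le_of_dvd (by norm_num) h12
        omega
      · have h4 : Nat.card N ∣ 4 := ((Nat.prime_three.coprime_iff_not_dvd.2 h3).symm).dvd_of_dvd_mul_left
          (show Nat.card N ∣ 3 * 4 from h12)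
        have hle := Nat.le_of_dvd (by norm_num) h4
        have h2N : 2 ∣ Nat.card N := by
          interval_cases hNN : Nat.card N <;> omega
        obtain ⟨⟨z, hzN⟩, hz⟩ := exists_prime_orderOf_dvd_card' 2 h2N
        rw [← Subgroup.orderOf_coe] at hz
        refine hno2 z h hz hh (commute_of_small (r := 5) (by norm_num) hh5 (N : Set G) (by omega)
          (fun x hx => hN.conj_mem x hx h) hzN).symm
  exact Cfsg.Agent.S0494.result hcard

end CfsgLib.Classical.Dickson
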