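/-
The finite subgroups of `PGL_2(K)`, `K` algebraically closed: classification up to isomorphism.
-/
import Cfsg.Agent.Lib.Classical.Dickson.PGLStab
import Cfsg.Agent.Lib.Classical.Dickson.SmallIdent
import Cfsg.Agent.Lib.Classical.QuadBinary

set_option autoImplicit false

namespace CfsgLib.Classical.Dickson

open Matrix Projectivization CfsgLib.Transfer
open scoped MatrixGroups LinearAlgebra.Projectivization

theorem two_mul_le_of {g r a : ℕ} (hr : r * a = g) (ha : 2 ≤ a) : g ≤ 2 * (r * (a - 1)) := by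
  subst hr
  obtain ⟨b, rfl⟩ : ∃ b, a = b + 2 := ⟨a - 2, by omega⟩
  rw [show b + 2 - 1 = b + 1 by omega]
  nlinarith

/-- The tame solutions with three orbits. -/
theorem three_cases {g r1 a1 r2 a2 r3 a3 : ℕ} (hg : 2 ≤ g) (h1 : r1 * a1 = g) (h2 : r2 * a2 = g)
    (h3 : r3 * a3 = g) (ha : 2 ≤ a1) (h12 : a1 ≤ a2) (h23 : a2 ≤ a3)
    (hsum : r1 * (a1 - 1) + r2 * (a2 - 1) + r3 * (a3 - 1) + 2 = 2 * g) :
    (a1 = 2 ∧ a2 = 2 ∧ r3 = 2) ∨ (a1 = 2 ∧ a2 = 3 ∧ a3 = 3 ∧ g = 12) ∨ (a1 = 2 ∧ a2 = 3 ∧ a3 = 4 ∧ g = 24) ∨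
      (a1 = 2 ∧ a2 = 3 ∧ a3 = 5 ∧ g = 60) := by
  have e : ∀ r a : ℕ, r * a = g → 2 ≤ a → r * (a - 1) + r = g := fun r a h h' => by
    rw [← h, ← Nat.mul_succ]
    congr 1
    omega
  have s1 := e r1 a1 h1 ha
  have s2 := e r2 a2 h2 (by omega)
  have s3 := e r3 a3 h3 (by omega)
  have hrsum : r1 + r2 + r3 = g + 2 := by omega
  have m1 := Nat.mul_le_mul_left r2 (show a1 ≤ a2 from h12)
  have hlt : a1 < 3 := by
    by_contra hh
    have q1 := Nat.mul_le_mul_left r1 (show 3 ≤ a1 by omega)
    have q2 := Nat.mul_le_mul_left r2 (show 3 ≤ a2 by omega)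
    have q3 := Nat.mul_le_mul_left r3 (show 3 ≤ a3 by omega)
    omega
  have ha1 : a1 = 2 := by omega
  subst ha1
  have hlt2 : a2 < 4 := by
    by_contra hh
    have q2 := Nat.mul_le_mul_left r2 (show 4 ≤ a2 by omega)
    have q3 := Nat.mul_le_mul_left r3 (show 4 ≤ a3 by omega)
    omega
  interval_cases a2
  · exact Or.inl ⟨rfl, rfl, by omega⟩
  · have hlt3 : a3 < 6 := by
      by_contra hh
      have q3 := Nat.mul_le_mul_left r3 (show 6 ≤ a3 by omega)
      omega
    interval_cases a3 <;> omega

/-- The solutions with a wild orbit and one further orbit. -/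
theorem wild_cases {Q k m g r a : ℕ} (hQ : 2 ≤ Q) (hk : 0 < k) (hdvd : k ∣ Q - 1) (hm : m % Q = 1 ∨ m = 1)
    (hm2 : 2 ≤ m) (hg : m * (Q * k) = g) (hra : r * a = g) (ha : 2 ≤ a)
    (hsum : m * (Q * k + Q - 2) + r * (a - 1) + 2 = 2 * g) :
    (Q = 2 ∧ k = 1 ∧ r = 2 ∧ a = m) ∨ (Q = 3 ∧ k = 2 ∧ g = 60 ∧ a = 5 ∧ m = 10) ∨
      (3 ≤ Q ∧ m = Q + 1 ∧ (k = Q - 1 ∨ 2 * k = Q - 1)) := by
  replace hm : m % Q = 1 := hm.resolve_right (by omega)
  obtain ⟨t, ht⟩ : ∃ t, m = 1 + Q * t := ⟨m / Q, by rw [← hm]; exact (Nat.mod_add_div m Q).symm⟩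
  have ht1 : 1 ≤ t := Nat.pos_of_ne_zero fun h => by rw [h, mul_zero, add_zero] at ht; omega
  obtain ⟨P, rfl⟩ : ∃ P, Q = P + 2 := ⟨Q - 2, by omega⟩
  have e1 : r * (a - 1) + r = g := by
    rw [← hra, ← Nat.mul_succ]
    congr 1
    omega
  have hr : r = m * P + 2 := by
    have e2 : m * ((P + 2) * k + (P + 2) - 2) = g + m * P := by
      rw [show (P + 2) * k + (P + 2) - 2 = (P + 2) * k + P by omega, mul_add, hg]
    omega
  have hr' : r = (P + 2) * (1 + t * P) := by rw [hr, ht]; ring
  have hca : (1 + t * P) * a = m * k := by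
    refine Nat.eq_of_mul_eq_mul_left (by omega : 0 < P + 2) ?_
    rw [← mul_assoc, ← hr', hra, ← hg]
    ring
  have hc2k : 1 + t * P ∣ 2 * k := by
    have hm' : m = (1 + t * P) + 2 * t := by rw [ht]; ring
    have hd : Nat.gcd (1 + t * P) m ∣ 2 := by
      have g1 := Nat.gcd_dvd_left (1 + t * P) m
      have g2 := Nat.gcd_dvd_right (1 + t * P) m
      set d := Nat.gcd (1 + t * P) m
      have g3 : d ∣ 2 * t := (Nat.dvd_add_right g1).1 (hm' ▸ g2)
      have hcop : Nat.Coprime d t := by
        refine Nat.Coprime.coprime_dvd_left g1 ?_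
        simp [Nat.Coprime]
      exact hcop.dvd_of_dvd_mul_right g3
    have h1 : 1 + t * P ∣ Nat.gcd ((1 + t * P) * k) (m * k) :=
      Nat.dvd_gcd (dvd_mul_right _ _) ⟨a, hca.symm⟩
    rw [Nat.gcd_mul_right] at h1
    exact h1.trans (mul_dvd_mul_right hd k)
  rcases Nat.eq_zero_or_pos P with rfl | hP
  · have hk1 : k = 1 := by simpa using hdvd
    subst hk1
    refine Or.inl ⟨rfl, rfl, by simp [hr'], by simpa using hca⟩
  have hkle : k ≤ P + 1 := Nat.le_of_dvd (by omega) (by simpa using hdvd)
  have hcle : 1 + t * P ≤ 2 * k := Nat.le_of_dvd (by omega) hc2k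
  obtain ⟨j, hj⟩ := hc2k
  rcases (show t = 1 ∨ t = 2 ∨ t = 3 ∨ 4 ≤ t by omega) with rfl | rfl | rfl | ht4
  · refine Or.inr (Or.inr ⟨by omega, by omega, ?_⟩)
    obtain ⟨e, he⟩ := hdvd
    simp only [one_mul] at hj
    rw [show P + 2 - 1 = 1 + P by omega] at he ⊢
    have hje : e * j = 2 := by
      refine Nat.eq_of_mul_eq_mul_left hk ?_
      rw [← mul_assoc, ← he, ← hj, mul_comm]
    rcases (Nat.dvd_prime Nat.prime_two).1 ⟨j, hje.symm⟩ with rfl | rfl
    · exact Or.inl (by omega)
    · exact Or.inr (by omega)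
  · rcases (show j = 0 ∨ j = 1 ∨ 2 ≤ j by omega) with rfl | rfl | hj2
    · omega
    · omega
    · have := Nat.mul_le_mul_left (1 + 2 * P) hj2
      omega
  · have hP1 : P = 1 := by omega
    subst hP1
    have hk2 : k = 2 := by omega
    subst hk2
    exact Or.inr (Or.inl ⟨rfl, rfl, by omega, by omega, by omega⟩)
  · have := Nat.mul_le_mul_right P ht4
    omega

variable {K : Type*} [Field K] [IsAlgClosed K] (p : ℕ) [hp : Fact p.Prime] [CharP K p]
  (G : Subgroup (Matrix.ProjGenLinGroup (Fin 2) K)) [Finite G]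

omit hp [IsAlgClosed K] [CharP K p] in
theorem card_orbit_mul (x : ℙ K (Fin 2 → K)) :
    Nat.card (MulAction.orbit G x) * Nat.card (MulAction.stabilizer G x) = Nat.card G := by
  rw [← Nat.card_prod]
  exact Nat.card_congr (MulAction.orbitProdStabilizerEquivGroup G x)

omit hp [IsAlgClosed K] [CharP K p] in
theorem coe_ne_one {g : G} (hg : g ≠ 1) : (g : Matrix.ProjGenLinGroup (Fin 2) K) ≠ 1 :=
  fun h => hg (Subtype.ext h)

/-- Commuting elements of coprime prime orders share a stabiliser. -/
theorem no_commute {l r : ℕ} (hl : l.Prime) (hr : r.Prime) (hlr : l ≠ r) (hr2 : r ≠ 2)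
    (hst : ∀ x : ℙ K (Fin 2 → K), ¬ l * r ∣ Nat.card (MulAction.stabilizer G x)) (a b : G) (ha : orderOf a = l)
    (hb : orderOf b = r) : ¬ Commute a b := by
  intro hc
  have hb1 : b ≠ 1 := fun h => hr.ne_one (by rw [← hb, h, orderOf_one])
  have hab : orderOf (a * b) = l * r := by
    rw [hc.orderOf_mul_eq_mul_orderOf_of_coprime (by rw [ha, hb]; exact (Nat.coprime_primes hl hr).2 hlr), ha, hb]
  have key : ∀ x : ℙ K (Fin 2 → K), a • x = x → b • x = x → False := fun x h1 h2 =>
    hst x (hab ▸ Subgroup.orderOf_dvd_natCard _ (MulAction.mem_stabilizer_iff.2 (by rw [mul_smul, h2, h1])))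
  have hperm : ∀ x : ℙ K (Fin 2 → K), b • x = x → b • (a • x) = a • x := fun x hx => by
    rw [← mul_smul, ← hc.eq, mul_smul, hx]
  rcases fix_cases (coe_ne_one G hb1) with ⟨x, hx⟩ | ⟨x, y, hxy, hx⟩
  · have h2 : b • x = x := show x ∈ fixSet (b : Matrix.ProjGenLinGroup (Fin 2) K) by rw [hx]; rfl
    have h1 : a • x ∈ fixSet (b : Matrix.ProjGenLinGroup (Fin 2) K) := hperm x h2
    rw [hx] at h1
    exact key x h1 h2
  · have hbx : b • x = x := show x ∈ fixSet (b : Matrix.ProjGenLinGroup (Fin 2) K) by rw [hx]; exact Or.inl rfl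
    have hby : b • y = y := show y ∈ fixSet (b : Matrix.ProjGenLinGroup (Fin 2) K) by rw [hx]; exact Or.inr rfl
    have h1 : a • x ∈ fixSet (b : Matrix.ProjGenLinGroup (Fin 2) K) := hperm x hbx
    rw [hx] at h1
    rcases h1 with h1 | h1
    · exact key x h1 hbx
    · have h3 : a • y ∈ fixSet (b : Matrix.ProjGenLinGroup (Fin 2) K) := hperm y hby
      rw [hx] at h3
      rcases h3 with h3 | h3
      · obtain ⟨-, hinv⟩ := swap_inverts hxy hbx hby h1 h3
        have h4 : a * b * a⁻¹ = b⁻¹ := Subtype.ext hinv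
        rw [hc.eq, mul_inv_cancel_right] at h4
        have h5 : b ^ 2 = 1 := by
          rw [pow_two]
          nth_rewrite 2 [h4]
          exact mul_inv_cancel b
        exact hr2 ((Nat.prime_dvd_prime_iff_eq hr Nat.prime_two).1 (hb ▸ orderOf_dvd_of_pow_eq_one h5))
      · exact key y h3 hby

/-- A tame point with orbit of size one or two. -/
theorem cyclic_or_dihedral {x : ℙ K (Fin 2 → K)}
    (htame : ∀ g : G, g ≠ 1 → fixSet (g : Matrix.ProjGenLinGroup (Fin 2) K) ≠ {x})
    (ha : 2 ≤ Nat.card (MulAction.stabilizer G x)) :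
    (Nat.card (MulAction.orbit G x) = 1 → IsCyclic G ∧ (Nat.card G).Coprime p) ∧
      (Nat.card (MulAction.orbit G x) = 2 →
        ∃ n : ℕ, 0 < n ∧ n.Coprime p ∧ Nonempty (G ≃* DihedralGroup n)) := by
  obtain ⟨U, k, -, hU, -, hcard, -, hcop, -, hcyc, -⟩ := exists_stab_data p G x
  have hbot : U = ⊥ := (Subgroup.eq_bot_iff_forall _).2 fun g hg =>
    ((hU g).1 hg).resolve_right fun h => by
      by_cases hg1 : g = 1
      · subst hg1
        obtain ⟨y, hy⟩ : ∃ y, y ≠ x := by
          rcases eq_or_ne x lineInf with rfl | hne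
          · exact ⟨linePt 0, (lineInf_ne_linePt 0).symm⟩
          · exact ⟨lineInf, hne.symm⟩
        exact hy (show y ∈ ({x} : Set _) from h ▸ (one_smul _ y))
      · exact htame g hg1 h
  rw [hbot, Subgroup.card_bot, one_mul] at hcard
  haveI := hcyc hbot
  have hmul := card_orbit_mul G x
  refine ⟨fun h1 => ?_, fun h2 => ?_⟩
  · rw [h1, one_mul] at hmul
    have htop : MulAction.stabilizer G x = ⊤ := Subgroup.eq_top_of_card_eq _ hmul
    refine ⟨(Subgroup.topEquiv.isCyclic).1 (htop ▸ ‹IsCyclic (MulAction.stabilizer G x)›), ?_⟩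
    rw [← hmul, hcard]
    exact hcop
  · rw [h2] at hmul
    obtain ⟨⟨r, hr⟩, hgen⟩ := IsCyclic.exists_ofOrder_eq_natCard (α := MulAction.stabilizer G x)
    rw [← Subgroup.orderOf_coe] at hgen
    have hr1 : r ≠ 1 := fun h => by simp only [h, orderOf_one] at hgen; omega
    obtain ⟨y, hxy, hy⟩ : ∃ y, x ≠ y ∧ fixSet (r : Matrix.ProjGenLinGroup (Fin 2) K) = {x, y} := by
      have hx : x ∈ fixSet (r : Matrix.ProjGenLinGroup (Fin 2) K) := hr
      rcases fix_cases (coe_ne_one G hr1) with ⟨z, hz⟩ | ⟨y, z, hyz, hz⟩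
      · rw [hz] at hx
        obtain rfl : x = z := hx
        exact absurd hz (htame r hr1)
      · rw [hz] at hx
        rcases hx with rfl | rfl
        · exact ⟨z, hyz, hz⟩
        · exact ⟨y, hyz.symm, by rw [hz, Set.pair_comm]⟩
    obtain ⟨s, hs⟩ : ∃ s : G, s ∉ MulAction.stabilizer G x := by
      by_contra hcon
      push Not at hcon
      have htop : MulAction.stabilizer G x = ⊤ := eq_top_iff.2 fun g _ => hcon g
      rw [htop, Subgroup.card_top] at hmul
      have := Nat.card_pos (α := G)
      omega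
    have horb : ∀ g : G, g • x = x ∨ g • x = s • x := by
      intro g
      obtain ⟨u, v, -, huv⟩ := Set.ncard_eq_two.1 ((Nat.card_coe_set_eq _).symm.trans h2)
      have mx : x ∈ MulAction.orbit G x := MulAction.mem_orbit_self x
      have ms : s • x ∈ MulAction.orbit G x := MulAction.mem_orbit x s
      have mg : g • x ∈ MulAction.orbit G x := MulAction.mem_orbit x g
      rw [huv] at mx ms mg
      simp only [Set.mem_insert_iff, Set.mem_singleton_iff] at mx ms mg
      have hne : s • x ≠ x := hs
      rcases mx with rfl | rfl <;> rcases ms with e | e <;> rcases mg with e' | e'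
      all_goals first
        | exact Or.inl e'
        | exact Or.inr (e'.trans e.symm)
        | exact absurd e hne
    have hrx : r • x = x := hr
    have hrs : r • (s • x) = s • x := by
      rcases horb (r * s) with h | h
      · rw [mul_smul] at h
        exact absurd (smul_left_cancel r (h.trans hrx.symm)) hs
      · rwa [mul_smul] at h
    have hsy : s • x = y := by
      have : s • x ∈ fixSet (r : Matrix.ProjGenLinGroup (Fin 2) K) := hrs
      rw [hy] at this
      exact this.resolve_left hs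
    have hsyx : s • y = x := by
      rcases horb (s * s) with h | h <;> rw [mul_smul, hsy] at h
      · exact h
      · exact absurd (smul_left_cancel s (h.trans hsy.symm)) hxy.symm
    have hry : r • y = y := hsy ▸ hrs
    obtain ⟨hss, hinv⟩ := swap_inverts hxy hrx hry hsy hsyx
    have hss' : s * s = 1 := Subtype.ext hss
    refine ⟨Nat.card (MulAction.stabilizer G x), by omega, hcard ▸ hcop,
      CfsgLib.Classical.dihedral_of_rotation (by omega) hgen hss' ?_ ?_ hmul.symm⟩
    · rw [← show s * r * s⁻¹ = r⁻¹ from Subtype.ext hinv, inv_eq_of_mul_eq_one_right hss']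
    · exact fun h => hs ((Subgroup.zpowers_le.2 hr) h)

/-- The possible isomorphism types of a finite subgroup of `PGL_2(K)`. -/
def Outcome : Prop :=
  (IsCyclic G ∧ (Nat.card G).Coprime p) ∨ (∃ n : ℕ, 0 < n ∧ n.Coprime p ∧ Nonempty (G ≃* DihedralGroup n)) ∨
    (∃ x, (∀ g : G, g • x = x) ∧ ∃ u : G, u ≠ 1 ∧ fixSet (u : Matrix.ProjGenLinGroup (Fin 2) K) = {x}) ∨
    Nonempty (G ≃* alternatingGroup (Fin 4)) ∨ Nonempty (G ≃* Equiv.Perm (Fin 4)) ∨
    Nonempty (G ≃* alternatingGroup (Fin 5)) ∨
    ∃ Q k : ℕ, 3 ≤ Q ∧ (∀ P : Sylow p G, Nat.card (P : Subgroup G) = Q) ∧ Nat.card (Sylow p G) = Q + 1 ∧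
      Nat.card G = Q * (Q + 1) * k ∧ (k = Q - 1 ∨ 2 * k = Q - 1)

theorem classify : Outcome p G := by
  classical
  haveI : Fintype G := Fintype.ofFinite G
  haveI hfo : ∀ x : ℙ K (Fin 2 → K), Finite (MulAction.orbit G x) :=
    fun x => (Set.finite_range fun h : G => h • x).to_subtype
  haveI hno : ∀ x : ℙ K (Fin 2 → K), Nonempty (MulAction.orbit G x) :=
    fun x => ⟨⟨x, MulAction.mem_orbit_self x⟩⟩
  set g := Nat.card G with hgdef
  by_cases hg1 : g = 1
  · have hs : Subsingleton G := (Nat.card_eq_one_iff_unique.1 hg1).1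
    exact Or.inl ⟨isCyclic_of_subsingleton, by rw [← hgdef, hg1]; exact Nat.coprime_one_left p⟩
  have hg2 : 2 ≤ g := by
    have : 0 < g := Nat.card_pos
    omega
  set Tset : Set (ℙ K (Fin 2 → K)) := {x | ∃ u : G, u ≠ 1 ∧ u • x = x} with hTset
  have hTfin : Tset.Finite := by
    refine Set.Finite.subset (Set.finite_iUnion (fun u : {u : G // u ≠ 1} => finite_fixSet (coe_ne_one G u.2))) ?_
    rintro x ⟨u, hu, hx⟩
    exact Set.mem_iUnion.2 ⟨⟨u, hu⟩, hx⟩
  set T := hTfin.toFinset with hT
  have hmemT : ∀ x, x ∈ T ↔ ∃ u : G, u ≠ 1 ∧ u • x = x := fun x => hTfin.mem_toFinset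
  let nn : Finset G := Finset.univ.filter (fun u => u ≠ 1)
  let w : ℙ K (Fin 2 → K) → ℕ := fun x =>
    (nn.filter fun u => u • x = x).card +
      (nn.filter fun u : G => fixSet (u : Matrix.ProjGenLinGroup (Fin 2) K) = {x}).card
  have hstab : ∀ (x : ℙ K (Fin 2 → K)), (nn.filter fun u => u • x = x).card + 1 = Nat.card (MulAction.stabilizer G x) := by
    intro x
    rw [Nat.card_eq_fintype_card, Fintype.card_subtype,
      show (Finset.univ.filter fun u : G => u ∈ MulAction.stabilizer G x) =
        insert 1 (nn.filter fun u => u • x = x) by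
          ext u
          simp only [nn, Finset.mem_filter, Finset.mem_univ, true_and, Finset.mem_insert,
            MulAction.mem_stabilizer_iff]
          by_cases h : u = 1 <;> simp [h],
      Finset.card_insert_of_notMem (by simp [nn])]
  have htotal : ∑ x ∈ T, w x + 2 = 2 * g := by
    have hnn : nn.card + 1 = g := by
      rw [hgdef, Nat.card_eq_fintype_card, ← Finset.card_univ,
        show nn = Finset.univ.erase 1 by ext u; simp [nn], Finset.card_erase_add_one (Finset.mem_univ _)]
    have hper : ∀ u ∈ nn, (T.filter fun x => u • x = x).card +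
        (T.filter fun x => fixSet (u : Matrix.ProjGenLinGroup (Fin 2) K) = {x}).card = 2 := by
      intro u hu
      have hu1 : u ≠ 1 := (Finset.mem_filter.1 hu).2
      rcases fix_cases (coe_ne_one G hu1) with ⟨x, hx⟩ | ⟨x, y, hxy, hx⟩
      · have hxm : u • x = x := show x ∈ fixSet (u : Matrix.ProjGenLinGroup (Fin 2) K) by rw [hx]; rfl
        have e1 : (T.filter fun z => u • z = z) = {x} := by
          ext z
          rw [Finset.mem_filter, Finset.mem_singleton, hmemT]
          exact ⟨fun h => (show z ∈ ({x} : Set _) from hx ▸ h.2), fun h => h ▸ ⟨⟨u, hu1, hxm⟩, hxm⟩⟩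
        have e2 : (T.filter fun z => fixSet (u : Matrix.ProjGenLinGroup (Fin 2) K) = {z}) = {x} := by
          ext z
          rw [Finset.mem_filter, Finset.mem_singleton, hmemT]
          exact ⟨fun h => (Set.singleton_eq_singleton_iff.1 (hx.symm.trans h.2)).symm,
            fun h => h ▸ ⟨⟨u, hu1, hxm⟩, hx⟩⟩
        rw [e1, e2, Finset.card_singleton]
      · have e1 : (T.filter fun z => u • z = z) = {x, y} := by
          ext z
          rw [Finset.mem_filter, Finset.mem_insert, Finset.mem_singleton, hmemT]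
          constructor
          · intro h
            exact (show z ∈ ({x, y} : Set _) from hx ▸ h.2)
          · intro h
            have hz : u • z = z := show z ∈ fixSet (u : Matrix.ProjGenLinGroup (Fin 2) K) by rw [hx]; exact h
            exact ⟨⟨u, hu1, hz⟩, hz⟩
        have e2 : (T.filter fun z => fixSet (u : Matrix.ProjGenLinGroup (Fin 2) K) = {z}) = ∅ := by
          refine Finset.filter_eq_empty_iff.2 fun z _ h => hxy ?_
          have hx' : x ∈ ({z} : Set _) := h ▸ hx.symm ▸ Or.inl rfl
          have hy' : y ∈ ({z} : Set _) := h ▸ hx.symm ▸ Or.inr rfl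
          exact (Set.mem_singleton_iff.1 hx').trans (Set.mem_singleton_iff.1 hy').symm
        rw [e1, e2, Finset.card_empty, Finset.card_pair hxy]
    have hswap : ∑ x ∈ T, w x = ∑ u ∈ nn, ((T.filter fun x => u • x = x).card +
        (T.filter fun x => fixSet (u : Matrix.ProjGenLinGroup (Fin 2) K) = {x}).card) := by
      simp only [w, Finset.sum_add_distrib, Finset.card_filter]
      rw [Finset.sum_comm, Finset.sum_comm (s := T)]
    rw [hswap, Finset.sum_congr rfl hper, Finset.sum_const, smul_eq_mul]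
    omega
  set O : Finset (Set (ℙ K (Fin 2 → K))) := T.image (fun x => MulAction.orbit G x) with hO
  have hrep : ∀ o ∈ O, ∃ x ∈ T, MulAction.orbit G x = o := fun o ho => Finset.mem_image.1 ho
  let rep : Set (ℙ K (Fin 2 → K)) → ℙ K (Fin 2 → K) := fun o =>
    if h : o ∈ O then (hrep o h).choose else lineInf
  have hrepT : ∀ o ∈ O, rep o ∈ T ∧ MulAction.orbit G (rep o) = o := fun o ho => by
    simp only [rep, dif_pos ho]
    exact (hrep o ho).choose_spec
  have hfixconj : ∀ (h u : G) (x : ℙ K (Fin 2 → K)), fixSet (u : Matrix.ProjGenLinGroup (Fin 2) K) = {x} →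
      fixSet ((h * u * h⁻¹ : G) : Matrix.ProjGenLinGroup (Fin 2) K) = {h • x} := fun h u x hu => by
    rw [Subgroup.coe_mul, Subgroup.coe_mul, Subgroup.coe_inv, fixSet_conj, hu, Set.image_singleton]
    rfl
  have hwinv : ∀ (h : G) (x : ℙ K (Fin 2 → K)), w (h • x) = w x := by
    intro h x
    simp only [w]
    congr 1
    · refine Finset.card_bij' (fun u _ => h⁻¹ * u * h) (fun u _ => h * u * h⁻¹) ?_ ?_ ?_ ?_
      · intro u hu
        simp only [nn, Finset.mem_filter, Finset.mem_univ, true_and] at hu ⊢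
        refine ⟨fun e => hu.1 ?_, by rw [mul_smul, mul_smul, hu.2, inv_smul_smul]⟩
        rw [show u = h * (h⁻¹ * u * h) * h⁻¹ by group, e]; group
      · intro u hu
        simp only [nn, Finset.mem_filter, Finset.mem_univ, true_and] at hu ⊢
        exact ⟨fun e => hu.1 (conj_eq_one_iff.1 e), by rw [mul_smul, mul_smul, inv_smul_smul, hu.2]⟩
      · intro u _; group
      · intro u _; group
    · refine Finset.card_bij' (fun u _ => h⁻¹ * u * h) (fun u _ => h * u * h⁻¹) ?_ ?_ ?_ ?_
      · intro u hu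
        simp only [nn, Finset.mem_filter, Finset.mem_univ, true_and] at hu ⊢
        refine ⟨fun e => hu.1 (by rw [show u = h * (h⁻¹ * u * h) * h⁻¹ by group, e]; group), ?_⟩
        have := hfixconj h⁻¹ u (h • x) hu.2
        rwa [inv_inv, inv_smul_smul] at this
      · intro u hu
        simp only [nn, Finset.mem_filter, Finset.mem_univ, true_and] at hu ⊢
        exact ⟨fun e => hu.1 (conj_eq_one_iff.1 e), hfixconj h u x hu.2⟩
      · intro u _; group
      · intro u _; group
  have hTinv : ∀ (h : G) (x : ℙ K (Fin 2 → K)), x ∈ T → h • x ∈ T := by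
    intro h x hx
    obtain ⟨u, hu, hux⟩ := (hmemT x).1 hx
    exact (hmemT _).2 ⟨h * u * h⁻¹, fun e => hu (conj_eq_one_iff.1 e), by
      rw [mul_smul, mul_smul, inv_smul_smul, hux]⟩
  have horbsum : ∑ x ∈ T, w x = ∑ o ∈ O, Nat.card (MulAction.orbit G (rep o)) * w (rep o) := by
    rw [← Finset.sum_fiberwise_of_maps_to (g := fun x => MulAction.orbit G x) (t := O)
      (fun x hx => Finset.mem_image_of_mem _ hx) w]
    refine Finset.sum_congr rfl fun o ho => ?_
    obtain ⟨hrT, hro⟩ := hrepT o ho
    rw [Finset.sum_eq_card_nsmul (b := w (rep o)) (fun x hx => by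
      obtain ⟨-, hxo⟩ := Finset.mem_filter.1 hx
      obtain ⟨h, rfl⟩ : x ∈ MulAction.orbit G (rep o) := hro.trans hxo.symm ▸ MulAction.mem_orbit_self x
      exact hwinv h _), smul_eq_mul]
    congr 1
    rw [Nat.card_coe_set_eq, ← Set.ncard_coe_finset]
    congr 1
    ext x
    rw [Finset.mem_coe, Finset.mem_filter]
    constructor
    · rintro ⟨-, hxo⟩
      exact hro.trans hxo.symm ▸ MulAction.mem_orbit_self x
    · rintro ⟨h, rfl⟩
      exact ⟨hTinv h _ hrT, (MulAction.orbit_eq_iff.2 (MulAction.mem_orbit _ h)).trans hro⟩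
  have ha2 : ∀ x ∈ T, 2 ≤ Nat.card (MulAction.stabilizer G x) := by
    intro x hx
    obtain ⟨u, hu, hux⟩ := (hmemT x).1 hx
    haveI : Nontrivial (MulAction.stabilizer G x) :=
      ⟨⟨⟨u, hux⟩, 1, fun h => hu (congrArg Subtype.val h)⟩⟩
    exact Finite.one_lt_card
  have hnotT : ∀ (x : ℙ K (Fin 2 → K)), x ∉ T → Nat.card (MulAction.stabilizer G x) = 1 := by
    intro x hx
    rw [← hstab x, Finset.card_eq_zero.2 (Finset.filter_eq_empty_iff.2 fun u hu h =>
      hx ((hmemT x).2 ⟨u, (Finset.mem_filter.1 hu).2, h⟩))]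
  have hstaborb : ∀ x ∈ T, ∃ o ∈ O, Nat.card (MulAction.stabilizer G x) = Nat.card (MulAction.stabilizer G (rep o)) := by
    intro x hx
    refine ⟨_, Finset.mem_image_of_mem _ hx, ?_⟩
    have h1 := card_orbit_mul G x
    have h2 := card_orbit_mul G (rep (MulAction.orbit G x))
    rw [(hrepT _ (Finset.mem_image_of_mem _ hx)).2] at h2
    exact Nat.eq_of_mul_eq_mul_left (Nat.pos_of_ne_zero fun h0 => by rw [h0, zero_mul] at h1; omega)
      (h1.trans h2.symm)
  by_cases hwild : ∃ (u : G) (x : ℙ K (Fin 2 → K)), u ≠ 1 ∧ fixSet (u : Matrix.ProjGenLinGroup (Fin 2) K) = {x}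
  swap
  · -- all elements are semisimple
    push Not at hwild
    have hw : ∀ (x : ℙ K (Fin 2 → K)), w x = Nat.card (MulAction.stabilizer G x) - 1 := by
      intro x
      simp only [w]
      rw [Finset.card_eq_zero.2 (Finset.filter_eq_empty_iff.2 fun u hu => hwild u x (Finset.mem_filter.1 hu).2),
        add_zero, ← hstab x, Nat.add_sub_cancel]
    have hsum : ∑ o ∈ O, Nat.card (MulAction.orbit G (rep o)) * (Nat.card (MulAction.stabilizer G (rep o)) - 1) + 2 =
        2 * g := by
      rw [← htotal, horbsum]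
      simp only [hw]
    have htame : ∀ (x : ℙ K (Fin 2 → K)), ∀ u : G, u ≠ 1 → fixSet (u : Matrix.ProjGenLinGroup (Fin 2) K) ≠ {x} :=
      fun x u hu => hwild u x hu
    have hs4 : O.card < 4 := by
      by_contra hcon
      have h1 : O.card • g ≤ ∑ o ∈ O, 2 * (Nat.card (MulAction.orbit G (rep o)) *
          (Nat.card (MulAction.stabilizer G (rep o)) - 1)) := Finset.card_nsmul_le_sum _ _ _ fun o ho =>
        two_mul_le_of (card_orbit_mul G _) (ha2 _ (hrepT o ho).1)
      rw [← Finset.mul_sum, smul_eq_mul] at h1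
      have h2 := Nat.mul_le_mul_right g (show 4 ≤ O.card by omega)
      omega
    have hge : ∀ o ∈ O, Nat.card (MulAction.orbit G (rep o)) *
        (Nat.card (MulAction.stabilizer G (rep o)) - 1) + Nat.card (MulAction.orbit G (rep o)) = g := fun o ho => by
      rw [← Nat.mul_succ, hgdef, ← card_orbit_mul G (rep o)]
      congr 1
      have := ha2 _ (hrepT o ho).1
      omega
    have hopos : ∀ x : ℙ K (Fin 2 → K), 0 < Nat.card (MulAction.orbit G x) := fun x => Nat.card_pos
    rcases (show O.card = 0 ∨ O.card = 1 ∨ O.card = 2 ∨ O.card = 3 by omega) with h | h | h | h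
    · rw [Finset.card_eq_zero.1 h, Finset.sum_empty] at hsum
      omega
    · obtain ⟨o, ho⟩ := Finset.card_eq_one.1 h
      rw [ho, Finset.sum_singleton] at hsum
      have := hge o (ho ▸ Finset.mem_singleton_self o)
      have := hopos (rep o)
      omega
    · obtain ⟨o, o', hne, ho⟩ := Finset.card_eq_two.1 h
      rw [ho, Finset.sum_pair hne] at hsum
      have := hge o (by rw [ho]; simp)
      have := hge o' (by rw [ho]; simp)
      have := hopos (rep o)
      have := hopos (rep o')
      exact Or.inl ((cyclic_or_dihedral p G (htame (rep o)) (ha2 _ (hrepT o (by rw [ho]; simp)).1)).1 (by omega))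
    · obtain ⟨o1, o2, o3, h12, h13, h23, ho⟩ := Finset.card_eq_three.1 h
      rw [ho, Finset.sum_insert (by simp [h12, h13]), Finset.sum_pair h23] at hsum
      have finish : ∀ x y z, O = {x, y, z} →
          Nat.card (MulAction.stabilizer G (rep x)) ≤ Nat.card (MulAction.stabilizer G (rep y)) →
          Nat.card (MulAction.stabilizer G (rep y)) ≤ Nat.card (MulAction.stabilizer G (rep z)) →
          Nat.card (MulAction.orbit G (rep x)) * (Nat.card (MulAction.stabilizer G (rep x)) - 1) +
            Nat.card (MulAction.orbit G (rep y)) * (Nat.card (MulAction.stabilizer G (rep y)) - 1) +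
            Nat.card (MulAction.orbit G (rep z)) * (Nat.card (MulAction.stabilizer G (rep z)) - 1) + 2 = 2 * g →
          Outcome p G := by
        intro x y z hxyz hxy hyz hs
        have hz := ha2 _ (hrepT z (by rw [hxyz]; simp)).1
        have hst : ∀ n, 2 ≤ n → ¬ n ∣ Nat.card (MulAction.stabilizer G (rep x)) →
            ¬ n ∣ Nat.card (MulAction.stabilizer G (rep y)) → ¬ n ∣ Nat.card (MulAction.stabilizer G (rep z)) →
            ∀ v : ℙ K (Fin 2 → K), ¬ n ∣ Nat.card (MulAction.stabilizer G v) := by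
          intro n hn n1 n2 n3 v
          by_cases hv : v ∈ T
          · obtain ⟨o, ho', hov⟩ := hstaborb v hv
            rw [hxyz] at ho'
            simp only [Finset.mem_insert, Finset.mem_singleton] at ho'
            rw [hov]
            rcases ho' with rfl | rfl | rfl <;> assumption
          · rw [hnotT v hv]
            intro h1
            have := Nat.le_of_dvd one_pos h1
            omega
        rcases three_cases hg2 (card_orbit_mul G _) (card_orbit_mul G _) (card_orbit_mul G _)
            (ha2 _ (hrepT x (by rw [hxyz]; simp)).1) hxy hyz hs with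
          ⟨-, -, e⟩ | ⟨e1, e2, e3, eg⟩ | ⟨e1, e2, e3, eg⟩ | ⟨e1, e2, e3, eg⟩
        · exact Or.inr (Or.inl ((cyclic_or_dihedral p G (htame (rep z)) hz).2 e))
        · exact Or.inr (Or.inr (Or.inr (Or.inl (alt_four_of eg (no_commute G Nat.prime_two Nat.prime_three
            (by norm_num) (by norm_num) (hst 6 (by norm_num) (by rw [e1]; norm_num) (by rw [e2]; norm_num)
              (by rw [e3]; norm_num)))))))
        · exact Or.inr (Or.inr (Or.inr (Or.inr (Or.inl (sym_four_of eg (no_commute G Nat.prime_two Nat.prime_three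
            (by norm_num) (by norm_num) (hst 6 (by norm_num) (by rw [e1]; norm_num) (by rw [e2]; norm_num)
              (by rw [e3]; norm_num))))))))
        · exact Or.inr (Or.inr (Or.inr (Or.inr (Or.inr (Or.inl (alt_five_of eg
            (no_commute G Nat.prime_two (by norm_num) (by norm_num) (by norm_num) (hst 10 (by norm_num)
              (by rw [e1]; norm_num) (by rw [e2]; norm_num) (by rw [e3]; norm_num)))
            (no_commute G Nat.prime_three (by norm_num) (by norm_num) (by norm_num) (hst 15 (by norm_num)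
              (by rw [e1]; norm_num) (by rw [e2]; norm_num) (by rw [e3]; norm_num)))))))))
      rcases le_total (Nat.card (MulAction.stabilizer G (rep o1))) (Nat.card (MulAction.stabilizer G (rep o2))) with
        q1 | q1 <;>
      rcases le_total (Nat.card (MulAction.stabilizer G (rep o1))) (Nat.card (MulAction.stabilizer G (rep o3))) with
        q2 | q2 <;>
      rcases le_total (Nat.card (MulAction.stabilizer G (rep o2))) (Nat.card (MulAction.stabilizer G (rep o3))) with
        q3 | q3
      all_goals first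
        | exact finish o1 o2 o3 ho q1 q3 (by omega)
        | exact finish o1 o3 o2 (by rw [ho]; ext; simp; tauto) q2 q3 (by omega)
        | exact finish o2 o1 o3 (by rw [ho]; ext; simp; tauto) q1 q2 (by omega)
        | exact finish o2 o3 o1 (by rw [ho]; ext; simp; tauto) q3 q2 (by omega)
        | exact finish o3 o1 o2 (by rw [ho]; ext; simp; tauto) q2 q1 (by omega)
        | exact finish o3 o2 o1 (by rw [ho]; ext; simp; tauto) q3 q1 (by omega)
        | omega
  · -- there are unipotent elements
    obtain ⟨u0, x0, hu0, hx0⟩ := hwild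
    obtain ⟨U, k, hUle, hUmem, hUp, hUcard, hk0, hkcop, hkdvd, -, hUnorm⟩ := exists_stab_data p G x0
    have hordp : ∀ (x : ℙ K (Fin 2 → K)) (u : G), u ≠ 1 → u • x = x → p ∣ orderOf u →
        fixSet (u : Matrix.ProjGenLinGroup (Fin 2) K) = {x} := by
      intro x u hu hux hpd
      rcases fix_cases (coe_ne_one G hu) with ⟨z, hz⟩ | ⟨y, z, hyz, hz⟩
      · have : x ∈ ({z} : Set _) := hz ▸ hux
        rw [hz, Set.mem_singleton_iff.1 this]
      · exfalso
        obtain ⟨v, hv, huv⟩ : ∃ v, v ≠ x ∧ u • v = v := by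
          by_cases hxy : x = y
          · exact ⟨z, fun h => hyz (hxy.symm.trans h.symm), show z ∈ fixSet _ by rw [hz]; exact Or.inr rfl⟩
          · exact ⟨y, Ne.symm hxy, show y ∈ fixSet _ by rw [hz]; exact Or.inl rfl⟩
        refine (order_of_fix p (coe_ne_one G hu) hux).2 ⟨v, hv, huv⟩ ?_ (by rwa [Subgroup.orderOf_coe])
        exact Submonoid.isOfFinOrder_coe.2 (isOfFinOrder_of_finite u)
    have hpgrp : ∀ (P : Subgroup G), IsPGroup p P → ∀ u ∈ P, u ≠ 1 → p ∣ orderOf u := by
      intro P hP u hu hu1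
      obtain ⟨j, hj⟩ := IsPGroup.iff_orderOf.1 hP ⟨u, hu⟩
      rw [← Subgroup.orderOf_coe] at hj
      have hj0 : j ≠ 0 := fun h0 => hu1 (orderOf_eq_one_iff.1 (by simpa [h0] using hj))
      exact (dvd_pow_self p hj0).trans (dvd_of_eq hj.symm)
    obtain ⟨P, hP⟩ := hUp.exists_le_sylow
    have hu0U : u0 ∈ U := (hUmem u0).2 (Or.inr hx0)
    have hPU : (P : Subgroup G) = U := by
      refine le_antisymm (fun v hv => ?_) hP
      by_cases hv1 : v = 1
      · exact hv1 ▸ one_mem U
      haveI : Nontrivial (P : Subgroup G) := ⟨⟨⟨u0, hP hu0U⟩, 1, fun h => hu0 (congrArg Subtype.val h)⟩⟩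
      haveI := P.isPGroup'.center_nontrivial
      obtain ⟨⟨z, hz⟩, hz1⟩ := exists_ne (1 : Subgroup.center (P : Subgroup G))
      have hz1' : (z : G) ≠ 1 := fun h => hz1 (Subtype.ext (Subtype.ext h))
      obtain ⟨y, hy⟩ := exists_fixed ((z : G) : Matrix.ProjGenLinGroup (Fin 2) K)
      have hzy := hordp y (z : G) hz1' hy (hpgrp _ P.isPGroup' _ z.2 hz1')
      have hfy : ∀ w' : G, w' ∈ (P : Subgroup G) → w' • y = y := by
        intro w' hw'
        have hcw : w' * (z : G) * w'⁻¹ = (z : G) := by
          rw [show w' * (z : G) = (z : G) * w' from congrArg Subtype.val (Subgroup.mem_center_iff.1 hz ⟨w', hw'⟩),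
            mul_inv_cancel_right]
        have := hfixconj w' _ y hzy
        rw [hcw, hzy] at this
        exact (Set.singleton_eq_singleton_iff.1 this).symm
      have hyx : y = x0 := by
        have : y ∈ fixSet (u0 : Matrix.ProjGenLinGroup (Fin 2) K) := hfy u0 (hP hu0U)
        rw [hx0] at this
        exact this
      subst hyx
      exact (hUmem v).2 (Or.inr (hordp y v hv1 (hfy v hv) (hpgrp _ P.isPGroup' v hv hv1)))
    set Q := Nat.card U with hQdef
    have hQ2 : 2 ≤ Q := by
      haveI : Nontrivial U := ⟨⟨⟨u0, hu0U⟩, 1, fun h => hu0 (congrArg Subtype.val h)⟩⟩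
      exact Finite.one_lt_card
    have hnorm : Subgroup.normalizer (U : Set G) = MulAction.stabilizer G x0 := by
      refine le_antisymm (fun h hh => ?_) hUnorm
      have h1 := ((hUmem _).1 ((Subgroup.mem_normalizer_iff.1 hh u0).1 hu0U)).resolve_left
        fun e => hu0 (conj_eq_one_iff.1 e)
      rw [hfixconj h u0 x0 hx0] at h1
      exact Set.singleton_eq_singleton_iff.1 h1
    have hsyl : ∀ R : Sylow p G, Nat.card (R : Subgroup G) = Q := fun R => by
      rw [Sylow.card_eq_multiplicity R, ← Sylow.card_eq_multiplicity P, hPU]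
    have hm : Nat.card (Sylow p G) = Nat.card (MulAction.orbit G x0) := by
      have h1 := Subgroup.card_mul_index (Subgroup.normalizer ((P : Subgroup G) : Set G))
      have h0 : Nat.card (Sylow p G) = (Subgroup.normalizer ((P : Subgroup G) : Set G)).index :=
        Sylow.card_eq_index_normalizer P
      rw [← h0, hPU, hnorm, ← card_orbit_mul G x0, mul_comm] at h1
      exact Nat.eq_of_mul_eq_mul_right Nat.card_pos h1
    set m := Nat.card (MulAction.orbit G x0) with hmdef
    have horb : ∀ (u : G) (x : ℙ K (Fin 2 → K)), u ≠ 1 → fixSet (u : Matrix.ProjGenLinGroup (Fin 2) K) = {x} →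
        x ∈ MulAction.orbit G x0 := by
      intro u x hu hx
      have hp' : IsPGroup p (Subgroup.zpowers u) := by
        have hup : u ^ p = 1 := Subtype.ext (by
          rw [SubmonoidClass.coe_pow, OneMemClass.coe_one]
          exact (order_of_fix p (coe_ne_one G hu) (show x ∈ fixSet _ by rw [hx]; rfl)).1 hx)
        refine IsPGroup.of_card (n := 1) ?_
        rw [Nat.card_zpowers, pow_one]
        exact orderOf_eq_prime hup hu
      obtain ⟨R, hR⟩ := hp'.exists_le_sylow
      obtain ⟨h, rfl⟩ := MulAction.exists_smul_eq G P R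
      have h1 := hR (Subgroup.mem_zpowers u)
      rw [Sylow.coe_subgroup_smul] at h1
      obtain ⟨v, hv, rfl⟩ := h1
      rw [hPU] at hv
      have hv1 : v ≠ 1 := fun e => hu (by simp [e])
      have h2 : fixSet ((h * v * h⁻¹ : G) : Matrix.ProjGenLinGroup (Fin 2) K) = {h • x0} :=
        hfixconj h v x0 (((hUmem v).1 hv).resolve_left hv1)
      exact ⟨h, Set.singleton_eq_singleton_iff.1 (h2.symm.trans hx)⟩
    have hx0T : x0 ∈ T := (hmemT x0).2 ⟨u0, hu0, show x0 ∈ fixSet _ by rw [hx0]; rfl⟩
    have ho0 : MulAction.orbit G x0 ∈ O := Finset.mem_image_of_mem _ hx0T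
    have hw0 : w x0 = Q * k + Q - 2 := by
      simp only [w]
      have h1 := hstab x0
      rw [hUcard] at h1
      have h2 : (nn.filter fun u : G => fixSet (u : Matrix.ProjGenLinGroup (Fin 2) K) = {x0}).card + 1 = Q := by
        rw [hQdef, Nat.card_eq_fintype_card, Fintype.card_subtype,
          show (Finset.univ.filter fun u : G => u ∈ U) =
            insert 1 (nn.filter fun u : G => fixSet (u : Matrix.ProjGenLinGroup (Fin 2) K) = {x0}) by
              ext u
              simp only [nn, Finset.mem_filter, Finset.mem_univ, true_and, Finset.mem_insert, hUmem]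
              by_cases h : u = 1 <;> simp [h],
          Finset.card_insert_of_notMem (by simp [nn])]
      omega
    have hw0' : w (rep (MulAction.orbit G x0)) = w x0 := by
      obtain ⟨h, hh⟩ : rep (MulAction.orbit G x0) ∈ MulAction.orbit G x0 := by
        have := MulAction.mem_orbit_self (M := G) (rep (MulAction.orbit G x0))
        rwa [(hrepT _ ho0).2] at this
      exact hh ▸ hwinv h x0
    have hw : ∀ o ∈ O.erase (MulAction.orbit G x0),
        w (rep o) = Nat.card (MulAction.stabilizer G (rep o)) - 1 := by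
      intro o ho
      obtain ⟨hne, hoO⟩ := Finset.mem_erase.1 ho
      simp only [w]
      have hz : (nn.filter fun u : G => fixSet (u : Matrix.ProjGenLinGroup (Fin 2) K) = {rep o}).card = 0 :=
        Finset.card_eq_zero.2 (Finset.filter_eq_empty_iff.2 fun u hu hfix => hne (by
          rw [← (hrepT o hoO).2]
          exact MulAction.orbit_eq_iff.2 (horb u _ (Finset.mem_filter.1 hu).2 hfix)))
      rw [hz, add_zero, ← hstab, Nat.add_sub_cancel]
    have hgm : m * (Q * k) = g := by rw [← hUcard]; exact card_orbit_mul G x0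
    have hsum : m * (Q * k + Q - 2) + ∑ o ∈ O.erase (MulAction.orbit G x0),
        Nat.card (MulAction.orbit G (rep o)) * (Nat.card (MulAction.stabilizer G (rep o)) - 1) + 2 = 2 * g := by
      rw [← htotal, horbsum, ← Finset.add_sum_erase _ _ ho0, (hrepT _ ho0).2, hw0', hw0]
      congr 2
      exact Finset.sum_congr rfl fun o ho => by rw [hw o ho]
    by_cases hm1 : m = 1
    · refine Or.inr (Or.inr (Or.inl ⟨x0, fun h => ?_, u0, hu0, hx0⟩))
      have hst : MulAction.stabilizer G x0 = ⊤ :=
        Subgroup.eq_top_of_card_eq _ (by rw [hUcard, ← hgdef, ← hgm, hm1, one_mul])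
      exact (show h ∈ MulAction.stabilizer G x0 from hst ▸ Subgroup.mem_top h)
    have hmge : 2 ≤ m := by
      have : 0 < m := Nat.card_pos
      omega
    have hmodQ : m % Q = 1 := by
      -- the unipotent subgroup acts semiregularly on the other points of the orbit
      have hfree : ∀ x ∈ MulAction.orbit G x0, x ≠ x0 → ∀ v ∈ U, v • x = x → v = 1 := by
        intro x _ hne v hv hvx
        refine ((hUmem v).1 hv).resolve_right fun h => hne ?_
        exact (show x ∈ ({x0} : Set _) from h ▸ hvx)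
      let A : Set (ℙ K (Fin 2 → K)) := MulAction.orbit G x0 \ {x0}
      let SA : SubMulAction U (ℙ K (Fin 2 → K)) :=
        { carrier := A
          smul_mem' := fun v x hx => ⟨by
              obtain ⟨h, rfl⟩ := hx.1
              exact ⟨(v : G) * h, mul_smul _ _ _⟩, fun e => hx.2 (by
              have hv0 : (v : G) • x0 = x0 := hUle v.2
              exact smul_left_cancel (v : G) ((Set.mem_singleton_iff.1 e).trans hv0.symm))⟩ }
      have hdv : Q ∣ Nat.card SA := by
        have hstabA : ∀ a : SA, MulAction.stabilizer U a = ⊥ := fun a => (Subgroup.eq_bot_iff_forall _).2 fun v hv =>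
          Subtype.ext (hfree a.1 a.2.1 (fun e => a.2.2 e) v.1 v.2 (congrArg Subtype.val hv))
        haveI : Finite SA := ((Set.finite_range fun h : G => h • x0).subset (fun x hx => hx.1)).to_subtype
        haveI : Fintype (Quotient (MulAction.orbitRel U SA)) := Fintype.ofFinite _
        rw [Nat.card_congr (MulAction.selfEquivSigmaOrbitsQuotientStabilizer U SA), Nat.card_sigma]
        refine Finset.dvd_sum fun o _ => ?_
        rw [hstabA, ← Subgroup.index, Subgroup.index_bot]
      have hA : Nat.card SA + 1 = m := by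
        show Nat.card A + 1 = m
        rw [hmdef, Nat.card_coe_set_eq, Nat.card_coe_set_eq,
          Set.ncard_sdiff_singleton_add_one (MulAction.mem_orbit_self x0) (Set.finite_range _)]
      obtain ⟨c, hc⟩ := hdv
      rw [← hA, hc, Nat.mul_add_mod_self_left, Nat.mod_eq_of_lt (by omega)]
    have hcard1 : (O.erase (MulAction.orbit G x0)).card < 2 := by
      by_contra hcon
      have h1 : (O.erase (MulAction.orbit G x0)).card • g ≤ ∑ o ∈ O.erase (MulAction.orbit G x0),
          2 * (Nat.card (MulAction.orbit G (rep o)) * (Nat.card (MulAction.stabilizer G (rep o)) - 1)) :=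
        Finset.card_nsmul_le_sum _ _ _ fun o ho =>
          two_mul_le_of (card_orbit_mul G _) (ha2 _ (hrepT o (Finset.mem_of_mem_erase ho)).1)
      rw [← Finset.mul_sum, smul_eq_mul] at h1
      have h2 := Nat.mul_le_mul_right g (show 2 ≤ (O.erase (MulAction.orbit G x0)).card by omega)
      have h3 : g ≤ m * (Q * k + Q - 2) := hgm ▸ Nat.mul_le_mul_left m (by omega)
      omega
    rcases (show (O.erase (MulAction.orbit G x0)).card = 0 ∨ (O.erase (MulAction.orbit G x0)).card = 1 by omega)
      with h | h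
    · exfalso
      rw [Finset.card_eq_zero.1 h, Finset.sum_empty, add_zero, ← hgm] at hsum
      obtain ⟨Q', hQ'⟩ : ∃ Q', Q = Q' + 2 := ⟨Q - 2, by omega⟩
      rw [hQ', show (Q' + 2) * k + (Q' + 2) - 2 = (Q' + 2) * k + Q' by omega, mul_add] at hsum
      have h5 : m * ((Q' + 2) * 1) ≤ m * ((Q' + 2) * k) :=
        Nat.mul_le_mul_left m (Nat.mul_le_mul_left _ hk0)
      rw [mul_one, mul_add] at h5
      omega
    · obtain ⟨o, ho⟩ := Finset.card_eq_one.1 h
      have hoe : o ∈ O.erase (MulAction.orbit G x0) := by rw [ho]; exact Finset.mem_singleton_self o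
      rw [ho, Finset.sum_singleton] at hsum
      have htame : ∀ u : G, u ≠ 1 → fixSet (u : Matrix.ProjGenLinGroup (Fin 2) K) ≠ {rep o} := by
        intro u hu hfix
        refine (Finset.mem_erase.1 hoe).1 ?_
        rw [← (hrepT o (Finset.mem_of_mem_erase hoe)).2]
        exact MulAction.orbit_eq_iff.2 (horb u _ hu hfix)
      have hao := ha2 _ (hrepT o (Finset.mem_of_mem_erase hoe)).1
      rcases wild_cases hQ2 hk0 hkdvd (Or.inl hmodQ) hmge hgm (card_orbit_mul G _) hao hsum with
        ⟨-, -, er, -⟩ | ⟨eQ, ek, eg, ea, em⟩ | ⟨eQ, em, ek⟩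
      · exact Or.inr (Or.inl ((cyclic_or_dihedral p G htame hao).2 er))
      · have hst : ∀ n, 2 ≤ n → ¬ n ∣ 6 → ¬ n ∣ 5 → ∀ v : ℙ K (Fin 2 → K), ¬ n ∣ Nat.card (MulAction.stabilizer G v) := by
          intro n hn h6 h5 v
          by_cases hv : v ∈ T
          · obtain ⟨o', ho', hov⟩ := hstaborb v hv
            rw [hov]
            by_cases ho'0 : o' = MulAction.orbit G x0
            · subst ho'0
              have h1 := card_orbit_mul G (rep (MulAction.orbit G x0))
              rw [(hrepT _ ho0).2, ← card_orbit_mul G x0] at h1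
              rw [Nat.eq_of_mul_eq_mul_left (by omega) h1, hUcard, eQ, ek]
              exact h6
            · have hmem : o' ∈ O.erase (MulAction.orbit G x0) := Finset.mem_erase.2 ⟨ho'0, ho'⟩
              rw [ho, Finset.mem_singleton] at hmem
              rw [hmem, ea]
              exact h5
          · rw [hnotT v hv]
            intro h1
            have := Nat.le_of_dvd one_pos h1
            omega
        exact Or.inr (Or.inr (Or.inr (Or.inr (Or.inr (Or.inl (alt_five_of eg
          (no_commute G Nat.prime_two (by norm_num) (by norm_num) (by norm_num)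
            (hst 10 (by norm_num) (by norm_num) (by norm_num)))
          (no_commute G Nat.prime_three (by norm_num) (by norm_num) (by norm_num)
            (hst 15 (by norm_num) (by norm_num) (by norm_num)))))))))
      · refine Or.inr (Or.inr (Or.inr (Or.inr (Or.inr (Or.inr ⟨Q, k, eQ, hsyl, hm.trans em, ?_, ek⟩)))))
        rw [← hgdef, ← hgm, em]
        ring

end CfsgLib.Classical.Dickson
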