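/-
Subfield subgroups: identification of the wild subgroups of `PGL_2(q)`.
-/
import Cfsg.Agent.Lib.Classical.Dickson.PGLStab
import Cfsg.Agent.Lib.Classical.SL2Line

set_option autoImplicit false

namespace CfsgLib.Classical.Dickson

open Matrix Projectivization CfsgLib.Transfer
open scoped MatrixGroups LinearAlgebra.Projectivization

section Map

variable {S F : Type*} [Field S] [Field F] (f : S →+* F)

theorem mk_map_scalar (M : GL (Fin 2) S) (hM : M ∈ Subgroup.center (GL (Fin 2) S)) :
    Matrix.ProjGenLinGroup.mk (Matrix.GeneralLinearGroup.map f M) = 1 := by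
  rw [Matrix.GeneralLinearGroup.center_eq_range_scalar] at hM
  obtain ⟨u, rfl⟩ := hM
  have : Matrix.GeneralLinearGroup.map f (Matrix.GeneralLinearGroup.scalar (Fin 2) u) =
      Matrix.GeneralLinearGroup.scalar (Fin 2) (Units.map f.toMonoidHom u) := Units.ext (by
    ext i j
    fin_cases i <;> fin_cases j <;> simp [Matrix.scalar_apply])
  rw [this, Matrix.ProjGenLinGroup.mk_scalar]

/-- Functoriality of `PGL_2`. -/
def pglMap : Matrix.ProjGenLinGroup (Fin 2) S →* Matrix.ProjGenLinGroup (Fin 2) F :=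
  QuotientGroup.lift _ (Matrix.ProjGenLinGroup.mk.comp (Matrix.GeneralLinearGroup.map f))
    fun M hM => mk_map_scalar f M hM

theorem pglMap_mk (M : GL (Fin 2) S) :
    pglMap f (Matrix.ProjGenLinGroup.mk M) = Matrix.ProjGenLinGroup.mk (Matrix.GeneralLinearGroup.map f M) := rfl

theorem pglMap_injective : Function.Injective (pglMap f) := by
  rw [injective_iff_map_eq_one]
  intro g hg
  obtain ⟨M, rfl⟩ := Matrix.ProjGenLinGroup.mk_surjective g
  rw [pglMap_mk, Matrix.ProjGenLinGroup.mk_eq_one, Matrix.GeneralLinearGroup.center_eq_range_scalar] at hg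
  obtain ⟨u, hu⟩ := hg
  have e : ∀ i j, f (M.val i j) = if i = j then (u : F) else 0 := fun i j => by
    have := congrArg (fun N : GL (Fin 2) F => N.val i j) hu
    fin_cases i <;> fin_cases j <;> simpa [Matrix.scalar_apply] using this.symm
  have h0 : M.val 0 0 ≠ 0 := fun h => u.ne_zero (by have := e 0 0; simpa [h] using this.symm)
  rw [Matrix.ProjGenLinGroup.mk_eq_one, Matrix.GeneralLinearGroup.center_eq_range_scalar]
  refine ⟨Units.mk0 _ h0, Units.ext ?_⟩
  ext i j
  refine f.injective ?_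
  rw [e]
  fin_cases i <;> fin_cases j <;> simp [Matrix.scalar_apply, e]

theorem comp_ne_zero {v : Fin 2 → S} (hv : v ≠ 0) : (f ∘ v) ≠ 0 := fun h => hv (funext fun i => f.injective (by
  rw [show f (v i) = 0 from congrFun h i, Pi.zero_apply, map_zero]))

/-- The map of projective lines. -/
def ptMap : ℙ S (Fin 2 → S) → ℙ F (Fin 2 → F) :=
  Projectivization.lift (fun v => Projectivization.mk F (f ∘ (v : Fin 2 → S)) (comp_ne_zero f v.2))
    fun a b t h => (Projectivization.mk_eq_mk_iff' _ _ _ _ _).2 ⟨f t, funext fun i => by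
      simp [h, Pi.smul_apply]⟩

theorem ptMap_mk (v : Fin 2 → S) (hv : v ≠ 0) :
    ptMap f (Projectivization.mk S v hv) = Projectivization.mk F (f ∘ v) (comp_ne_zero f hv) := rfl

theorem ptMap_injective : Function.Injective (ptMap f) := by
  intro x y h
  induction x using Projectivization.ind with | _ v hv =>
  induction y using Projectivization.ind with | _ w hw =>
  rw [ptMap_mk, ptMap_mk, Projectivization.mk_eq_mk_iff'] at h
  obtain ⟨c, hc⟩ := h
  rw [Projectivization.mk_eq_mk_iff']
  obtain ⟨i, hi⟩ := Function.ne_iff.1 hw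
  refine ⟨v i / w i, funext fun j => f.injective ?_⟩
  have e1 : c * f (w i) = f (v i) := congrFun hc i
  have e2 : c * f (w j) = f (v j) := congrFun hc j
  have hwi : f (w i) ≠ 0 := (map_ne_zero f).2 hi
  show f (v i / w i * w j) = f (v j)
  rw [map_mul, map_div₀, ← e1, mul_div_cancel_right₀ _ hwi, e2]

theorem ptMap_smul (g : Matrix.ProjGenLinGroup (Fin 2) S) (x : ℙ S (Fin 2 → S)) :
    pglMap f g • ptMap f x = ptMap f (g • x) := by
  obtain ⟨M, rfl⟩ := Matrix.ProjGenLinGroup.mk_surjective g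
  induction x using Projectivization.ind with | _ v hv =>
  rw [Projectivization.PGL.mk_smul_mk, pglMap_mk, ptMap_mk, Projectivization.PGL.mk_smul_mk, ptMap_mk,
    Projectivization.mk_eq_mk_iff']
  refine ⟨1, ?_⟩
  rw [one_smul]
  ext i
  fin_cases i <;> simp [Units.smul_def, Matrix.smul_eq_mulVec, Matrix.mulVec, dotProduct, Fin.sum_univ_two]

theorem ptMap_linePt (t : S) : ptMap f (linePt t) = linePt (f t) := by
  rw [linePt, ptMap_mk, linePt, Projectivization.mk_eq_mk_iff']
  refine ⟨1, ?_⟩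
  rw [one_smul]
  ext i
  fin_cases i <;> simp

theorem ptMap_lineInf : ptMap f lineInf = lineInf := by
  rw [lineInf, ptMap_mk, lineInf, Projectivization.mk_eq_mk_iff']
  refine ⟨1, ?_⟩
  rw [one_smul]
  ext i
  fin_cases i <;> simp

theorem pglMap_aff (a : Sˣ) (b : S) : pglMap f (aff a b) = aff (Units.map f.toMonoidHom a) (f b) := by
  rw [aff, pglMap_mk, aff]
  congr 1
  refine Units.ext ?_
  ext i j
  fin_cases i <;> fin_cases j <;> simp [Matrix.GeneralLinearGroup.mkOfDetNeZero]

end Map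

theorem val_wM_conj_upper {K : Type*} [Field K] [Fintype K] (t : Multiplicative K) (w : SpecialLinearGroup (Fin 2) K)
    (hw : w.1 = !![0, -1; 1, 0]) :
    (w * upperUniSL t * w⁻¹).1 = !![1, 0; -t.toAdd, 1] := by
  rw [Matrix.SpecialLinearGroup.coe_mul, Matrix.SpecialLinearGroup.coe_mul, Matrix.SpecialLinearGroup.coe_inv,
    hw, upperUniSL_val, Matrix.adjugate_fin_two]
  ext i j
  fin_cases i <;> fin_cases j <;> simp [Matrix.mul_apply, Fin.sum_univ_two]

variable {F : Type*} [Field F] [Fintype F] (p : ℕ) [hp : Fact p.Prime] [CharP F p]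

theorem not_dvd_card_line : ¬ p ∣ Nat.card (ℙ F (Fin 2 → F)) := by
  rw [Projectivization.card_of_finrank_two (k := F) (V := Fin 2 → F) (by simp), Nat.card_eq_fintype_card]
  obtain ⟨n, -, hn⟩ := FiniteField.card F p
  rw [hn]
  intro h
  exact hp.out.not_dvd_one ((Nat.dvd_add_right (dvd_pow_self p n.pos.ne')).1 h)

/-- A nontrivial `p`-subgroup has a unique fixed point. -/
theorem exists_unique_fixed {G : Subgroup (Matrix.ProjGenLinGroup (Fin 2) F)} [Finite G] (P : Subgroup G)
    (hP : IsPGroup p P) : ∃ x : ℙ F (Fin 2 → F),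
      ∀ u ∈ P, u • x = x ∧ (u ≠ 1 → fixSet (u : Matrix.ProjGenLinGroup (Fin 2) F) = {x}) := by
  obtain ⟨x, hx⟩ := hP.nonempty_fixed_point_of_prime_not_dvd_card (ℙ F (Fin 2 → F)) (not_dvd_card_line p)
  refine ⟨x, fun u hu => ⟨hx ⟨u, hu⟩, fun hu1 => ?_⟩⟩
  refine Set.Subset.antisymm (fun y hy => ?_) (by rintro y rfl; exact hx ⟨u, hu⟩)
  by_contra hne
  obtain ⟨j, hj⟩ := IsPGroup.iff_orderOf.1 hP ⟨u, hu⟩
  rw [← Subgroup.orderOf_coe] at hj
  have hj0 : j ≠ 0 := fun h0 => hu1 (orderOf_eq_one_iff.1 (by simpa [h0] using hj))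
  refine (order_of_fix p (fun h => hu1 (Subtype.ext h)) (hx ⟨u, hu⟩)).2 ⟨y, hne, hy⟩
    (Submonoid.isOfFinOrder_coe.2 (isOfFinOrder_of_finite u)) ?_
  rw [Subgroup.orderOf_coe, hj]
  exact dvd_pow_self p hj0

theorem wild_identification (G : Subgroup (Matrix.ProjGenLinGroup (Fin 2) F)) [Finite G] (Q k : ℕ) (hQ : 3 ≤ Q)
    (hsyl : ∀ P : Sylow p G, Nat.card (P : Subgroup G) = Q) (hm : Nat.card (Sylow p G) = Q + 1)
    (hcard : Nat.card G = Q * (Q + 1) * k) (hk : k = Q - 1 ∨ 2 * k = Q - 1) :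
    ∃ S : Subfield F, Nat.card S = Q ∧
      ((k = Q - 1 ∧ Nonempty (G ≃* Matrix.ProjGenLinGroup (Fin 2) S)) ∨
        (2 * k = Q - 1 ∧ Nonempty (G ≃* Matrix.ProjectiveSpecialLinearGroup (Fin 2) S))) := by
  classical
  obtain ⟨P, R, hPR⟩ : ∃ P R : Sylow p G, P ≠ R := by
    haveI : Nontrivial (Sylow p G) := Finite.one_lt_card_iff_nontrivial.1 (by omega)
    exact exists_pair_ne _
  choose pt hpt using fun X : Sylow p G => exists_unique_fixed p (X : Subgroup G) X.isPGroup'
  have hne1 : ∀ X : Sylow p G, ∃ u ∈ (X : Subgroup G), u ≠ 1 := fun X => by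
    haveI : Nontrivial (X : Subgroup G) := Finite.one_lt_card_iff_nontrivial.1 (by rw [hsyl]; omega)
    obtain ⟨u, hu⟩ := exists_ne (1 : (X : Subgroup G))
    exact ⟨u, u.2, fun h => hu (Subtype.ext h)⟩
  have hptinj : Function.Injective pt := by
    intro X Y h
    obtain ⟨U, c, -, hUmem, hUp, -⟩ := exists_stab_data p G (pt X)
    have hle : ∀ Z : Sylow p G, pt Z = pt X → (Z : Subgroup G) ≤ U := fun Z hZ u hu => (hUmem u).2 (by
      by_cases h1 : u = 1
      · exact Or.inl h1
      · exact Or.inr (hZ ▸ (hpt Z u hu).2 h1))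
    exact Sylow.ext ((X.3 hUp (hle X rfl)).symm.trans (Y.3 hUp (hle Y h.symm)))
  -- normalise the coordinates
  obtain ⟨c0, hc0P, hc0R⟩ := exists_to_inf_zero (fun h => hPR (hptinj h))
  obtain ⟨b0, hb0, hb0G⟩ : ∃ b0 : F, b0 ≠ 0 ∧
      ∃ u : G, c0 * (u : Matrix.ProjGenLinGroup (Fin 2) F) * c0⁻¹ = aff 1 b0 := by
    obtain ⟨u, hu, hu1⟩ := hne1 P
    obtain ⟨a, b, hab⟩ := exists_aff_of_fix_inf (g := c0 * (u : Matrix.ProjGenLinGroup (Fin 2) F) * c0⁻¹)
      (by rw [mul_smul, mul_smul, inv_smul_eq_iff.2 hc0P.symm,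
        show (u : Matrix.ProjGenLinGroup (Fin 2) F) • pt P = pt P from (hpt P u hu).1, hc0P])
    have hfix : fixSet (aff a b) = {lineInf} := by
      rw [← hab, fixSet_conj, (hpt P u hu).2 hu1, Set.image_singleton, hc0P]
    have ha : a = 1 := by
      by_contra ha
      rw [fixSet_aff_of_ne ha] at hfix
      have h2 : linePt (b / (1 - a)) ∈ ({lineInf} : Set (ℙ F (Fin 2 → F))) := hfix ▸ Or.inr rfl
      exact lineInf_ne_linePt _ (Set.mem_singleton_iff.1 h2).symm
    subst ha
    refine ⟨b, fun hb => hu1 (Subtype.ext ?_), u, hab⟩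
    rwa [hb, aff_one, conj_eq_one_iff] at hab
  obtain ⟨u1, hu1G⟩ := hb0G
  set c := aff (Units.mk0 b0 hb0)⁻¹ 0 * c0 with hc
  have hcP : c • pt P = lineInf := by rw [hc, mul_smul, hc0P, aff_smul_inf]
  have hcR : c • pt R = linePt 0 := by
    rw [hc, mul_smul, hc0R, aff_smul_pt]
    simp
  have hu1c : c * (u1 : Matrix.ProjGenLinGroup (Fin 2) F) * c⁻¹ = aff 1 1 := by
    rw [hc, show ∀ d : Matrix.ProjGenLinGroup (Fin 2) F, d * c0 * (u1 : Matrix.ProjGenLinGroup (Fin 2) F) *
      (d * c0)⁻¹ = d * (c0 * (u1 : Matrix.ProjGenLinGroup (Fin 2) F) * c0⁻¹) * d⁻¹ from fun d => by group, hu1G,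
      mul_inv_eq_iff_eq_mul, aff_mul, aff_mul]
    simp [hb0]
  let H : Subgroup (Matrix.ProjGenLinGroup (Fin 2) F) := G.map (MulAut.conj c).toMonoidHom
  have hH : ∀ g : Matrix.ProjGenLinGroup (Fin 2) F, g ∈ H ↔ c⁻¹ * g * c ∈ G := fun g => by
    rw [Subgroup.mem_map]
    constructor
    · rintro ⟨u, hu, rfl⟩
      simpa [mul_assoc] using hu
    · intro h
      exact ⟨_, h, by simp [mul_assoc]⟩
  let A : AddSubgroup F :=
    { carrier := {t | aff 1 t ∈ H}
      zero_mem' := by show aff 1 0 ∈ H; rw [aff_one]; exact one_mem H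
      add_mem' := fun {s t} hs ht => by
        show aff 1 (s + t) ∈ H
        have e := H.mul_mem ht hs
        rw [aff_mul] at e
        simpa [add_comm] using e
      neg_mem' := fun {t} ht => by
        show aff 1 (-t) ∈ H
        have e : aff (1 : Fˣ) (-t) = (aff 1 t)⁻¹ := eq_inv_of_mul_eq_one_left (by
          rw [aff_mul]; simp [aff_one])
        rw [e]; exact H.inv_mem ht }
  have hA1 : (1 : F) ∈ A := (hH _).2 (by rw [← hu1c]; simpa [mul_assoc] using u1.2)
  have hconjfix : ∀ (u : Matrix.ProjGenLinGroup (Fin 2) F) (x : ℙ F (Fin 2 → F)),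
      (c * u * c⁻¹) • (c • x) = c • (u • x) := fun u x => by
    rw [mul_smul, mul_smul, inv_smul_smul]
  have hmemP : ∀ t, t ∈ A → ∃ v ∈ (P : Subgroup G), c * (v : Matrix.ProjGenLinGroup (Fin 2) F) * c⁻¹ = aff 1 t := by
    intro t ht
    obtain ⟨U, kk, -, hUmem, hUp, -⟩ := exists_stab_data p G (pt P)
    have hPU : U = (P : Subgroup G) := P.3 hUp fun u hu => (hUmem u).2 (by
      by_cases h1 : u = 1
      · exact Or.inl h1
      · exact Or.inr ((hpt P u hu).2 h1))
    refine ⟨⟨_, (hH _).1 ht⟩, hPU ▸ (hUmem _).2 ?_, by simp [mul_assoc]⟩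
    by_cases h0 : t = 0
    · left
      refine Subtype.ext ?_
      simp [h0, aff_one]
    · right
      show fixSet (c⁻¹ * aff 1 t * c) = {pt P}
      conv_lhs => rw [show c⁻¹ * aff 1 t * c = c⁻¹ * aff 1 t * c⁻¹⁻¹ by rw [inv_inv]]
      rw [fixSet_conj, fixSet_aff_one h0, Set.image_singleton, inv_smul_eq_iff.2 hcP.symm]
  have hPA : ∀ v ∈ (P : Subgroup G), ∃ t ∈ A, c * (v : Matrix.ProjGenLinGroup (Fin 2) F) * c⁻¹ = aff 1 t := by
    intro v hv
    obtain ⟨a, b, hab⟩ := exists_aff_of_fix_inf (g := c * (v : Matrix.ProjGenLinGroup (Fin 2) F) * c⁻¹)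
      (by rw [← hcP, hconjfix, show (v : Matrix.ProjGenLinGroup (Fin 2) F) • pt P = pt P from (hpt P v hv).1])
    have ha : a = 1 := by
      by_cases hv1 : v = 1
      · subst hv1
        rw [OneMemClass.coe_one, mul_one, mul_inv_cancel, eq_comm] at hab
        exact (aff_eq_one.1 hab).1
      by_contra ha
      have hfix : fixSet (aff a b) = {lineInf} := by
        rw [← hab, fixSet_conj, (hpt P v hv).2 hv1, Set.image_singleton, hcP]
      rw [fixSet_aff_of_ne ha] at hfix
      have h2 : linePt (b / (1 - a)) ∈ ({lineInf} : Set (ℙ F (Fin 2 → F))) := hfix ▸ Or.inr rfl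
      exact lineInf_ne_linePt _ (Set.mem_singleton_iff.1 h2).symm
    subst ha
    exact ⟨b, (hH _).2 (by rw [← hab]; simpa [mul_assoc] using v.2), hab⟩
  have hAcard : Nat.card A = Q := by
    rw [← hsyl P]
    refine (Nat.card_congr (Equiv.ofBijective (fun v : (P : Subgroup G) =>
      (⟨(hPA v.1 v.2).choose, (hPA v.1 v.2).choose_spec.1⟩ : A)) ⟨fun v w h => ?_, fun t => ?_⟩)).symm
    · have e1 := (hPA v.1 v.2).choose_spec.2
      have e2 := (hPA w.1 w.2).choose_spec.2
      have h' : (hPA v.1 v.2).choose = (hPA w.1 w.2).choose := congrArg Subtype.val h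
      rw [h'] at e1
      exact Subtype.ext (Subtype.ext (mul_left_cancel (mul_right_cancel (e1.trans e2.symm))))
    · obtain ⟨v, hv, hvt⟩ := hmemP t.1 t.2
      refine ⟨⟨v, hv⟩, Subtype.ext ?_⟩
      exact (aff_inj (((hPA v hv).choose_spec.2).symm.trans hvt)).2
  -- the points of the Sylow subgroups
  have hptsmul : ∀ (g : G) (X : Sylow p G), pt (g • X) = g • pt X := by
    intro g X
    obtain ⟨u, hu, hu1⟩ := hne1 (g • X)
    have h1 := (hpt (g • X) u hu).2 hu1
    rw [Sylow.coe_subgroup_smul] at hu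
    obtain ⟨w, hw, rfl⟩ := hu
    have hw1 : w ≠ 1 := fun e => hu1 (by simp [e])
    have h2 : fixSet ((g * w * g⁻¹ : G) : Matrix.ProjGenLinGroup (Fin 2) F) = {g • pt X} := by
      rw [Subgroup.coe_mul, Subgroup.coe_mul, Subgroup.coe_inv, fixSet_conj, (hpt X w hw).2 hw1, Set.image_singleton]
      rfl
    exact Set.singleton_eq_singleton_iff.1 (h1.symm.trans h2)
  have hXset : Set.range (fun X : Sylow p G => c • pt X) = insert lineInf (linePt '' (A : Set F)) := by
    refine (Set.eq_of_subset_of_ncard_le ?_ ?_ (Set.toFinite _)).symm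
    · rintro x (rfl | ⟨t, ht, rfl⟩)
      · exact ⟨P, hcP⟩
      · obtain ⟨v, hv, hvt⟩ := hmemP t ht
        refine ⟨v • R, ?_⟩
        show c • pt (v • R) = _
        rw [hptsmul, Subgroup.smul_def, ← hconjfix, hvt, hcR, aff_smul_pt]
        simp
    · rw [Set.ncard_insert_of_notMem (by rintro ⟨t, _, h⟩; exact lineInf_ne_linePt t h.symm) (Set.toFinite _),
        Set.ncard_image_of_injective _ (fun a b h => linePt_inj h),
        Set.ncard_range_of_injective (show Function.Injective (fun X : Sylow p G => c • pt X) from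
          fun X Y h => hptinj (smul_left_cancel c h)), hm, ← Nat.card_coe_set_eq]
      show Q + 1 ≤ Nat.card A + 1
      rw [hAcard]
  -- the multipliers and the subfield
  have hscale : ∀ (a : Fˣ) (b : F), aff a b ∈ H → ∀ t ∈ A, (a : F) * t ∈ A := by
    intro a b hab t ht
    show aff 1 ((a : F) * t) ∈ H
    have e := H.mul_mem (H.mul_mem hab ht) (H.inv_mem hab)
    convert e using 1
    rw [eq_mul_inv_iff_mul_eq, aff_mul, aff_mul]
    simp [add_comm]
  let S : Subfield F :=
    { carrier := {z | ∀ t ∈ A, z * t ∈ A}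
      one_mem' := fun t ht => by rwa [one_mul]
      zero_mem' := fun t _ => by rw [zero_mul]; exact A.zero_mem
      add_mem' := fun hx hy t ht => by rw [add_mul]; exact A.add_mem (hx t ht) (hy t ht)
      neg_mem' := fun hx t ht => by rw [neg_mul]; exact A.neg_mem (hx t ht)
      mul_mem' := fun hx hy t ht => by rw [mul_assoc]; exact hx _ (hy t ht)
      inv_mem' := fun z hz t ht => by
        rcases eq_or_ne z 0 with rfl | hz0
        · simp
        have hbij : Function.Surjective (fun s : A => (⟨z * s, hz _ s.2⟩ : A)) :=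
          Finite.injective_iff_surjective.1 fun s s' h => Subtype.ext (mul_left_cancel₀ hz0 (congrArg Subtype.val h))
        obtain ⟨s, hs⟩ := hbij ⟨t, ht⟩
        have hs' : z * (s : F) = t := congrArg Subtype.val hs
        rw [← hs', inv_mul_cancel_left₀ hz0]
        exact s.2 }
  have hSA : ∀ z ∈ S, z ∈ A := fun z hz => by
    have := hz 1 hA1
    rwa [mul_one] at this
  have hkS : k + 1 ≤ Nat.card S := by
    set N := MulAction.stabilizer G (pt P) with hN
    have hNcard : Nat.card N = Q * k := by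
      have h1 : MulAction.stabilizer G P = N := by
        ext g
        rw [hN, MulAction.mem_stabilizer_iff, MulAction.mem_stabilizer_iff, ← hptsmul]
        exact ⟨fun h => by rw [h], fun h => hptinj h⟩
      have h2 := Nat.card_congr (MulAction.orbitProdStabilizerEquivGroup G P)
      rw [Nat.card_prod, h1, show Nat.card (MulAction.orbit G P) = Q + 1 by
        rw [MulAction.orbit_eq_univ, Nat.card_congr (Equiv.Set.univ _), hm], hcard] at h2
      refine Nat.eq_of_mul_eq_mul_left (by omega : 0 < Q + 1) (h2.trans ?_)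
      ring
    have hab : ∀ g : N, ∃ (a : Fˣ) (b : F), c * ((g : G) : Matrix.ProjGenLinGroup (Fin 2) F) * c⁻¹ = aff a b :=
      fun g => exists_aff_of_fix_inf (by rw [← hcP, hconjfix]; exact congrArg (c • ·) g.2)
    choose mu bb hmb using hab
    haveI : Fintype N := Fintype.ofFinite _
    have hfib : ∀ a ∈ Finset.univ.image mu, (Finset.univ.filter fun g => mu g = a).card ≤ Q := by
      intro a _
      rw [← hAcard]
      rcases (Finset.univ.filter fun g : N => mu g = a).eq_empty_or_nonempty with he | ⟨g0, hg0⟩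
      · rw [he]; simp
      · have hm0 : mu g0 = a := (Finset.mem_filter.1 hg0).2
        rw [← Nat.card_eq_finsetCard]
        refine Nat.card_le_card_of_injective (fun g => (⟨bb g.1 - bb g0, ?_⟩ : A)) ?_
        · show aff 1 _ ∈ H
          have hgm : mu g.1 = a := (Finset.mem_filter.1 g.2).2
          have e : aff (1 : Fˣ) (bb g.1 - bb g0) =
              c * ((g.1 : G) : Matrix.ProjGenLinGroup (Fin 2) F) * c⁻¹ *
                (c * ((g0 : G) : Matrix.ProjGenLinGroup (Fin 2) F) * c⁻¹)⁻¹ := by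
            rw [hmb, hmb, hgm, hm0, eq_mul_inv_iff_mul_eq, aff_mul]
            simp
          rw [e]
          exact H.mul_mem ((hH _).2 (by simp [mul_assoc])) (H.inv_mem ((hH _).2 (by simp [mul_assoc])))
        · intro g g' hgg
          have hgm : mu g.1 = a := (Finset.mem_filter.1 g.2).2
          have hgm' : mu g'.1 = a := (Finset.mem_filter.1 g'.2).2
          have h5 : bb g.1 - bb g0 = bb g'.1 - bb g0 := congrArg Subtype.val hgg
          have e1 : aff (mu g.1) (bb g.1) = aff (mu g'.1) (bb g'.1) := by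
            rw [hgm, hgm', sub_left_inj.1 h5]
          rw [← hmb, ← hmb] at e1
          exact Subtype.ext (Subtype.ext (Subtype.ext (mul_left_cancel (mul_right_cancel e1))))
    have hle := Finset.card_le_mul_card_image (Finset.univ : Finset N) Q hfib
    rw [Finset.card_univ, ← Nat.card_eq_fintype_card, hNcard] at hle
    have hkimg : k ≤ (Finset.univ.image mu).card := Nat.le_of_mul_le_mul_left hle (by omega)
    have hsub : insert (0 : F) ((fun a : Fˣ => (a : F)) '' (Finset.univ.image mu : Set Fˣ)) ⊆ (S : Set F) := by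
      rintro z (rfl | ⟨a, ha, rfl⟩)
      · exact S.zero_mem
      · obtain ⟨g, -, rfl⟩ := Finset.mem_image.1 ha
        exact hscale _ (bb g) ((hH _).2 (by rw [← hmb]; simp [mul_assoc]))
    have := Set.ncard_le_ncard hsub (Set.toFinite _)
    rw [Set.ncard_insert_of_notMem (by rintro ⟨a, -, ha⟩; exact a.ne_zero ha) (Set.toFinite _),
      Set.ncard_image_of_injective _ Units.val_injective, Set.ncard_coe_finset] at this
    have h7 : (S : Set F).ncard = Nat.card S := (Nat.card_coe_set_eq _).symm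
    omega
  have hAS : ∀ t ∈ A, t ∈ S := by
    by_contra hcon
    push Not at hcon
    obtain ⟨t, ht, htS⟩ := hcon
    have hinj : Function.Injective (fun z : S × S => (⟨(z.1 : F) + (z.2 : F) * t,
        A.add_mem (hSA _ z.1.2) (z.2.2 t ht)⟩ : A)) := by
      rintro ⟨z1, z2⟩ ⟨w1, w2⟩ h
      have h' : (z1 : F) + (z2 : F) * t = (w1 : F) + (w2 : F) * t := congrArg Subtype.val h
      by_cases hzw : z2 = w2
      · subst hzw
        exact Prod.ext (Subtype.ext (add_right_cancel h')) rfl
      · exfalso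
        have hne : (z2 : F) - w2 ≠ 0 := sub_ne_zero.2 fun h => hzw (Subtype.ext h)
        have he : t = ((w1 : F) - z1) / ((z2 : F) - w2) := by
          field_simp
          linear_combination h'
        exact htS (he ▸ S.div_mem (S.sub_mem w1.2 z1.2) (S.sub_mem z2.2 w2.2))
    have hle := Nat.card_le_card_of_injective _ hinj
    rw [Nat.card_prod, hAcard] at hle
    have h2 := Nat.mul_le_mul hkS hkS
    rcases hk with hk | hk
    · have h3 := Nat.mul_le_mul_left Q (show 2 ≤ Q by omega)
      have h4 : (k + 1) * (k + 1) = Q * Q := by rw [show k + 1 = Q by omega]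
      omega
    · have h3 : (2 * (k + 1)) * (2 * (k + 1)) = (Q + 1) * (Q + 1) := by rw [show 2 * (k + 1) = Q + 1 by omega]
      nlinarith
  have hScard : Nat.card S = Q := by
    rw [← hAcard]
    exact Nat.card_congr (Equiv.subtypeEquivRight fun z => ⟨hSA z, hAS z⟩)
  -- `H` is inside `PGL_2(S)`
  have hpts : ∀ g : Matrix.ProjGenLinGroup (Fin 2) F, g ∈ H → ∀ x ∈ insert lineInf (linePt '' (A : Set F)),
      ∃ y : ℙ S (Fin 2 → S), ptMap S.subtype y = g • x := by
    intro g hg x hx
    rw [← hXset] at hx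
    obtain ⟨X, rfl⟩ := hx
    have h2 : g • (c • pt X) ∈ insert lineInf (linePt '' (A : Set F)) := by
      rw [← hXset]
      refine ⟨(⟨_, (hH g).1 hg⟩ : G) • X, ?_⟩
      show c • pt _ = _
      rw [hptsmul, Subgroup.smul_def, ← hconjfix]
      simp [mul_assoc]
    rcases h2 with h2 | ⟨t, ht, h2⟩
    · exact ⟨lineInf, (ptMap_lineInf _).trans h2.symm⟩
    · exact ⟨linePt ⟨t, hAS t ht⟩, (ptMap_linePt _ _).trans h2⟩
  have hle : H ≤ (pglMap S.subtype).range := by
    intro g hg
    obtain ⟨y1, hy1⟩ := hpts g hg lineInf (Or.inl rfl)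
    obtain ⟨y2, hy2⟩ := hpts g hg (linePt 0) (Or.inr ⟨0, A.zero_mem, rfl⟩)
    obtain ⟨y3, hy3⟩ := hpts g hg (linePt 1) (Or.inr ⟨1, hA1, rfl⟩)
    have n12 : y1 ≠ y2 := fun h => lineInf_ne_linePt 0 (smul_left_cancel g (hy1.symm.trans ((congrArg _ h).trans hy2)))
    have n13 : y1 ≠ y3 := fun h => lineInf_ne_linePt 1 (smul_left_cancel g (hy1.symm.trans ((congrArg _ h).trans hy3)))
    have n23 : y2 ≠ y3 := fun h => zero_ne_one
      (linePt_inj (smul_left_cancel g (hy2.symm.trans ((congrArg _ h).trans hy3))))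
    obtain ⟨M, hM1, hM2, hM3⟩ := exists_frame y1 y2 y3 n12 n13 n23
    refine ⟨Matrix.ProjGenLinGroup.mk M, ?_⟩
    have hk1 : ∀ x y : ℙ S (Fin 2 → S), M • x = y →
        pglMap S.subtype (Matrix.ProjGenLinGroup.mk M) • ptMap S.subtype x = ptMap S.subtype y := by
      intro x y h
      rw [ptMap_smul, ← h]
      congr 1
    have q1 : (p10 : ℙ S (Fin 2 → S)) = lineInf := rfl
    have q2 : (p01 : ℙ S (Fin 2 → S)) = linePt 0 := rfl
    have q3 : (p11 : ℙ S (Fin 2 → S)) = linePt 1 := rfl
    have a1 := hk1 _ _ hM1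
    have a2 := hk1 _ _ hM2
    have a3 := hk1 _ _ hM3
    rw [q1, ptMap_lineInf, hy1] at a1
    rw [q2, ptMap_linePt, map_zero, hy2] at a2
    rw [q3, ptMap_linePt, map_one, hy3] at a3
    refine (inv_mul_eq_one.1 ((pgl_two_sharply_three_transitive (F := F)).2 _ lineInf (linePt 0) (linePt 1)
      (lineInf_ne_linePt 0) (lineInf_ne_linePt 1) (fun h => zero_ne_one (linePt_inj h)) ?_ ?_ ?_)).symm
    · rw [mul_smul, inv_smul_eq_iff, a1]
    · rw [mul_smul, inv_smul_eq_iff, a2]
    · rw [mul_smul, inv_smul_eq_iff, a3]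
  let T := H.comap (pglMap S.subtype)
  have hmap : T.map (pglMap S.subtype) = H := Subgroup.map_comap_eq_self hle
  let eT : G ≃* T := ((MulAut.conj c).subgroupMap G).trans ((MulEquiv.subgroupCongr hmap.symm).trans
    (Subgroup.equivMapOfInjective T _ (pglMap_injective _)).symm)
  haveI hTfin : Finite T := Finite.of_equiv G eT.toEquiv
  have hTcard : Nat.card T = Q * (Q + 1) * k := by rw [← Nat.card_congr eT.toEquiv, hcard]
  haveI : Fintype S := Fintype.ofFinite _
  have hSQ : Fintype.card S = Q := by rw [← Nat.card_eq_fintype_card, hScard]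
  have hPGL : Nat.card (Matrix.ProjGenLinGroup (Fin 2) S) = Q * ((Q - 1) * (Q + 1)) := by
    rw [card_PGL_eq_card_SL, card_SL_two hSQ]
  refine ⟨S, hScard, ?_⟩
  rcases hk with hk | hk
  · refine Or.inl ⟨hk, ⟨eT.trans ((MulEquiv.subgroupCongr
      (Subgroup.eq_top_of_card_eq T ?_)).trans Subgroup.topEquiv)⟩⟩
    rw [hTcard, hPGL, hk]
    ring
  · refine Or.inr ⟨hk, ?_⟩
    set j := Matrix.ProjectiveSpecialLinearGroup.toPGL (n := Fin 2) (R := S) with hj
    have hupper : ∀ s : S, aff (1 : Sˣ) s ∈ T := by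
      intro s
      show pglMap S.subtype (aff 1 s) ∈ H
      rw [pglMap_aff, map_one]
      exact hSA _ s.2
    have hSL : ∀ M : SpecialLinearGroup (Fin 2) S,
        Matrix.ProjGenLinGroup.mk (SpecialLinearGroup.toGL M) ∈ T := by
      let L := T.comap (Matrix.ProjGenLinGroup.mk.comp (SpecialLinearGroup.toGL (n := Fin 2) (R := S)))
      suffices hL : L = ⊤ by
        intro M
        have : M ∈ L := hL ▸ Subgroup.mem_top M
        exact this
      obtain ⟨gR, hgR⟩ := MulAction.exists_smul_eq G P R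
      have hwH : c * (gR : Matrix.ProjGenLinGroup (Fin 2) F) * c⁻¹ ∈ H := (hH _).2 (by simp [mul_assoc])
      obtain ⟨w, hw⟩ := hle hwH
      have hwT : w ∈ T := by show pglMap S.subtype w ∈ H; rw [hw]; exact hwH
      have hwinf : w • (lineInf : ℙ S (Fin 2 → S)) = linePt 0 := by
        refine ptMap_injective S.subtype ?_
        rw [← ptMap_smul, hw, ptMap_lineInf, ptMap_linePt, map_zero, ← hcP, hconjfix, ← hcR, ← hgR, hptsmul]
        rfl
      obtain ⟨M, rfl⟩ := Matrix.ProjGenLinGroup.mk_surjective w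
      have h00 : M.val 0 0 = 0 := by
        rw [lineInf, linePt, Projectivization.PGL.mk_smul_mk, Projectivization.mk_eq_mk_iff'] at hwinf
        obtain ⟨e, he⟩ := hwinf
        have := congrFun he 0
        simpa [Units.smul_def, Matrix.smul_eq_mulVec, Matrix.mulVec, dotProduct, Fin.sum_univ_two] using this.symm
      have hd : M.val 0 1 * M.val 1 0 ≠ 0 := by
        have := ((Matrix.isUnit_iff_isUnit_det M.val).1 M.isUnit).ne_zero
        rw [Matrix.det_fin_two, h00, zero_mul, zero_sub] at this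
        exact fun h => this (by rw [h, neg_zero])
      let wS : SpecialLinearGroup (Fin 2) S := ⟨!![0, -1; 1, 0], by simp [Matrix.det_fin_two]⟩
      refine upperUniSL_sup_conj L ?_ wS (by show (1 : S) ≠ 0; exact one_ne_zero) ?_
      · rintro _ ⟨t, rfl⟩
        show Matrix.ProjGenLinGroup.mk (SpecialLinearGroup.toGL (upperUniSL t)) ∈ T
        convert hupper t.toAdd using 1
        rw [aff]
        congr 1
        refine Units.ext ?_
        ext i j
        fin_cases i <;> fin_cases j <;> simp [upperUniSL_val, Matrix.GeneralLinearGroup.mkOfDetNeZero]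
      · rintro _ ⟨t, rfl⟩
        show Matrix.ProjGenLinGroup.mk (SpecialLinearGroup.toGL (wS * upperUniSL t * wS⁻¹)) ∈ T
        have h1 := T.mul_mem (T.mul_mem hwT (hupper (-t.toAdd * M.val 0 1 / M.val 1 0))) (T.inv_mem hwT)
        convert h1 using 1
        rw [aff, ← map_inv, ← map_mul, ← map_mul]
        congr 1
        rw [eq_mul_inv_iff_mul_eq]
        refine Units.ext ?_
        ext i j
        fin_cases i <;> fin_cases j <;>
          simp [Matrix.SpecialLinearGroup.coe_GL_coe_matrix, val_wM_conj_upper t wS rfl, Matrix.GeneralLinearGroup.mkOfDetNeZero, -map_mul, -map_inv,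
            Matrix.mul_apply, Fin.sum_univ_two, h00] <;>
          field_simp [right_ne_zero_of_mul hd]
    have hrange : j.range ≤ T := by
      rintro _ ⟨x, rfl⟩
      induction x using QuotientGroup.induction_on with | _ M =>
      exact hSL M
    have hPSL : 2 * Nat.card (Matrix.ProjectiveSpecialLinearGroup (Fin 2) S) = Q * ((Q - 1) * (Q + 1)) := by
      rw [← card_SL_two hSQ, ← card_center_mul_card_PSL (F := S) (ι := Fin 2), card_center_SL, card_units_eq hSQ,
        Fintype.card_fin, Nat.gcd_eq_left ⟨k, by omega⟩]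
    have heq : j.range = T := by
      refine Subgroup.eq_of_le_of_card_ge hrange ?_
      rw [← Nat.card_congr (MonoidHom.ofInjective Matrix.ProjectiveSpecialLinearGroup.toPGL_injective).toEquiv,
        hTcard]
      have e3 : Q * ((Q - 1) * (Q + 1)) = 2 * (Q * (Q + 1) * k) := by rw [← hk]; ring
      omega
    exact ⟨eT.trans ((MulEquiv.subgroupCongr heq.symm).trans
      (MonoidHom.ofInjective Matrix.ProjectiveSpecialLinearGroup.toPGL_injective).symm)⟩

end CfsgLib.Classical.Dickson
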