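/-
Functoriality of `PSL_2` in the field and orders of semisimple elements.
-/
import Cfsg.Agent.Lib.Classical.Dickson.Rational
import Cfsg.Agent.Lib.Classical.SL2Semisimple
import Cfsg.Agent.Lib.Spectrum.PGL2

set_option autoImplicit false

namespace CfsgLib.Classical.Dickson

open Matrix
open scoped MatrixGroups

section Map

variable {S F : Type*} [Field S] [Field F] (f : S →+* F)

theorem toGL_map (M : SpecialLinearGroup (Fin 2) S) :
    Matrix.GeneralLinearGroup.map f (SpecialLinearGroup.toGL M) =
      SpecialLinearGroup.toGL (SpecialLinearGroup.map f M) := Units.ext rfl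

theorem center_le_comap :
    Subgroup.center (SpecialLinearGroup (Fin 2) S) ≤
      (Subgroup.center (SpecialLinearGroup (Fin 2) F)).comap (SpecialLinearGroup.map f) := by
  intro M hM
  rw [← SpecialLinearGroup.toPGL_ker, MonoidHom.mem_ker] at hM
  rw [Subgroup.mem_comap, ← SpecialLinearGroup.toPGL_ker, MonoidHom.mem_ker]
  show Matrix.ProjGenLinGroup.mk (SpecialLinearGroup.toGL (SpecialLinearGroup.map f M)) = 1
  rw [← toGL_map, ← pglMap_mk]
  exact (congrArg (pglMap f) hM).trans (map_one _)

/-- Functoriality of `PSL_2`. -/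
def pslMap : ProjectiveSpecialLinearGroup (Fin 2) S →* ProjectiveSpecialLinearGroup (Fin 2) F :=
  QuotientGroup.map _ _ (SpecialLinearGroup.map f) (center_le_comap f)

theorem toPGL_pslMap (x : ProjectiveSpecialLinearGroup (Fin 2) S) :
    Matrix.ProjectiveSpecialLinearGroup.toPGL (pslMap f x) =
      pglMap f (Matrix.ProjectiveSpecialLinearGroup.toPGL x) := by
  induction x using QuotientGroup.induction_on with | _ M =>
  show Matrix.ProjGenLinGroup.mk (SpecialLinearGroup.toGL (SpecialLinearGroup.map f M)) = _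
  rw [← toGL_map]
  rfl

theorem pslMap_injective : Function.Injective (pslMap f) := fun x y h =>
  Matrix.ProjectiveSpecialLinearGroup.toPGL_injective (pglMap_injective f (by
    rw [← toPGL_pslMap, ← toPGL_pslMap, h]))

variable (e : S ≃+* F)

theorem pglMap_surjective : Function.Surjective (pglMap (e : S →+* F)) := by
  intro g
  obtain ⟨M, rfl⟩ := Matrix.ProjGenLinGroup.mk_surjective g
  refine ⟨Matrix.ProjGenLinGroup.mk (Matrix.GeneralLinearGroup.map (e.symm : F →+* S) M), ?_⟩
  rw [pglMap_mk]
  exact congrArg _ (Units.ext (Matrix.ext fun i j => e.apply_symm_apply _))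

theorem pslMap_surjective : Function.Surjective (pslMap (e : S →+* F)) := by
  intro x
  induction x using QuotientGroup.induction_on with | _ M =>
  exact ⟨QuotientGroup.mk (SpecialLinearGroup.map (e.symm : F →+* S) M),
    congrArg QuotientGroup.mk (Subtype.ext (Matrix.ext fun i j => e.apply_symm_apply _))⟩

/-- `PGL_2` of isomorphic fields. -/
noncomputable def pglCongr : Matrix.ProjGenLinGroup (Fin 2) S ≃* Matrix.ProjGenLinGroup (Fin 2) F :=
  MulEquiv.ofBijective _ ⟨pglMap_injective _, pglMap_surjective e⟩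

/-- `PSL_2` of isomorphic fields. -/
noncomputable def pslCongr : ProjectiveSpecialLinearGroup (Fin 2) S ≃* ProjectiveSpecialLinearGroup (Fin 2) F :=
  MulEquiv.ofBijective _ ⟨pslMap_injective _, pslMap_surjective e⟩

end Map

variable {F : Type*} [Field F] [Fintype F]

/-- Semisimple elements of `PSL_2(q)`. -/
theorem psl_semisimple_dvd {q : ℕ} (hF : Fintype.card F = q) (p : ℕ) [hp : Fact p.Prime] [CharP F p]
    (x : ProjectiveSpecialLinearGroup (Fin 2) F) (hx : (orderOf x).Coprime p) :
    orderOf x ∣ (q + 1) / Nat.gcd 2 (q - 1) ∨ orderOf x ∣ (q - 1) / Nat.gcd 2 (q - 1) := by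
  obtain ⟨⟨k, hk0⟩, hk : p.Prime ∧ _⟩ := FiniteField.card F p
  simp only [PNat.mk_coe] at hk
  by_cases hp2 : p = 2
  · subst hp2
    have hqe : 2 ∣ q := by rw [← hF, hk.2]; exact dvd_pow_self 2 hk0.ne'
    have hd : Nat.gcd 2 (q - 1) = 1 := by
      have h1 : 0 < q := by rw [← hF]; exact Fintype.card_pos
      exact (Nat.prime_two.coprime_iff_not_dvd).2 (by omega)
    rw [hd, Nat.div_one, Nat.div_one]
    have hinj : Function.Injective (QuotientGroup.mk' (Subgroup.center (SpecialLinearGroup (Fin 2) F))) := by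
      rw [← MonoidHom.ker_eq_bot_iff, QuotientGroup.ker_mk', ← Subgroup.card_eq_one, card_center_SL,
        Fintype.card_fin, card_units_eq hF, hd]
    obtain ⟨g, rfl⟩ := QuotientGroup.mk'_surjective _ x
    rw [orderOf_injective _ hinj] at hx ⊢
    exact (sl_two_semisimple_order_dvd hF 2 g hx).symm
  · have h2 : (2 : F) ≠ 0 := Ring.two_ne_zero (by rw [ringChar.eq F p]; exact hp2)
    have hd : Nat.gcd 2 (q - 1) = 2 := by
      have hq1 : q % 2 = 1 := by
        rw [← hF]
        exact FiniteField.odd_card_of_char_ne_two (by rw [ringChar.eq F p]; exact hp2)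
      exact Nat.gcd_eq_left (by omega)
    rw [hd]
    rcases CfsgLib.Spectrum.orderOf_psl_cases h2 hk.2 x with h | h | h
    · have h1 : orderOf x = 1 := Nat.eq_one_of_dvd_coprimes hx dvd_rfl h
      left
      rw [h1]
      exact one_dvd _
    · exact Or.inr (hF ▸ h)
    · exact Or.inl (hF ▸ h)

end CfsgLib.Classical.Dickson
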