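/-
Dickson's list of the subgroups of `PSL_2(q)`.
-/
import Cfsg.Agent.Lib.Classical.Dickson.PGLClassify
import Cfsg.Agent.Lib.Classical.Dickson.PSLMap

set_option autoImplicit false

namespace CfsgLib.Classical.Dickson

open Matrix Projectivization CfsgLib.Transfer
open scoped MatrixGroups LinearAlgebra.Projectivization

variable {F : Type*} [Field F] [Fintype F] (p : ℕ) [hp : Fact p.Prime] [CharP F p]

omit [Field F] [Fintype F] [CharP F p] in
theorem card_sylow_congr {A B : Type*} [Group A] [Group B] [Finite A] (e : A ≃* B) :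
    Nat.card (Sylow p A) = Nat.card (Sylow p B) := by
  haveI : Finite B := Finite.of_equiv A e.toEquiv
  refine le_antisymm
    (Nat.card_le_card_of_surjective _ (Sylow.mapSurjective_surjective (f := e.symm.toMonoidHom) e.symm.surjective p))
    (Nat.card_le_card_of_surjective _ (Sylow.mapSurjective_surjective (f := e.toMonoidHom) e.surjective p))

omit [Field F] [Fintype F] [CharP F p] in
theorem card_sylow_sub_congr {A B : Type*} [Group A] [Group B] [Finite A] (e : A ≃* B) (P : Sylow p A)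
    (R : Sylow p B) : Nat.card (P : Subgroup A) = Nat.card (R : Subgroup B) := by
  haveI : Finite B := Finite.of_equiv A e.toEquiv
  rw [P.card_eq_multiplicity, R.card_eq_multiplicity, Nat.card_congr e.toEquiv]

/-- Fixed point case: the subgroup normalises a Sylow subgroup. -/
theorem exists_le_normalizer_sylow (H : Subgroup (ProjectiveSpecialLinearGroup (Fin 2) F))
    {L : Type*} [Field L] (f : F →+* L) (x : ℙ L (Fin 2 → L)) [CharP L p]
    (hfix : ∀ h ∈ H, pglMap f (Matrix.ProjectiveSpecialLinearGroup.toPGL h) • x = x)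
    (u : ProjectiveSpecialLinearGroup (Fin 2) F) (hu1 : u ≠ 1)
    (hux : fixSet (pglMap f (Matrix.ProjectiveSpecialLinearGroup.toPGL u)) = {x}) :
    ∃ P : Sylow p (ProjectiveSpecialLinearGroup (Fin 2) F),
      H ≤ Subgroup.normalizer ((P : Subgroup (ProjectiveSpecialLinearGroup (Fin 2) F)) : Set _) := by
  set T : ProjectiveSpecialLinearGroup (Fin 2) F →* Matrix.ProjGenLinGroup (Fin 2) F :=
    Matrix.ProjectiveSpecialLinearGroup.toPGL with hT
  have hTinj : Function.Injective T := Matrix.ProjectiveSpecialLinearGroup.toPGL_injective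
  have hcomp : Function.Injective ((pglMap f).comp T) := (pglMap_injective f).comp hTinj
  have hfu : pglMap f (T u) ≠ 1 := fun h => hu1 (hcomp (h.trans (map_one _).symm))
  have hup : u ^ p = 1 := hcomp (by
    rw [map_pow, map_one]
    exact (order_of_fix p hfu (show x ∈ fixSet _ by rw [hux]; rfl)).1 hux)
  have hpu : IsPGroup p (Subgroup.zpowers u) := IsPGroup.of_card (n := 1) (by
    rw [Nat.card_zpowers, pow_one, orderOf_eq_prime hup hu1])
  obtain ⟨P, hP⟩ := hpu.exists_le_sylow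
  refine ⟨P, ?_⟩
  have huP : u ∈ P := hP (Subgroup.mem_zpowers u)
  let G := (P : Subgroup (ProjectiveSpecialLinearGroup (Fin 2) F)).map T
  haveI : Finite G := Finite.of_equiv (P : Subgroup (ProjectiveSpecialLinearGroup (Fin 2) F))
    (Subgroup.equivMapOfInjective _ T hTinj).toEquiv
  obtain ⟨y, hy⟩ := exists_unique_fixed p (G := G) ⊤ (IsPGroup.to_subgroup (P.2.map T) ⊤)
  have hyP : ∀ v ∈ P, T v • y = y ∧ (v ≠ 1 → fixSet (T v) = {y}) := fun v hv => by
    obtain ⟨a, b⟩ := hy ⟨T v, Subgroup.mem_map_of_mem T hv⟩ trivial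
    exact ⟨a, fun h => b fun e => h (hTinj ((congrArg Subtype.val e).trans (map_one T).symm))⟩
  have hyx : ptMap f y = x := by
    have : ptMap f y ∈ fixSet (pglMap f (T u)) := by
      rw [mem_fixSet, ptMap_smul, (hyP u huP).1]
    rwa [hux] at this
  haveI : Finite T.range := Finite.of_surjective _ T.rangeRestrict_surjective
  obtain ⟨U, k, -, hUmem, hUp, -⟩ := exists_stab_data p (T.range) y
  let V : Subgroup (ProjectiveSpecialLinearGroup (Fin 2) F) := U.comap T.rangeRestrict
  have hVp : IsPGroup p V := hUp.comap_of_injective _ (by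
    intro a b h
    exact hTinj (congrArg Subtype.val h))
  have hVmem : ∀ v, v ∈ V ↔ v = 1 ∨ fixSet (T v) = {y} := fun v => (hUmem (T.rangeRestrict v)).trans
    (or_congr ⟨fun h => hTinj ((congrArg Subtype.val h).trans (map_one T).symm), fun h => h ▸ map_one _⟩ Iff.rfl)
  have hPV : V = P := P.3 hVp fun v hv => (hVmem v).2 (by
    by_cases h1 : v = 1
    · exact Or.inl h1
    · exact Or.inr ((hyP v hv).2 h1))
  intro h hh
  have hhy : T h • y = y := ptMap_injective f (by rw [← ptMap_smul, hyx]; exact hfix h hh)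
  have key : ∀ g : ProjectiveSpecialLinearGroup (Fin 2) F, T g • y = y → ∀ v ∈ P, g * v * g⁻¹ ∈ P := by
    intro g hg v hv
    change v ∈ (P : Subgroup (ProjectiveSpecialLinearGroup (Fin 2) F)) at hv
    show g * v * g⁻¹ ∈ (P : Subgroup (ProjectiveSpecialLinearGroup (Fin 2) F))
    rw [← hPV] at hv ⊢
    refine (hVmem _).2 ?_
    rcases (hVmem v).1 hv with rfl | h1
    · exact Or.inl (by group)
    · refine Or.inr ?_
      rw [map_mul, map_mul, map_inv, fixSet_conj, h1, Set.image_singleton, hg]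
  rw [Subgroup.mem_normalizer_iff]
  intro v
  refine ⟨key h hhy v, fun hv => ?_⟩
  have := key h⁻¹ (by rw [map_inv, inv_smul_eq_iff, hhy]) _ hv
  rwa [inv_inv, show h⁻¹ * (h * v * h⁻¹) * h = v by group] at this

theorem dickson_list {q : ℕ} (hF : Fintype.card F = q)
    (H : Subgroup (ProjectiveSpecialLinearGroup (Fin 2) F)) :
    (∃ k : ℕ, (k ∣ (q + 1) / Nat.gcd 2 (q - 1) ∨ k ∣ (q - 1) / Nat.gcd 2 (q - 1)) ∧
      ((IsCyclic H ∧ Nat.card H = k) ∨ Nonempty (H ≃* DihedralGroup k))) ∨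
    (∃ (P : Sylow p (ProjectiveSpecialLinearGroup (Fin 2) F))
        (K : Subgroup (ProjectiveSpecialLinearGroup (Fin 2) F)),
      K ≤ Subgroup.normalizer ((P : Subgroup (ProjectiveSpecialLinearGroup (Fin 2) F)) : Set _) ∧
        Nonempty (H ≃* K)) ∨
    Nonempty (H ≃* alternatingGroup (Fin 4)) ∨ Nonempty (H ≃* Equiv.Perm (Fin 4)) ∨
    Nonempty (H ≃* alternatingGroup (Fin 5)) ∨
    (∃ (K : Type) (_ : Field K) (_ : Fintype K) (m : ℕ), Fintype.card K ^ m = q ∧
      (Nonempty (H ≃* ProjectiveSpecialLinearGroup (Fin 2) K) ∨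
        Nonempty (H ≃* Matrix.ProjGenLinGroup (Fin 2) K))) := by
  haveI : CharP (AlgebraicClosure F) p := charP_of_injective_algebraMap (algebraMap F _).injective p
  set f : F →+* AlgebraicClosure F := algebraMap F _ with hf
  let ι : ProjectiveSpecialLinearGroup (Fin 2) F →* Matrix.ProjGenLinGroup (Fin 2) (AlgebraicClosure F) :=
    (pglMap f).comp Matrix.ProjectiveSpecialLinearGroup.toPGL
  have hι : Function.Injective ι :=
    (pglMap_injective f).comp Matrix.ProjectiveSpecialLinearGroup.toPGL_injective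
  let G := H.map ι
  let e : H ≃* G := Subgroup.equivMapOfInjective H ι hι
  haveI : Finite G := Finite.of_equiv H e.toEquiv
  have hord : ∀ h : H, (orderOf h).Coprime p →
      orderOf h ∣ (q + 1) / Nat.gcd 2 (q - 1) ∨ orderOf h ∣ (q - 1) / Nat.gcd 2 (q - 1) := by
    intro h hh
    rw [← Subgroup.orderOf_coe] at hh ⊢
    exact psl_semisimple_dvd hF p _ hh
  rcases classify p G with ⟨hcyc, hcop⟩ | ⟨n, hn, hcop, ⟨φ⟩⟩ | ⟨x, hx, u, hu, hux⟩ | ⟨⟨φ⟩⟩ | ⟨⟨φ⟩⟩ | ⟨⟨φ⟩⟩ |
    ⟨Q, k, hQ, hsyl, hm, hcard, hk⟩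
  · haveI : IsCyclic H := e.isCyclic.2 hcyc
    obtain ⟨g, hg⟩ := IsCyclic.exists_ofOrder_eq_natCard (α := H)
    refine Or.inl ⟨Nat.card H, hg ▸ hord g ?_, Or.inl ⟨this, rfl⟩⟩
    rwa [hg, Nat.card_congr e.toEquiv]
  · have hr : orderOf ((e.trans φ).symm (DihedralGroup.r 1)) = n := by
      rw [MulEquiv.orderOf_eq, DihedralGroup.orderOf_r_one]
    exact Or.inl ⟨n, hr ▸ hord _ (hr.symm ▸ hcop), Or.inr ⟨e.trans φ⟩⟩
  · refine Or.inr (Or.inl ?_)
    obtain ⟨v, hv⟩ := e.surjective u
    have hval : ∀ h : H, ((e h : G) : Matrix.ProjGenLinGroup (Fin 2) (AlgebraicClosure F)) = ι h :=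
      fun h => rfl
    obtain ⟨P, hP⟩ := exists_le_normalizer_sylow p H f x (fun h hh => hx (e ⟨h, hh⟩)) v
      (fun h => hu (by rw [← hv, show v = 1 from Subtype.ext h, map_one]))
      (by rw [← hux, ← hv, hval]; rfl)
    exact ⟨P, H, hP, ⟨MulEquiv.refl _⟩⟩
  · exact Or.inr (Or.inr (Or.inl ⟨e.trans φ⟩))
  · exact Or.inr (Or.inr (Or.inr (Or.inl ⟨e.trans φ⟩)))
  · exact Or.inr (Or.inr (Or.inr (Or.inr (Or.inl ⟨e.trans φ⟩))))
  · refine Or.inr (Or.inr (Or.inr (Or.inr (Or.inr ?_))))
    let G' := H.map (Matrix.ProjectiveSpecialLinearGroup.toPGL (n := Fin 2) (R := F))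
    let e' : H ≃* G' := Subgroup.equivMapOfInjective H _ Matrix.ProjectiveSpecialLinearGroup.toPGL_injective
    have eg : G ≃* G' := e.symm.trans e'
    haveI : Finite G' := Finite.of_equiv G eg.toEquiv
    obtain ⟨R⟩ : Nonempty (Sylow p G) := inferInstance
    obtain ⟨S, hS, hcases⟩ := wild_identification p G' Q k hQ
      (fun P => (card_sylow_sub_congr p eg R P).symm.trans (hsyl R))
      ((card_sylow_congr p eg).symm.trans hm) ((Nat.card_congr eg.toEquiv).symm.trans hcard) hk
    haveI : Fintype S := Fintype.ofFinite _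
    haveI : CharP S p := (RingHom.charP_iff_charP S.subtype p).2 inferInstance
    obtain ⟨⟨j, hj0⟩, hj : p.Prime ∧ _⟩ := FiniteField.card S p
    simp only [PNat.mk_coe] at hj
    haveI : Fintype (GaloisField p j) := Fintype.ofFinite _
    have hcK : Fintype.card (GaloisField p j) = Fintype.card S := by
      rw [← Nat.card_eq_fintype_card, GaloisField.card p j hj0.ne', hj.2]
    let σ : S ≃+* GaloisField p j := FiniteField.ringEquivOfCardEq hcK.symm
    refine ⟨GaloisField p j, inferInstance, inferInstance, Module.finrank S F, ?_, ?_⟩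
    · rw [hcK, ← Module.card_eq_pow_finrank (K := S) (V := F), hF]
    · rcases hcases with ⟨-, ⟨ψ⟩⟩ | ⟨-, ⟨ψ⟩⟩
      · exact Or.inr ⟨e'.trans (ψ.trans (pglCongr σ))⟩
      · exact Or.inl ⟨e'.trans (ψ.trans (pslCongr σ))⟩

end CfsgLib.Classical.Dickson
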