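/-
Existence of `A_4` and `S_4` inside `PSL_2(q)`.
-/
import Cfsg.Agent.Lib.Classical.Dickson.PSLList
import Cfsg.Agent.Lib.Classical.Dickson.SmallIdent
import Cfsg.Agent.Lib.Classical.SL2Klein
import Cfsg.Agent.Lib.Classical.SL2Small
import Cfsg.Agent.S0252
import Cfsg.Agent.S0253
import Cfsg.Agent.S3377

set_option autoImplicit false

namespace CfsgLib.Classical.Dickson

open Matrix Projectivization CfsgLib.Transfer SL2Q
open scoped MatrixGroups LinearAlgebra.Projectivization

section Generic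

variable {G : Type*} [Group G] [Finite G]

/-- In the normaliser of a self-centralising four group, elements of orders two and three do not commute. -/
theorem no_commute_normalizer_klein {V : Subgroup G} (hV : IsKleinFour V)
    (hc : ∀ z : G, (∀ v ∈ V, v * z = z * v) → z ∈ V) {a b : G}
    (ha : a ∈ Subgroup.normalizer (V : Set G)) (hb : b ∈ Subgroup.normalizer (V : Set G))
    (oa : orderOf a = 2) (ob : orderOf b = 3) : ¬ Commute a b := by
  intro hab
  have hb3 : b ^ 3 = 1 := by rw [← ob]; exact pow_orderOf_eq_one b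
  have hnofix : ∀ y ∈ V, y ≠ 1 → b * y * b⁻¹ ≠ y := by
    intro y hy hy1 hby
    have hbV : b ∈ V := hc b fun v hv => by
      by_cases hvy : v = 1 ∨ v = y
      · rcases hvy with rfl | rfl
        · simp
        · exact (mul_inv_eq_iff_eq_mul.1 hby).symm
      · push Not at hvy
        have hSinv : ∀ x ∈ ((V : Set G) \ {1, y}), b * x * b⁻¹ ∈ ((V : Set G) \ {1, y}) := by
          rintro x ⟨hx, hx'⟩
          refine ⟨(Subgroup.mem_normalizer_iff.1 hb x).1 hx, ?_⟩
          rintro (h | h)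
          · exact hx' (Or.inl (conj_eq_one_iff.1 h))
          · exact hx' (Or.inr (mul_left_cancel (mul_right_cancel (h.trans hby.symm))))
        have hS : ((V : Set G) \ {1, y}).ncard < 3 := by
          rw [Set.ncard_diff (by rintro x (rfl | rfl); exacts [one_mem V, hy]) (Set.toFinite _),
            Set.ncard_pair (Ne.symm hy1), ← Nat.card_coe_set_eq]
          have := hV.card_four
          simp only [SetLike.coe_sort_coe]
          omega
        exact (commute_of_small Nat.prime_three hb3 _ hS hSinv ⟨hv, by simp [hvy.1, hvy.2]⟩).eq.symm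
    have h2 := klein_mul_self hV hbV
    rw [← pow_two] at h2
    have := orderOf_dvd_of_pow_eq_one h2
    rw [ob] at this
    omega
  obtain ⟨y0, hy0, hy01, -⟩ := exists_pair_in_klein hV (one_mem V)
  have ha2 : a * a = 1 := mul_self_of_order_two oa
  have hai : a⁻¹ = a := inv_eq_of_mul_eq_one_right ha2
  have hconjmem : ∀ x ∈ V, a * x * a⁻¹ ∈ V := fun x hx => (Subgroup.mem_normalizer_iff.1 ha x).1 hx
  obtain ⟨y, hy, hy1, hay⟩ : ∃ y ∈ V, y ≠ 1 ∧ a * y * a⁻¹ = y := by
    by_cases h : a * y0 * a⁻¹ = y0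
    · exact ⟨y0, hy0, hy01, h⟩
    · refine ⟨y0 * (a * y0 * a⁻¹), mul_mem hy0 (hconjmem _ hy0), fun e => h ?_, ?_⟩
      · exact (inv_eq_of_mul_eq_one_right e).symm.trans (inv_eq_of_mul_eq_one_right (klein_mul_self hV hy0))
      · have hne1 : a * y0 * a⁻¹ ≠ 1 := fun e => hy01 (conj_eq_one_iff.1 e)
        have hc' := (klein_pair hV (hconjmem _ hy0) hy0 hne1 hy01 h).2.2.1
        calc a * (y0 * (a * y0 * a⁻¹)) * a⁻¹ = a * y0 * a⁻¹ * ((a * a) * y0 * (a * a)⁻¹) := by group
          _ = a * y0 * a⁻¹ * y0 := by rw [ha2]; simp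
          _ = y0 * (a * y0 * a⁻¹) := hc'.eq
  set z := b * y * b⁻¹ with hz
  have hzV : z ∈ V := (Subgroup.mem_normalizer_iff.1 hb y).1 hy
  have hz1 : z ≠ 1 := fun e => hy1 (conj_eq_one_iff.1 e)
  have hzy : z ≠ y := hnofix y hy hy1
  have haz : a * z * a⁻¹ = z := by
    rw [hz, show a * (b * y * b⁻¹) * a⁻¹ = a * b * y * (a * b)⁻¹ by group, hab.eq,
      show b * a * y * (b * a)⁻¹ = b * (a * y * a⁻¹) * b⁻¹ by group, hay]
  obtain ⟨U, hU, hyU, hzU, hmem⟩ := exists_klein (klein_pair hV hy hzV hy1 hz1 hzy.symm)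
  have hUV : U = V := klein_eq hU hV (klein_pair hV hy hzV hy1 hz1 hzy.symm) hyU hzU hy hzV
  have haV : a ∈ V := hc a fun v hv => by
    have hfix : a * v * a⁻¹ = v := by
      rcases hmem v (hUV ▸ hv) with rfl | rfl | rfl | rfl
      · simp
      · exact hay
      · exact haz
      · rw [show a * (y * z) * a⁻¹ = a * y * a⁻¹ * (a * z * a⁻¹) by group, hay, haz]
    exact (mul_inv_eq_iff_eq_mul.1 hfix).symm
  refine hnofix a haV (fun e => by simp [e] at oa) ?_
  rw [← hab.eq, mul_inv_cancel_right]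

end Generic

variable {F : Type*} [Field F] [Fintype F]

theorem exists_klein_psl (h2 : (2 : F) ≠ 0) :
    ∃ V : Subgroup (ProjectiveSpecialLinearGroup (Fin 2) F), IsKleinFour V := by
  obtain ⟨j, hj⟩ := exists_isFlip (F := F) h2
  obtain ⟨V, hV, -, -, -⟩ := exists_klein ((partner_iff h2 hj (y := proj j)).2 (by
    rw [inv_mul_cancel]; exact one_mem _))
  exact ⟨V, hV⟩

theorem twelve_le_normalizer (h2 : (2 : F) ≠ 0) {V : Subgroup (ProjectiveSpecialLinearGroup (Fin 2) F)}
    (hV : IsKleinFour V) :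
    12 ≤ Nat.card (Subgroup.normalizer (V : Set (ProjectiveSpecialLinearGroup (Fin 2) F))) := by
  classical
  have h1 := card_conjugates_mul V
  have hK := twelve_mul_card_klein h2 (F := F)
  have hle : Nat.card {W : Subgroup (ProjectiveSpecialLinearGroup (Fin 2) F) //
      ∃ g, W = V.map (MulAut.conj g).toMonoidHom} ≤
      Nat.card {W : Subgroup (ProjectiveSpecialLinearGroup (Fin 2) F) // IsKleinFour W} :=
    Nat.card_le_card_of_injective (fun W => ⟨W.1, W.2.elim fun g hg => hg ▸ isKleinFour_map hV g⟩)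
      fun a b h => Subtype.ext (by simpa using h)
  have hpos : 0 < Nat.card {W : Subgroup (ProjectiveSpecialLinearGroup (Fin 2) F) //
      ∃ g, W = V.map (MulAut.conj g).toMonoidHom} := by
    haveI : Nonempty {W : Subgroup (ProjectiveSpecialLinearGroup (Fin 2) F) //
      ∃ g, W = V.map (MulAut.conj g).toMonoidHom} := ⟨⟨_, 1, rfl⟩⟩
    exact Nat.card_pos
  rw [← hK] at h1
  refine Nat.le_of_mul_le_mul_left ?_ hpos
  rw [h1, mul_comm 12]
  exact Nat.mul_le_mul_right 12 hle

theorem exists_alt_four_odd (h2 : (2 : F) ≠ 0) :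
    ∃ H : Subgroup (ProjectiveSpecialLinearGroup (Fin 2) F), Nonempty (H ≃* alternatingGroup (Fin 4)) := by
  classical
  obtain ⟨V, hV⟩ := exists_klein_psl h2
  obtain ⟨φ, hφ, hcard, hdvd⟩ := card_normalizer_klein hV (klein_self_centralizing h2 hV)
  have h12 := twelve_le_normalizer h2 hV
  rw [hcard] at h12
  have h3 : 3 ∣ Nat.card φ.range := by
    have := Nat.le_of_dvd (by norm_num) hdvd
    interval_cases h : Nat.card φ.range <;> omega
  haveI : Fact (Nat.Prime 3) := ⟨Nat.prime_three⟩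
  obtain ⟨⟨_, n, rfl⟩, hn⟩ := exists_prime_orderOf_dvd_card' 3 h3
  rw [← Subgroup.orderOf_coe] at hn
  let C := (Subgroup.zpowers (φ n)).comap φ
  have hC : Nat.card C = 12 := by
    have hker : Nat.card φ.ker = 4 := by
      rw [show φ.ker = V.subgroupOf (Subgroup.normalizer (V : Set _)) from
        SetLike.ext fun m => by rw [MonoidHom.mem_ker, hφ, Subgroup.mem_subgroupOf],
        Nat.card_congr (Subgroup.subgroupOfEquivOfLe Subgroup.le_normalizer).toEquiv, hV.card_four]
    let ψ := φ.comp C.subtype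
    have hr : ψ.range = Subgroup.zpowers (φ n) := by
      rw [MonoidHom.range_comp, Subgroup.range_subtype, Subgroup.map_comap_eq_self]
      exact Subgroup.zpowers_le.2 ⟨n, rfl⟩
    rw [Subgroup.card_eq_card_quotient_mul_card_subgroup ψ.ker,
      Nat.card_congr (QuotientGroup.quotientKerEquivRange ψ).toEquiv, hr, Nat.card_zpowers,
      show orderOf (φ n) = 3 from hn, show Nat.card ψ.ker = 4 by
        rw [← hker, show ψ.ker = φ.ker.subgroupOf C from rfl,
          Nat.card_congr (Subgroup.subgroupOfEquivOfLe (Subgroup.ker_le_comap φ _)).toEquiv]]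
  refine ⟨C.map (Subgroup.subtype _), alt_four_of ?_ ?_⟩
  · rw [Subgroup.card_map_of_injective Subtype.val_injective, hC]
  · intro a b oa ob hab
    obtain ⟨a', -, ea⟩ := a.2
    obtain ⟨b', -, eb⟩ := b.2
    rw [← Subgroup.orderOf_coe] at oa ob
    exact no_commute_normalizer_klein hV (klein_self_centralizing h2 hV) (ea ▸ a'.2) (eb ▸ b'.2) oa ob
      (hab.map (Subgroup.subtype _))

theorem exists_sym_four_odd (h2 : (2 : F) ≠ 0) (hq : Fintype.card F % 8 = 1 ∨ Fintype.card F % 8 = 7) :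
    ∃ H : Subgroup (ProjectiveSpecialLinearGroup (Fin 2) F), Nonempty (H ≃* Equiv.Perm (Fin 4)) := by
  obtain ⟨V, hV, hN⟩ := exists_klein_large h2 hq
  refine ⟨_, sym_four_of hN fun a b oa ob hab => ?_⟩
  rw [← Subgroup.orderOf_coe] at oa ob
  exact no_commute_normalizer_klein hV (klein_self_centralizing h2 hV) a.2 b.2 oa ob (hab.map (Subgroup.subtype _))

/-- A smaller field embeds. -/
theorem exists_hom_of_card_pow {K : Type*} [Field K] [Fintype K] (m : ℕ)
    (h : Fintype.card K ^ m = Fintype.card F) : Nonempty (K →+* F) := by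
  obtain ⟨p, _⟩ := CharP.exists F
  haveI : Fact p.Prime := ⟨CharP.char_is_prime F p⟩
  obtain ⟨n, -, hn⟩ := FiniteField.card F p
  obtain ⟨r, _⟩ := CharP.exists K
  obtain ⟨j, hr, hj⟩ := FiniteField.card K r
  have hm : m ≠ 0 := fun e => by
    rw [e, pow_zero] at h
    have := Fintype.one_lt_card (α := F)
    omega
  have hrp : r = p := by
    refine (Nat.prime_dvd_prime_iff_eq hr Fact.out).1 (hr.dvd_of_dvd_pow (n := (n : ℕ)) ?_)
    rw [← hn, ← h, hj]
    exact dvd_pow (dvd_pow_self r j.ne_zero) hm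
  subst hrp
  letI : Algebra (ZMod r) K := ZMod.algebra K r
  letI : Algebra (ZMod r) F := ZMod.algebra F r
  have e1 := FiniteField.pow_finrank_eq_card r K
  have e2 := FiniteField.pow_finrank_eq_card r F
  have hdvd : Module.finrank (ZMod r) K ∣ Module.finrank (ZMod r) F := by
    rw [← h, ← e1, ← pow_mul] at e2
    exact ⟨m, Nat.pow_right_injective hr.two_le e2⟩
  obtain ⟨σ⟩ := FiniteField.nonempty_algHom_of_finrank_dvd hdvd
  exact ⟨σ.toRingHom⟩

theorem exists_sub_map {G G' A : Type*} [Group G] [Group G'] [Group A] (f : G →* G') (hf : Function.Injective f)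
    (h : ∃ H : Subgroup G, Nonempty (H ≃* A)) : ∃ H : Subgroup G', Nonempty (H ≃* A) := by
  obtain ⟨H, ⟨e⟩⟩ := h
  exact ⟨H.map f, ⟨(Subgroup.equivMapOfInjective H f hf).symm.trans e⟩⟩

theorem exists_alt_four_even {k : ℕ} (hF : Fintype.card F = 4 ^ k) :
    ∃ H : Subgroup (ProjectiveSpecialLinearGroup (Fin 2) F), Nonempty (H ≃* alternatingGroup (Fin 4)) := by
  haveI : Fintype (GaloisField 2 2) := Fintype.ofFinite _
  have h4 : Fintype.card (GaloisField 2 2) = 4 := by
    rw [← Nat.card_eq_fintype_card, GaloisField.card 2 2 (by norm_num)]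
    norm_num
  obtain ⟨σ⟩ := exists_hom_of_card_pow (F := F) (K := GaloisField 2 2) k (by rw [h4, hF])
  obtain ⟨e⟩ := Cfsg.Agent.S0252.result h4
  refine exists_sub_map ((pslMap σ).comp e.symm.toMonoidHom) ((pslMap_injective σ).comp e.symm.injective) ?_
  classical
  let f : Fin 4 ≃ {x : Fin 5 // (x : ℕ) < 4} :=
    { toFun := fun i => ⟨i.castSucc, i.2⟩, invFun := fun x => ⟨x.1.1, x.2⟩,
      left_inv := fun i => rfl, right_inv := fun x => rfl }
  let g : alternatingGroup (Fin 4) →* alternatingGroup (Fin 5) :=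
    ((Equiv.Perm.extendDomainHom f).comp (alternatingGroup (Fin 4)).subtype).codRestrict _ fun x => by
      rw [Equiv.Perm.mem_alternatingGroup]
      exact (Equiv.Perm.sign_extendDomain x.1 f).trans x.2
  exact ⟨g.range, ⟨(MonoidHom.ofInjective (f := g) (fun a b h => Subtype.ext
    (Equiv.Perm.extendDomainHom_injective _ (congrArg Subtype.val h)))).symm⟩⟩

theorem exists_trace_order_five (h2 : (2 : F) ≠ 0)
    (h5 : 5 ∣ Nat.card (SpecialLinearGroup (Fin 2) F)) : ∃ t : F, t * t + t - 1 = 0 := by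
  haveI : Fact (Nat.Prime 5) := ⟨by norm_num⟩
  obtain ⟨g, hg⟩ := exists_prime_orderOf_dvd_card' 5 h5
  have hg5 : g ^ 5 = 1 := by rw [← hg]; exact pow_orderOf_eq_one g
  set t := (g : Matrix (Fin 2) (Fin 2) F).trace with ht
  set a5 := (CfsgLib.Spectrum.sl2Coef t 5).1 with ha5
  have ha : a5 = 0 := by
    by_contra hne
    have h := CfsgLib.Spectrum.sl2_pow_eq g 5
    rw [hg5] at h
    have e01 := congrFun (congrFun h 0) 1
    have e10 := congrFun (congrFun h 1) 0
    have e00 := congrFun (congrFun h 0) 0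
    have e11 := congrFun (congrFun h 1) 1
    simp [← ha5, ← ht, hne] at e01 e10 e00 e11
    have hd : g.1 0 0 = g.1 1 1 := mul_left_cancel₀ hne (by linear_combination e11 - e00)
    have hsq : g.1 0 0 * g.1 1 1 = 1 := by
      have := g.det_coe
      rw [Matrix.det_fin_two, e01, zero_mul, sub_zero] at this
      exact this
    have hc : g ^ 2 = 1 := by
      rw [pow_two]
      refine CfsgLib.Fusion.PSL2.ext2 ?_ ?_ ?_ ?_ <;> rw [CfsgLib.Fusion.PSL2.mul_entry] <;>
        simp [e01, e10]
      · rw [hd] at hsq ⊢; exact hsq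
      · rw [hd] at hsq; exact hsq
    have := orderOf_dvd_of_pow_eq_one hc
    rw [hg] at this
    omega
  simp [ha5, CfsgLib.Spectrum.sl2Coef] at ha
  have hfac : (t * t + t - 1) * ((-t) * (-t) + (-t) - 1) = 0 := by linear_combination ha
  rcases mul_eq_zero.1 hfac with h | h
  · exact ⟨t, h⟩
  · exact ⟨-t, h⟩

theorem exists_alt_five_icosa (h2 : (2 : F) ≠ 0) {t : F} (ht : t * t + t - 1 = 0) :
    ∃ H : Subgroup (ProjectiveSpecialLinearGroup (Fin 2) F), Nonempty (H ≃* alternatingGroup (Fin 5)) := by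
  obtain ⟨X, Y, hXY⟩ := CfsgLib.Classical.exists_sq_add_sq h2 (t * t / 4 - 3 / 4 : F)
  set a := X + t / 2 with haX
  set b := Y - 1 / 2 with hbY
  have h4 : (4 : F) ≠ 0 := by
    rw [show (4 : F) = 2 * 2 by norm_num]; exact mul_ne_zero h2 h2
  have hdet : a * (t - a) - b * (b + 1) = 1 := by
    rw [haX, hbY]
    field_simp at hXY ⊢
    linear_combination (-1 : F) * hXY
  let v : SpecialLinearGroup (Fin 2) F := ⟨!![a, b; b + 1, t - a], by simp [Matrix.det_fin_two]; linear_combination hdet⟩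
  let u : SpecialLinearGroup (Fin 2) F := CfsgLib.Fusion.PSL2.wM
  let w := u * v⁻¹
  have hv5 : v ^ 5 = 1 := by
    refine CfsgLib.Spectrum.sl2_pow_eq_one v 5 ?_
    have htr : (v : Matrix (Fin 2) (Fin 2) F).trace = t := by simp [v, Matrix.trace_fin_two]
    rw [htr]
    simp [CfsgLib.Spectrum.sl2Coef]
    constructor
    · linear_combination (t * t - t - 1) * ht
    · linear_combination (-t + 1) * ht
  have hw3 : w ^ 3 = -1 := by
    refine CfsgLib.Spectrum.sl2_pow_eq_neg_one w 3 ?_
    have htr : (w : Matrix (Fin 2) (Fin 2) F).trace = 1 := by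
      show ((u * v⁻¹ : SpecialLinearGroup (Fin 2) F).1).trace = 1
      rw [Matrix.SpecialLinearGroup.coe_mul, Matrix.SpecialLinearGroup.coe_inv, wM_val, Matrix.adjugate_fin_two]
      simp [v, Matrix.trace_fin_two, Matrix.mul_apply, Fin.sum_univ_two]
    rw [htr]
    simp [CfsgLib.Spectrum.sl2Coef]
  have hu2 : orderOf (proj u) = 2 := orderOf_proj_of_trace h2 wM_trace
  have hxy : (proj w * proj v) ^ 2 = 1 := by
    rw [← map_mul, inv_mul_cancel_right]
    have := pow_orderOf_eq_one (proj u)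
    rwa [hu2] at this
  have hx : proj w ^ 3 = 1 := by
    rw [← map_pow, hw3]
    exact (QuotientGroup.eq_one_iff _).2 (Subgroup.mem_center_iff.2 fun g => Subtype.ext (by simp))
  have hy : proj v ^ 5 = 1 := by rw [← map_pow, hv5, map_one]
  let φ := PresentedGroup.toGroup (f := ![proj w, proj v])
    (rels := ({FreeGroup.of (0 : Fin 2) ^ 3, FreeGroup.of (1 : Fin 2) ^ 5,
      (FreeGroup.of (0 : Fin 2) * FreeGroup.of 1) ^ 2} : Set (FreeGroup (Fin 2)))) (by
      rintro r (rfl | rfl | rfl) <;>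
        simp only [map_pow, map_mul, FreeGroup.lift_apply_of, Matrix.cons_val_zero, Matrix.cons_val_one] <;>
        assumption)
  obtain ⟨e⟩ := Cfsg.Agent.S3377.result
  let f := φ.comp e.symm.toMonoidHom
  haveI : IsSimpleGroup (alternatingGroup (Fin 5)) := alternatingGroup.isSimpleGroup_five
  have hne : f.ker ≠ ⊤ := by
    intro htop
    have h1 : ∀ z, φ z = 1 := fun z => by
      have : e z ∈ f.ker := htop ▸ Subgroup.mem_top _
      simpa [f] using MonoidHom.mem_ker.1 this
    have h3 := h1 (PresentedGroup.of 0)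
    have h4' := h1 (PresentedGroup.of 1)
    simp only [φ, PresentedGroup.toGroup.of] at h3 h4'
    have h5 : proj u = 1 := by
      rw [show u = w * v from (inv_mul_cancel_right u v).symm, map_mul]
      simp only [Matrix.cons_val_zero, Matrix.cons_val_one] at h3 h4'
      rw [h3, h4', mul_one]
    rw [h5, orderOf_one] at hu2
    omega
  have hinj : Function.Injective f :=
    (MonoidHom.ker_eq_bot_iff f).1 ((IsSimpleGroup.eq_bot_or_eq_top_of_normal f.ker inferInstance).resolve_right hne)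
  exact ⟨f.range, ⟨(MonoidHom.ofInjective hinj).symm⟩⟩

theorem fixed_of_pGroup (p : ℕ) [Fact p.Prime] [CharP F p]
    {P : Subgroup (ProjectiveSpecialLinearGroup (Fin 2) F)} (hP : IsPGroup p P) :
    ∃ y : ℙ F (Fin 2 → F), ∀ v ∈ P, Matrix.ProjectiveSpecialLinearGroup.toPGL v • y = y ∧
      (v ≠ 1 → fixSet (Matrix.ProjectiveSpecialLinearGroup.toPGL v) = {y}) := by
  set T : ProjectiveSpecialLinearGroup (Fin 2) F →* Matrix.ProjGenLinGroup (Fin 2) F :=
    Matrix.ProjectiveSpecialLinearGroup.toPGL with hT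
  have hTinj : Function.Injective T := Matrix.ProjectiveSpecialLinearGroup.toPGL_injective
  haveI : Finite (P.map T) := Finite.of_equiv P (Subgroup.equivMapOfInjective _ T hTinj).toEquiv
  obtain ⟨y, hy⟩ := exists_unique_fixed p (G := P.map T) ⊤ (IsPGroup.to_subgroup (hP.map T) ⊤)
  refine ⟨y, fun v hv => ?_⟩
  obtain ⟨a, b⟩ := hy ⟨T v, Subgroup.mem_map_of_mem T hv⟩ trivial
  exact ⟨a, fun h => b fun e => h (hTinj ((congrArg Subtype.val e).trans (map_one T).symm))⟩

theorem orderOf_ne_four [CharP F 2] (g : ProjectiveSpecialLinearGroup (Fin 2) F) : orderOf g ≠ 4 := by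
  haveI : Fact (Nat.Prime 2) := ⟨Nat.prime_two⟩
  intro hg
  obtain ⟨y, hy⟩ := fixed_of_pGroup 2 (IsPGroup.of_card (p := 2) (n := 2)
    (show Nat.card (Subgroup.zpowers g) = 2 ^ 2 by rw [Nat.card_zpowers, hg]; norm_num))
  have hg1 : g ≠ 1 := fun e => by simp [e] at hg
  obtain ⟨h1, h2⟩ := hy g (Subgroup.mem_zpowers g)
  have hTg : Matrix.ProjectiveSpecialLinearGroup.toPGL g ≠ 1 := fun e =>
    hg1 (Matrix.ProjectiveSpecialLinearGroup.toPGL_injective (e.trans (map_one _).symm))
  have h := (order_of_fix 2 hTg h1).1 (h2 hg1)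
  rw [← map_pow, ← map_one (Matrix.ProjectiveSpecialLinearGroup.toPGL (n := Fin 2) (R := F))] at h
  have := orderOf_dvd_of_pow_eq_one (Matrix.ProjectiveSpecialLinearGroup.toPGL_injective h)
  rw [hg] at this
  omega

/-- In characteristic two an element of order three normalising a four group needs a cube root of unity. -/
theorem three_dvd_sub_one [CharP F 2] (a b : ProjectiveSpecialLinearGroup (Fin 2) F) (oa : orderOf a = 2)
    (ob : orderOf b = 3) (hc : Commute a (b * a * b⁻¹)) (hne : a ≠ b * a * b⁻¹) :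
    3 ∣ Fintype.card F - 1 := by
  classical
  haveI : Fact (Nat.Prime 2) := ⟨Nat.prime_two⟩
  have oa' : orderOf (b * a * b⁻¹) = 2 := by rw [← MulAut.conj_apply, MulEquiv.orderOf_eq, oa]
  obtain ⟨V, hV, haV, hbaV, -⟩ := exists_klein (x := a) (y := b * a * b⁻¹) ⟨oa, oa', hc, hne⟩
  obtain ⟨y, hy⟩ := fixed_of_pGroup 2 (IsPGroup.of_card (p := 2) (n := 2)
    (hV.card_four.trans (by norm_num)))
  set T : ProjectiveSpecialLinearGroup (Fin 2) F →* Matrix.ProjGenLinGroup (Fin 2) F :=
    Matrix.ProjectiveSpecialLinearGroup.toPGL with hT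
  have hTinj : Function.Injective T := Matrix.ProjectiveSpecialLinearGroup.toPGL_injective
  have ha1 : a ≠ 1 := fun e => by simp [e] at oa
  have hba1 : b * a * b⁻¹ ≠ 1 := fun e => by simp [e] at oa'
  have hby : T b • y = y := by
    have h := (hy _ hbaV).2 hba1
    rw [map_mul, map_mul, map_inv, fixSet_conj, (hy a haV).2 ha1, Set.image_singleton] at h
    exact Set.singleton_eq_singleton_iff.1 h
  obtain ⟨h, hh⟩ := exists_to_inf y
  obtain ⟨c, d, hcd⟩ := exists_aff_of_fix_inf (g := h * T b * h⁻¹)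
    (by rw [mul_smul, mul_smul, inv_smul_eq_iff.2 hh.symm, hby, hh])
  have hb3 : aff c d ^ 3 = 1 := by
    rw [← hcd, conj_pow, ← map_pow, ← ob, pow_orderOf_eq_one, map_one, mul_one, mul_inv_cancel]
  obtain ⟨e, he⟩ := aff_pow_fst c d 3
  rw [he] at hb3
  have hc1 : c ≠ 1 := by
    intro hc1
    subst hc1
    have h3 : aff (1 : Fˣ) d ^ 3 = 1 := by rw [← hcd, conj_pow, ← map_pow, ← ob, pow_orderOf_eq_one, map_one,
      mul_one, mul_inv_cancel]
    have h2 : aff (1 : Fˣ) d ^ 2 = 1 := by
      rw [aff_one_pow, CharP.cast_eq_zero F 2, zero_mul, aff_one]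
    have h1 : aff (1 : Fˣ) d = 1 := by
      rw [pow_succ, h2, one_mul] at h3
      exact h3
    rw [h1, conj_eq_one_iff] at hcd
    rw [hTinj (hcd.trans (map_one T).symm), orderOf_one] at ob
    omega
  haveI : Fact (Nat.Prime 3) := ⟨Nat.prime_three⟩
  have := orderOf_eq_prime (aff_eq_one.1 hb3).1 hc1
  rw [← Fintype.card_units, ← this]
  exact orderOf_dvd_card

theorem alt_four_witness : ∃ a b : alternatingGroup (Fin 4), orderOf a = 2 ∧ orderOf b = 3 ∧
    Commute a (b * a * b⁻¹) ∧ a ≠ b * a * b⁻¹ := by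
  haveI : Fact (Nat.Prime 2) := ⟨Nat.prime_two⟩
  haveI : Fact (Nat.Prime 3) := ⟨Nat.prime_three⟩
  refine ⟨⟨Equiv.swap 0 1 * Equiv.swap 2 3, Equiv.Perm.mem_alternatingGroup.2 (by decide)⟩,
    ⟨Equiv.swap 0 1 * Equiv.swap 1 2, Equiv.Perm.mem_alternatingGroup.2 (by decide)⟩,
    orderOf_eq_prime (by decide) (by decide), orderOf_eq_prime (by decide) (by decide),
    (commute_iff_eq _ _).2 (by decide), by decide⟩

theorem alt_four_iff (p n : ℕ) [Fact p.Prime] [CharP F p] (hF : Fintype.card F = p ^ n) :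
    (∃ H : Subgroup (ProjectiveSpecialLinearGroup (Fin 2) F), Nonempty (H ≃* alternatingGroup (Fin 4))) ↔
      ¬ (p = 2 ∧ Odd n) := by
  constructor
  · rintro ⟨H, ⟨e⟩⟩ ⟨rfl, hn⟩
    obtain ⟨a, b, oa, ob, hc, hne⟩ := alt_four_witness
    set f := H.subtype.comp e.symm.toMonoidHom with hf
    have hfi : Function.Injective f := Subtype.val_injective.comp e.symm.injective
    have h := three_dvd_sub_one (f a) (f b) (by rw [orderOf_injective f hfi, oa])
      (by rw [orderOf_injective f hfi, ob])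
      (by rw [← map_inv, ← map_mul, ← map_mul]; exact hc.map f)
      (by rw [← map_inv, ← map_mul, ← map_mul]; exact fun h => hne (hfi h))
    obtain ⟨m, rfl⟩ := hn
    rw [hF, pow_succ, pow_mul] at h
    have h4 : 2 ^ 2 = 4 := by norm_num
    rw [h4] at h
    have hm := Nat.pow_mod 4 m 3
    norm_num at hm
    have := Nat.one_le_pow m 4 (by norm_num)
    omega
  · intro h
    by_cases h2 : p = 2
    · subst h2
      obtain ⟨k, rfl⟩ : Even n := Nat.not_odd_iff_even.1 fun ho => h ⟨rfl, ho⟩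
      exact exists_alt_four_even (k := k) (by rw [hF, ← two_mul, pow_mul]; norm_num)
    · exact exists_alt_four_odd (Ring.two_ne_zero (by rw [ringChar.eq F p]; exact h2))

theorem sym_four_iff {q : ℕ} (hF : Fintype.card F = q) :
    (∃ H : Subgroup (ProjectiveSpecialLinearGroup (Fin 2) F), Nonempty (H ≃* Equiv.Perm (Fin 4))) ↔
      q ^ 2 % 16 = 1 := by
  constructor
  · rintro ⟨H, ⟨e⟩⟩
    have hq8 : q % 2 = 1 := by
      by_contra hev
      have hc2 : ringChar F = 2 := (FiniteField.even_card_iff_char_two).2 (by rw [hF]; omega)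
      haveI : CharP F 2 := ringChar.of_eq hc2
      have hfi : Function.Injective (H.subtype.comp e.symm.toMonoidHom) :=
        Subtype.val_injective.comp e.symm.injective
      refine orderOf_ne_four (H.subtype.comp e.symm.toMonoidHom (finRotate 4)) ?_
      rw [orderOf_injective _ hfi]
      haveI : Fact (Nat.Prime 2) := ⟨Nat.prime_two⟩
      exact orderOf_eq_prime_pow (p := 2) (n := 1) (by decide) (by decide)
    have h2 : (2 : F) ≠ 0 := Ring.two_ne_zero fun hc => by
      have := (FiniteField.even_card_iff_char_two).1 hc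
      omega
    have h24 : Nat.card H = 24 := by rw [Nat.card_congr e.toEquiv, Nat.card_perm, Nat.card_fin]; rfl
    have hd := Subgroup.card_subgroup_dvd_card H
    rw [h24] at hd
    have h48 := Nat.mul_dvd_mul_left 2 hd
    rw [two_mul_card_PSL h2, card_SL_two hF] at h48
    have h16 : 16 ∣ (q - 1) * (q + 1) := by
      refine (Nat.Coprime.dvd_mul_left ?_).1 ((dvd_mul_left 16 3).trans (by simpa using h48))
      exact Nat.Coprime.pow_left 4 ((Nat.prime_two.coprime_iff_not_dvd).2 (by omega))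
    obtain ⟨c, hc⟩ := h16
    have hsq : q ^ 2 = (q - 1) * (q + 1) + 1 := by
      obtain ⟨r, rfl⟩ : ∃ r, q = r + 1 := ⟨q - 1, by omega⟩
      rw [Nat.add_sub_cancel]
      ring
    rw [hsq, hc]
    omega
  · intro h
    have hq : q % 8 = 1 ∨ q % 8 = 7 := by
      rw [Nat.pow_mod] at h
      have hlt : q % 16 < 16 := Nat.mod_lt _ (by norm_num)
      have h8 : q % 8 = q % 16 % 8 := (Nat.mod_mod_of_dvd q (by norm_num : 8 ∣ 16)).symm
      rw [h8]
      interval_cases hr : q % 16 <;> simp_all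
    have h2 : (2 : F) ≠ 0 := Ring.two_ne_zero fun hc => by
      have := (FiniteField.even_card_iff_char_two).1 hc
      omega
    exact exists_sym_four_odd h2 (hF ▸ hq)

theorem alt_five_iff {q : ℕ} (hF : Fintype.card F = q) :
    (∃ H : Subgroup (ProjectiveSpecialLinearGroup (Fin 2) F), Nonempty (H ≃* alternatingGroup (Fin 5))) ↔
      5 ∣ q * (q ^ 2 - 1) := by
  have hSL : Nat.card (SpecialLinearGroup (Fin 2) F) = q * (q ^ 2 - 1) := by
    rw [card_SL_two hF]
    congr 1
    rw [← one_pow 2, Nat.sq_sub_sq, mul_comm]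
    simp
  constructor
  · rintro ⟨H, ⟨e⟩⟩
    have h60 : Nat.card H = 60 := by
      rw [Nat.card_congr e.toEquiv, nat_card_alternatingGroup, Nat.card_fin]; rfl
    rw [← hSL]
    refine ((show 5 ∣ Nat.card H by rw [h60]; norm_num).trans (Subgroup.card_subgroup_dvd_card H)).trans ?_
    exact Subgroup.card_quotient_dvd_card (Subgroup.center (SpecialLinearGroup (Fin 2) F))
  · intro h
    obtain ⟨p, _⟩ := CharP.exists F
    haveI : Fact p.Prime := ⟨CharP.char_is_prime F p⟩
    obtain ⟨n, -, hn⟩ := FiniteField.card F p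
    haveI : Fact (Nat.Prime 5) := ⟨by norm_num⟩
    by_cases hp5 : p = 5
    · subst hp5
      obtain ⟨σ⟩ := exists_hom_of_card_pow (F := F) (K := ZMod 5) (n : ℕ) (by rw [ZMod.card, hn])
      obtain ⟨e⟩ := Cfsg.Agent.S0253.result (F := ZMod 5) (ZMod.card 5)
      exact exists_sub_map (pslMap σ) (pslMap_injective σ) ⟨⊤, ⟨Subgroup.topEquiv.trans e⟩⟩
    by_cases hp2 : p = 2
    · subst hp2
      have h5n : Nat.Coprime 5 q := by
        rw [← hF, hn]
        exact Nat.Coprime.pow_right _ (by norm_num)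
      have hev : Even (n : ℕ) := by
        by_contra ho
        obtain ⟨m, hm⟩ := Nat.not_even_iff_odd.1 ho
        have h' := h5n.dvd_of_dvd_mul_left h
        rw [← hF, hn, hm, ← pow_mul, mul_comm, pow_mul] at h'
        norm_num [pow_succ, pow_mul] at h'
        have hm4 : ∀ m : ℕ, (16 : ℕ) ^ m % 5 = 1 := fun m => by rw [Nat.pow_mod]; norm_num
        have := hm4 m
        have := Nat.one_le_pow m 16 (by norm_num)
        omega
      obtain ⟨k, hk⟩ := hev
      haveI : Fintype (GaloisField 2 2) := Fintype.ofFinite _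
      have h4 : Fintype.card (GaloisField 2 2) = 4 := by
        rw [← Nat.card_eq_fintype_card, GaloisField.card 2 2 (by norm_num)]
        norm_num
      obtain ⟨σ⟩ := exists_hom_of_card_pow (F := F) (K := GaloisField 2 2) k
        (by rw [h4, hn, hk, ← two_mul, pow_mul]; norm_num)
      obtain ⟨e⟩ := Cfsg.Agent.S0252.result h4
      exact exists_sub_map (pslMap σ) (pslMap_injective σ) ⟨⊤, ⟨Subgroup.topEquiv.trans e⟩⟩
    have h2 : (2 : F) ≠ 0 := Ring.two_ne_zero (by rw [ringChar.eq F p]; exact hp2)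
    rw [← hSL] at h
    obtain ⟨t, ht⟩ := exists_trace_order_five h2 h
    exact exists_alt_five_icosa h2 ht

end CfsgLib.Classical.Dickson
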