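/-
Borel subgroups of `PSL_2(q)` and solvability of the small members of Dickson's list.
-/
import Cfsg.Agent.Lib.Classical.Dickson.SmallSub
import Cfsg.Agent.S0144

set_option autoImplicit false

namespace CfsgLib.Classical.Dickson

open Matrix Projectivization CfsgLib.Transfer SL2Q
open scoped MatrixGroups LinearAlgebra.Projectivization commutatorElement

variable {F : Type*} [Field F] [Fintype F]

local notation "G2" => ProjectiveSpecialLinearGroup (Fin 2) F
local notation "T2" => Matrix.ProjectiveSpecialLinearGroup.toPGL (n := Fin 2) (R := F)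

theorem psl_transitive (x y : ℙ F (Fin 2 → F)) : ∃ g : G2, T2 g • x = y := by
  have key : ∀ z : ℙ F (Fin 2 → F), ∃ g : G2, T2 g • lineInf = z := by
    intro z
    rcases line_cases z with rfl | ⟨t, rfl⟩
    · exact ⟨1, by rw [map_one, one_smul]⟩
    · obtain ⟨M, hM⟩ : ∃ M : SpecialLinearGroup (Fin 2) F, M.1 = !![t, -1; 1, 0] :=
        ⟨⟨!![t, -1; 1, 0], by simp [Matrix.det_fin_two]⟩, rfl⟩
      refine ⟨QuotientGroup.mk M, ?_⟩
      rw [Matrix.ProjectiveSpecialLinearGroup.toPGL_mk, lineInf, linePt, Projectivization.PGL.mk_smul_mk,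
        Projectivization.mk_eq_mk_iff']
      refine ⟨1, ?_⟩
      rw [one_smul]
      ext i
      fin_cases i <;> simp [Units.smul_def, Matrix.SpecialLinearGroup.toGL, hM, Matrix.smul_eq_mulVec,
        Matrix.mulVec, dotProduct, Fin.sum_univ_two]
  obtain ⟨g, hg⟩ := key x
  obtain ⟨h, hh⟩ := key y
  refine ⟨h * g⁻¹, ?_⟩
  rw [map_mul, map_inv, mul_smul, inv_smul_eq_iff.2 hg.symm, hh]

variable (p : ℕ) [hp : Fact p.Prime] [CharP F p]

/-- A Sylow subgroup in the natural characteristic is the unipotent radical of a point stabiliser. -/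
theorem sylow_point (P : Sylow p G2) :
    ∃ y : ℙ F (Fin 2 → F), (∀ g, g ∈ Subgroup.normalizer ((P : Subgroup G2) : Set G2) ↔ T2 g • y = y) ∧
      ∀ g, g ∈ P ↔ g = 1 ∨ fixSet (T2 g) = {y} := by
  have hTinj : Function.Injective T2 := Matrix.ProjectiveSpecialLinearGroup.toPGL_injective
  obtain ⟨y, hy⟩ := fixed_of_pGroup p P.isPGroup'
  haveI : Finite (T2).range := Finite.of_surjective _ (T2).rangeRestrict_surjective
  obtain ⟨U, k, -, hUmem, hUp, -⟩ := exists_stab_data p (T2).range y
  let V : Subgroup G2 := U.comap (T2).rangeRestrict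
  have hVp : IsPGroup p V := hUp.comap_of_injective _ (fun a b h => hTinj (congrArg Subtype.val h))
  have hVmem : ∀ v, v ∈ V ↔ v = 1 ∨ fixSet (T2 v) = {y} := fun v => (hUmem ((T2).rangeRestrict v)).trans
    (or_congr ⟨fun h => hTinj ((congrArg Subtype.val h).trans (map_one T2).symm), fun h => h ▸ map_one _⟩ Iff.rfl)
  have hPV : V = (P : Subgroup G2) := P.3 hVp fun v hv => (hVmem v).2 (by
    by_cases h1 : v = 1
    · exact Or.inl h1
    · exact Or.inr ((hy v hv).2 h1))
  have hPmem : ∀ g, g ∈ P ↔ g = 1 ∨ fixSet (T2 g) = {y} := fun g => by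
    show g ∈ (P : Subgroup G2) ↔ _
    rw [← hPV, hVmem]
  refine ⟨y, fun g => ⟨fun hg => ?_, fun hg => ?_⟩, hPmem⟩
  · obtain ⟨v, hv, hv1⟩ : ∃ v ∈ (P : Subgroup G2), v ≠ 1 := by
      have hne : (P : Subgroup G2) ≠ ⊥ := by
        refine P.ne_bot_of_dvd_card ?_
        have h := card_center_mul_card_PSL (F := F) (ι := Fin 2)
        rw [card_SL_two rfl, card_center_SL] at h
        obtain ⟨n, -, hn⟩ := FiniteField.card F p
        have hcop : Nat.Coprime p (Nat.gcd (Fintype.card (Fin 2)) (Nat.card Fˣ)) := by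
          rw [hp.out.coprime_iff_not_dvd, card_units_eq rfl]
          intro hd
          have h1 := hd.trans (Nat.gcd_dvd_right _ _)
          have h2 : p ∣ Fintype.card F := hn ▸ dvd_pow_self p n.ne_zero
          have h3 := Nat.dvd_sub h2 h1
          rw [show Fintype.card F - (Fintype.card F - 1) = 1 by have := Fintype.card_pos (α := F); omega] at h3
          exact hp.out.not_dvd_one h3
        refine hcop.dvd_of_dvd_mul_left ?_
        rw [h]
        exact dvd_mul_of_dvd_left (hn ▸ dvd_pow_self p n.ne_zero) _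
      by_contra hcon
      push Not at hcon
      exact hne ((Subgroup.eq_bot_iff_forall _).2 hcon)
    have hgv := (hPmem _).1 ((Subgroup.mem_normalizer_iff.1 hg v).1 hv)
    rcases hgv with h | h
    · exact absurd (conj_eq_one_iff.1 h) hv1
    · rw [map_mul, map_mul, map_inv, fixSet_conj, ((hPmem v).1 hv).resolve_left hv1, Set.image_singleton] at h
      exact Set.singleton_eq_singleton_iff.1 h
  · have key : ∀ g : G2, T2 g • y = y → ∀ v ∈ (P : Subgroup G2), g * v * g⁻¹ ∈ (P : Subgroup G2) := by
      intro g hg v hv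
      refine (hPmem _).2 ?_
      rcases (hPmem v).1 hv with rfl | h1
      · exact Or.inl (by group)
      · refine Or.inr ?_
        rw [map_mul, map_mul, map_inv, fixSet_conj, h1, Set.image_singleton, hg]
    rw [Subgroup.mem_normalizer_iff]
    intro v
    refine ⟨key g hg v, fun hv => ?_⟩
    have := key g⁻¹ (by rw [map_inv, inv_smul_eq_iff, hg]) _ hv
    rwa [inv_inv, show g⁻¹ * (g * v * g⁻¹) * g = v by group] at this

theorem index_normalizer_sylow {q : ℕ} (hF : Fintype.card F = q) (P : Sylow p G2) :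
    (Subgroup.normalizer ((P : Subgroup G2) : Set G2)).index = q + 1 := by
  obtain ⟨y, hN, -⟩ := sylow_point p P
  letI : MulAction G2 (ℙ F (Fin 2 → F)) := MulAction.compHom _ T2
  have hst : MulAction.stabilizer G2 y = Subgroup.normalizer ((P : Subgroup G2) : Set G2) := by
    ext g
    exact (hN g).symm
  haveI : MulAction.IsPretransitive G2 (ℙ F (Fin 2 → F)) := ⟨psl_transitive⟩
  rw [← hst, MulAction.index_stabilizer_of_transitive G2 y, card_line hF]

theorem commutator_mem_sylow (P : Sylow p G2) {a b : G2}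
    (ha : a ∈ Subgroup.normalizer ((P : Subgroup G2) : Set G2))
    (hb : b ∈ Subgroup.normalizer ((P : Subgroup G2) : Set G2)) : a * b * a⁻¹ * b⁻¹ ∈ P := by
  obtain ⟨y, hN, hP⟩ := sylow_point p P
  obtain ⟨h, hh⟩ := exists_to_inf y
  have haff : ∀ g : G2, T2 g • y = y → ∃ c d, h * T2 g * h⁻¹ = aff c d := fun g hg =>
    exists_aff_of_fix_inf (by rw [mul_smul, mul_smul, inv_smul_eq_iff.2 hh.symm, hg, hh])
  obtain ⟨c, d, e1⟩ := haff a ((hN a).1 ha)
  obtain ⟨c', d', e2⟩ := haff b ((hN b).1 hb)
  obtain ⟨c'', d'', e3⟩ := haff (a * b * a⁻¹ * b⁻¹)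
    ((hN _).1 (mul_mem (mul_mem (mul_mem ha hb) (inv_mem ha)) (inv_mem hb)))
  have hc : c'' = 1 := by
    have e : aff c'' d'' * (aff c' d' * aff c d) = aff c d * aff c' d' := by
      rw [← e1, ← e2, ← e3, map_mul, map_mul, map_mul, map_inv, map_inv]
      group
    rw [aff_mul, aff_mul, aff_mul] at e
    have := (aff_inj e).1
    rwa [mul_comm c' c, mul_eq_right] at this
  subst hc
  refine (hP _).2 ?_
  by_cases hd : d'' = 0
  · left
    rw [hd, aff_one, conj_eq_one_iff] at e3
    exact Matrix.ProjectiveSpecialLinearGroup.toPGL_injective (e3.trans (map_one _).symm)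
  · right
    rw [← show h⁻¹ * aff 1 d'' * h⁻¹⁻¹ = T2 (a * b * a⁻¹ * b⁻¹) by rw [← e3]; group, fixSet_conj,
      fixSet_aff_one hd, Set.image_singleton, inv_smul_eq_iff.2 hh.symm]

theorem isSolvable_normalizer_sylow (P : Sylow p G2) :
    Group.IsSolvable (Subgroup.normalizer ((P : Subgroup G2) : Set G2)) := by
  set N := Subgroup.normalizer ((P : Subgroup G2) : Set G2)
  haveI : Group.IsNilpotent (P : Subgroup G2) := P.isPGroup'.isNilpotent
  refine (Group.isSolvable_def _).2 ?_
  obtain ⟨n, hn⟩ := (Group.isSolvable_def ↥(P : Subgroup G2)).1 inferInstance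
  refine ⟨n + 1, ?_⟩
  let W : Subgroup N := (P : Subgroup G2).subgroupOf N
  have h1 : derivedSeries N 1 ≤ W := by
    rw [derivedSeries_one, commutator_eq_closure, Subgroup.closure_le]
    rintro x ⟨a, b, rfl⟩
    show ((⁅a, b⁆ : N) : G2) ∈ (P : Subgroup G2)
    rw [commutatorElement_def]
    exact commutator_mem_sylow p P a.2 b.2
  let ι : (P : Subgroup G2) →* N := Subgroup.inclusion Subgroup.le_normalizer
  have h2 : ∀ m, derivedSeries N (m + 1) ≤ (derivedSeries (P : Subgroup G2) m).map ι := by
    intro m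
    induction m with
    | zero =>
      rw [derivedSeries_zero, ← MonoidHom.range_eq_map]
      exact h1.trans fun x hx => ⟨⟨x.1, hx⟩, rfl⟩
    | succ m ih =>
      show ⁅derivedSeries N (m + 1), derivedSeries N (m + 1)⁆ ≤
        (⁅derivedSeries (P : Subgroup G2) m, derivedSeries (P : Subgroup G2) m⁆).map ι
      rw [Subgroup.map_commutator]
      exact Subgroup.commutator_mono ih ih
  rw [eq_bot_iff]
  exact (h2 n).trans (by rw [hn, Subgroup.map_bot])

omit [Field F] [Fintype F] hp [CharP F p] in
theorem isSolvable_dihedral (k : ℕ) : Group.IsSolvable (DihedralGroup k) := by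
  let f : DihedralGroup k →* Multiplicative (ZMod 2) :=
    { toFun := fun g => match g with
        | .r _ => 1
        | .sr _ => Multiplicative.ofAdd 1
      map_one' := rfl
      map_mul' := by
        rintro (i | i) (j | j)
        · rfl
        · rfl
        · rfl
        · exact (by decide : (1 : Multiplicative (ZMod 2)) = Multiplicative.ofAdd 1 * Multiplicative.ofAdd 1) }
  let g : Multiplicative (ZMod k) →* DihedralGroup k :=
    { toFun := fun i => .r i.toAdd
      map_one' := rfl
      map_mul' := fun _ _ => rfl }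
  refine Group.isSolvable_of_ker_le_range g f ?_
  rintro (i | i) hi
  · exact ⟨Multiplicative.ofAdd i, rfl⟩
  · exact absurd (show Multiplicative.ofAdd (1 : ZMod 2) = 1 from hi) (by decide)

omit [Field F] [Fintype F] hp [CharP F p] in
theorem isSolvable_of_card {G : Type*} [Group G] [Finite G] (h : Nat.card G ∈ ({6, 12, 24} : Finset ℕ)) :
    Group.IsSolvable G := by
  simp only [Finset.mem_insert, Finset.mem_singleton] at h
  rcases h with h | h | h
  · exact Cfsg.Agent.S0144.result 2 3 1 1 Nat.prime_two Nat.prime_three (by rw [h]; norm_num)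
  · exact Cfsg.Agent.S0144.result 2 3 2 1 Nat.prime_two Nat.prime_three (by rw [h]; norm_num)
  · exact Cfsg.Agent.S0144.result 2 3 3 1 Nat.prime_two Nat.prime_three (by rw [h]; norm_num)

end CfsgLib.Classical.Dickson
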