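/-
Consequences of Dickson's list: orders of subgroups and minimal index.
-/
import Cfsg.Agent.Lib.Classical.Dickson.Borel

set_option autoImplicit false

namespace CfsgLib.Classical.Dickson

open Matrix SL2Q
open scoped MatrixGroups

variable {F : Type*} [Field F] [Fintype F]

/-- `d · |PSL_2(q)| = q (q - 1) (q + 1)`. -/
theorem gcd_mul_card_PSL {q : ℕ} (hF : Fintype.card F = q) :
    Nat.gcd 2 (q - 1) * Nat.card (ProjectiveSpecialLinearGroup (Fin 2) F) = q * ((q - 1) * (q + 1)) := by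
  classical
  have h := card_center_mul_card_PSL (F := F) (ι := Fin 2)
  rw [card_center_SL, Fintype.card_fin, card_units_eq hF, card_SL_two hF] at h
  exact h

theorem card_psl_le {q : ℕ} (hF : Fintype.card F = q) :
    Nat.card (ProjectiveSpecialLinearGroup (Fin 2) F) ≤ q * ((q - 1) * (q + 1)) := by
  rw [← gcd_mul_card_PSL hF]
  exact Nat.le_mul_of_pos_left _ (Nat.gcd_pos_of_pos_left _ two_pos)

theorem card_pgl {q : ℕ} (hF : Fintype.card F = q) :
    Nat.card (Matrix.ProjGenLinGroup (Fin 2) F) = q * ((q - 1) * (q + 1)) := by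
  rw [card_PGL_eq_card_SL, card_SL_two hF]

theorem q_even_pow {q : ℕ} (hF : Fintype.card F = q) (h : q % 2 = 0) : ∃ n, 0 < n ∧ q = 2 ^ n := by
  have hc : ringChar F = 2 := FiniteField.even_card_iff_char_two.2 (by rw [hF]; omega)
  haveI : CharP F 2 := ringChar.of_eq hc
  obtain ⟨n, -, hn⟩ := FiniteField.card F 2
  exact ⟨n, n.pos, hF.symm.trans hn⟩

theorem q_shape {q : ℕ} (hF : Fintype.card F = q) :
    (q % 2 = 1 ∧ Nat.gcd 2 (q - 1) = 2) ∨
      (q % 2 = 0 ∧ Nat.gcd 2 (q - 1) = 1 ∧ (q = 2 ∨ q = 4 ∨ q = 8 ∨ 16 ≤ q)) := by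
  have hq1 : 1 < q := hF ▸ Fintype.one_lt_card
  rcases Nat.mod_two_eq_zero_or_one q with h | h
  · obtain ⟨n, hn0, rfl⟩ := q_even_pow hF h
    refine Or.inr ⟨h, Nat.prime_two.coprime_iff_not_dvd.2 (by omega), ?_⟩
    rcases (show n = 1 ∨ n = 2 ∨ n = 3 ∨ 4 ≤ n by omega) with rfl | rfl | rfl | h4
    · exact Or.inl rfl
    · exact Or.inr (Or.inl rfl)
    · exact Or.inr (Or.inr (Or.inl rfl))
    · exact Or.inr (Or.inr (Or.inr (Nat.pow_le_pow_right two_pos h4 : 2 ^ 4 ≤ 2 ^ n)))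
  · exact Or.inl ⟨h, Nat.gcd_eq_left (by omega)⟩

/-- The orders of the proper subgroups are at most `|PSL_2(q)| / (q + 1)`. -/
theorem proper_subgroup_bound {q : ℕ} (hF : Fintype.card F = q) (hq : q ∉ ({2, 3, 5, 7, 9, 11} : Finset ℕ))
    (H : Subgroup (ProjectiveSpecialLinearGroup (Fin 2) F)) (hH : H ≠ ⊤) :
    Nat.gcd 2 (q - 1) * Nat.card H ≤ q * (q - 1) := by
  simp only [Finset.mem_insert, Finset.mem_singleton, not_or] at hq
  obtain ⟨p, _⟩ := CharP.exists F
  haveI : Fact p.Prime := ⟨CharP.char_is_prime F p⟩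
  have hG := gcd_mul_card_PSL hF
  have hlt : Nat.card H < Nat.card (ProjectiveSpecialLinearGroup (Fin 2) F) := by
    rcases lt_or_eq_of_le (Subgroup.card_le_card_group H) with h | h
    · exact h
    · exact absurd (Subgroup.eq_top_of_card_eq H h) hH
  have hshape := q_shape hF
  have hq1 : 1 < q := hF ▸ Fintype.one_lt_card
  have hmono : ∀ a, a ≤ q → a * (a - 1) ≤ q * (q - 1) := fun a ha => Nat.mul_le_mul ha (by omega)
  rcases dickson_list p hF H with ⟨k, hk, hcase⟩ | ⟨P, K, hK, ⟨e⟩⟩ | ⟨⟨e⟩⟩ | ⟨⟨e⟩⟩ | ⟨⟨e⟩⟩ |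
    ⟨K, _, _, m, hm, hcase⟩
  · have hcard : Nat.card H ≤ 2 * k := by
      rcases hcase with ⟨-, h⟩ | ⟨⟨e⟩⟩
      · omega
      · rw [Nat.card_congr e.toEquiv, DihedralGroup.nat_card]
    have hkd : Nat.gcd 2 (q - 1) * k ≤ q + 1 := by
      rcases hshape with ⟨h1, h2⟩ | ⟨h1, h2, -⟩ <;> rw [h2] at hk ⊢
      · rcases hk with h | h <;> have := Nat.le_of_dvd (by omega) h <;> omega
      · rcases hk with h | h <;> rw [Nat.div_one] at h <;> have := Nat.le_of_dvd (by omega) h <;> omega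
    calc Nat.gcd 2 (q - 1) * Nat.card H ≤ Nat.gcd 2 (q - 1) * (2 * k) := Nat.mul_le_mul_left _ hcard
      _ = 2 * (Nat.gcd 2 (q - 1) * k) := by ring
      _ ≤ 2 * (q + 1) := Nat.mul_le_mul_left _ hkd
      _ ≤ q * (q - 1) := by
        have h4 : 4 ≤ q := by rcases hshape with ⟨h1, -⟩ | ⟨h1, -, h⟩ <;> omega
        exact le_trans (by omega) (Nat.mul_le_mul_left q (show 3 ≤ q - 1 by omega))
  · have h1 := Subgroup.card_mul_index
      (Subgroup.normalizer ((P : Subgroup (ProjectiveSpecialLinearGroup (Fin 2) F)) :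
        Set (ProjectiveSpecialLinearGroup (Fin 2) F)))
    rw [index_normalizer_sylow p hF P] at h1
    have h2 := Subgroup.card_le_of_le hK
    rw [Nat.card_congr e.toEquiv]
    refine Nat.le_of_mul_le_mul_right ?_ (Nat.succ_pos q)
    calc Nat.gcd 2 (q - 1) * Nat.card K * (q + 1) ≤ Nat.gcd 2 (q - 1) *
          Nat.card (Subgroup.normalizer ((P : Subgroup (ProjectiveSpecialLinearGroup (Fin 2) F)) :
            Set (ProjectiveSpecialLinearGroup (Fin 2) F))) * (q + 1) :=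
          Nat.mul_le_mul_right _ (Nat.mul_le_mul_left _ h2)
      _ = q * ((q - 1) * (q + 1)) := by rw [mul_assoc, h1, hG]
      _ = q * (q - 1) * (q + 1) := by ring
  · have hc : Nat.card H = 12 := by
      rw [Nat.card_congr e.toEquiv, nat_card_alternatingGroup, Nat.card_fin]; rfl
    rw [hc]
    rcases hshape with ⟨h1, h2⟩ | ⟨h1, h2, h⟩ <;> rw [h2]
    · exact le_trans (by norm_num) (hmono 13 (by omega))
    · exact le_trans (by norm_num) (hmono 4 (by omega))
  · have hc : Nat.card H = 24 := by rw [Nat.card_congr e.toEquiv, Nat.card_perm, Nat.card_fin]; rfl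
    have hq16 := (sym_four_iff hF).1 ⟨H, ⟨e⟩⟩
    rw [hc]
    rcases hshape with ⟨h1, h2⟩ | ⟨h1, h2, h⟩ <;> rw [h2]
    · exact le_trans (by norm_num) (hmono 13 (by omega))
    · rw [Nat.pow_mod] at hq16
      have h16 : q % 16 % 2 = 0 := by omega
      have hlt16 : q % 16 < 16 := Nat.mod_lt _ (by norm_num)
      interval_cases hr : q % 16 <;> simp_all
  · have hc : Nat.card H = 60 := by rw [Nat.card_congr e.toEquiv, nat_card_alternatingGroup, Nat.card_fin]; rfl
    have h5 := (alt_five_iff hF).1 ⟨H, ⟨e⟩⟩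
    rw [hc]
    rcases hshape with ⟨h1, h2⟩ | ⟨h1, h2, h⟩ <;> rw [h2]
    · exact le_trans (by norm_num) (hmono 13 (by omega))
    · rcases h with rfl | rfl | rfl | h
      · omega
      · rw [h2, one_mul] at hG; rw [hG, hc] at hlt; omega
      · norm_num at h5
      · exact le_trans (by norm_num) (hmono 16 h)
  · have hc : Nat.card H ≤ Fintype.card K * ((Fintype.card K - 1) * (Fintype.card K + 1)) := by
      rcases hcase with ⟨⟨e⟩⟩ | ⟨⟨e⟩⟩ <;> rw [Nat.card_congr e.toEquiv]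
      · exact card_psl_le rfl
      · rw [card_pgl rfl]
    set Q := Fintype.card K with hQ
    have hQ2 : 2 ≤ Q := Fintype.one_lt_card
    rcases (show m = 0 ∨ m = 1 ∨ 2 ≤ m by omega) with rfl | rfl | hm2
    · simp at hm; omega
    · rw [pow_one] at hm
      exfalso
      rcases hcase with ⟨⟨e⟩⟩ | ⟨⟨e⟩⟩ <;> rw [Nat.card_congr e.toEquiv] at hlt
      · have hK := gcd_mul_card_PSL (F := K) hQ.symm
        rw [hm, ← hG] at hK
        rw [Nat.eq_of_mul_eq_mul_left (Nat.gcd_pos_of_pos_left _ two_pos) hK] at hlt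
        exact lt_irrefl _ hlt
      · rw [card_pgl hQ.symm, hm] at hlt
        exact absurd hlt (not_lt.2 (card_psl_le hF))
    · have hqQ : Q * Q ≤ q := by
        rw [← hm, ← pow_two]
        exact Nat.pow_le_pow_right (by omega) hm2
      have hd : Nat.gcd 2 (q - 1) ≤ 2 := Nat.le_of_dvd two_pos (Nat.gcd_dvd_left _ _)
      calc Nat.gcd 2 (q - 1) * Nat.card H ≤ 2 * (Q * ((Q - 1) * (Q + 1))) := Nat.mul_le_mul hd hc
        _ ≤ Q * (Q * ((Q - 1) * (Q + 1))) := Nat.mul_le_mul_right _ hQ2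
        _ = (Q * Q) * (Q * Q - 1) := by
          rw [show (Q - 1) * (Q + 1) = Q * Q - 1 by
            rw [mul_comm, ← Nat.sq_sub_sq, one_pow, pow_two]]
          ring
        _ ≤ q * (q - 1) := hmono _ hqQ

theorem min_index {q : ℕ} (hF : Fintype.card F = q) (hq : q ∉ ({2, 3, 5, 7, 9, 11} : Finset ℕ)) :
    (∀ H : Subgroup (ProjectiveSpecialLinearGroup (Fin 2) F), H ≠ ⊤ → q + 1 ≤ H.index) ∧
      ∃ H : Subgroup (ProjectiveSpecialLinearGroup (Fin 2) F), H.index = q + 1 := by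
  obtain ⟨p, _⟩ := CharP.exists F
  haveI : Fact p.Prime := ⟨CharP.char_is_prime F p⟩
  refine ⟨fun H hH => ?_, ?_⟩
  · have h := proper_subgroup_bound hF hq H hH
    have hG := gcd_mul_card_PSL hF
    rw [← H.card_mul_index] at hG
    have hpos : 0 < Nat.gcd 2 (q - 1) * Nat.card H := Nat.mul_pos (Nat.gcd_pos_of_pos_left _ two_pos) Nat.card_pos
    by_contra hlt
    have h1 : Nat.gcd 2 (q - 1) * Nat.card H * H.index < q * (q - 1) * (q + 1) :=
      calc _ < Nat.gcd 2 (q - 1) * Nat.card H * (q + 1) := Nat.mul_lt_mul_of_pos_left (by omega) hpos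
        _ ≤ _ := Nat.mul_le_mul_right _ h
    rw [mul_assoc, hG] at h1
    exact absurd h1 (by rw [mul_assoc]; exact lt_irrefl _)
  · obtain ⟨P⟩ : Nonempty (Sylow p (ProjectiveSpecialLinearGroup (Fin 2) F)) := inferInstance
    exact ⟨_, index_normalizer_sylow p hF P⟩

end CfsgLib.Classical.Dickson
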