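/-
Thompson's list of the minimal simple groups `PSL_2(q)`.
-/
import Cfsg.Agent.Lib.Classical.Dickson.MinIndex
import Cfsg.Prelude.Def_CaseTheorems

set_option autoImplicit false

namespace CfsgLib.Classical.Dickson

open Matrix
open scoped MatrixGroups

variable {F : Type*} [Field F] [Fintype F]

theorem noncomm_of_four_le {q : ℕ} (hF : Fintype.card F = q) (h4 : 4 ≤ q) :
    IsSimpleGroup (ProjectiveSpecialLinearGroup (Fin 2) F) ∧
      ¬ IsMulCommutative (ProjectiveSpecialLinearGroup (Fin 2) F) ∧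
      ¬ Group.IsSolvable (ProjectiveSpecialLinearGroup (Fin 2) F) := by
  haveI hs : IsSimpleGroup (ProjectiveSpecialLinearGroup (Fin 2) F) :=
    Matrix.ProjectiveSpecialLinearGroup.rank_two_simple (by rw [Nat.card_eq_fintype_card, hF]; omega)
  have hnc : ¬ IsMulCommutative (ProjectiveSpecialLinearGroup (Fin 2) F) := by
    intro hc
    obtain ⟨p, _⟩ := CharP.exists F
    haveI : Fact p.Prime := ⟨CharP.char_is_prime F p⟩
    obtain ⟨P⟩ : Nonempty (Sylow p (ProjectiveSpecialLinearGroup (Fin 2) F)) := inferInstance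
    have hidx := index_normalizer_sylow p hF P
    set N := Subgroup.normalizer ((P : Subgroup (ProjectiveSpecialLinearGroup (Fin 2) F)) :
      Set (ProjectiveSpecialLinearGroup (Fin 2) F))
    haveI : N.Normal := ⟨fun n hn g => by rwa [hc.is_comm.comm g n, mul_inv_cancel_right]⟩
    have hG := gcd_mul_card_PSL hF
    rcases IsSimpleGroup.eq_bot_or_eq_top_of_normal N inferInstance with e | e <;> rw [e] at hidx
    · rw [Subgroup.index_bot] at hidx
      rw [hidx] at hG
      have h1 : Nat.gcd 2 (q - 1) = q * (q - 1) :=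
        Nat.eq_of_mul_eq_mul_right (Nat.succ_pos q) (hG.trans (mul_assoc _ _ _).symm)
      have := Nat.mul_le_mul (show 4 ≤ q from h4) (show 3 ≤ q - 1 by omega)
      have := Nat.le_of_dvd two_pos (Nat.gcd_dvd_left 2 (q - 1))
      omega
    · rw [Subgroup.index_top] at hidx
      omega
  refine ⟨hs, hnc, fun hsol => hnc ?_⟩
  exact ⟨⟨(IsSimpleGroup.comm_iff_isSolvable.2 hsol)⟩⟩

/-- Subgroups of type `PSL_2` or `PGL_2` over the field of full order are improper. -/
theorem subfield_lt {q : ℕ} (hF : Fintype.card F = q) {K : Type*} [Field K] [Fintype K]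
    (hK : Fintype.card K = q) (H : Subgroup (ProjectiveSpecialLinearGroup (Fin 2) F))
    (h : Nonempty (H ≃* ProjectiveSpecialLinearGroup (Fin 2) K) ∨
      Nonempty (H ≃* Matrix.ProjGenLinGroup (Fin 2) K)) : H = ⊤ := by
  refine Subgroup.eq_top_of_le_card H ?_
  rcases h with ⟨⟨e⟩⟩ | ⟨⟨e⟩⟩ <;> rw [Nat.card_congr e.toEquiv]
  · exact le_of_eq (Nat.eq_of_mul_eq_mul_left (Nat.gcd_pos_of_pos_left _ two_pos)
      ((gcd_mul_card_PSL hF).trans (gcd_mul_card_PSL hK).symm))
  · rw [card_pgl hK]; exact card_psl_le hF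

theorem small_pgl_solvable {K : Type*} [Field K] [Fintype K] (h : Fintype.card K ≤ 3) :
    Group.IsSolvable (ProjectiveSpecialLinearGroup (Fin 2) K) ∧
      Group.IsSolvable (Matrix.ProjGenLinGroup (Fin 2) K) := by
  haveI : Finite (Matrix.ProjGenLinGroup (Fin 2) K) :=
    Finite.of_surjective _ Matrix.ProjGenLinGroup.mk_surjective
  have h1 := Fintype.one_lt_card (α := K)
  have hP := gcd_mul_card_PSL (F := K) rfl
  have hG := card_pgl (F := K) rfl
  rcases (show Fintype.card K = 2 ∨ Fintype.card K = 3 by omega) with e | e <;> rw [e] at hP hG <;>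
    norm_num at hP hG
  · exact ⟨isSolvable_of_card (by simp [hP]), isSolvable_of_card (by simp [hG])⟩
  · exact ⟨isSolvable_of_card (by simp [show Nat.card (ProjectiveSpecialLinearGroup (Fin 2) K) = 12 by omega]),
      isSolvable_of_card (by simp [hG])⟩

theorem exists_subfield_counterexample (p r m : ℕ) [Fact p.Prime] (hr : 0 < r) (hm : 2 ≤ m) (h4 : 4 ≤ p ^ r)
    (hF : Fintype.card F = (p ^ r) ^ m) :
    ∃ H : Subgroup (ProjectiveSpecialLinearGroup (Fin 2) F), H ≠ ⊤ ∧ ¬ Group.IsSolvable H := by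
  haveI : Fintype (GaloisField p r) := Fintype.ofFinite _
  have hc : Fintype.card (GaloisField p r) = p ^ r := by
    rw [← Nat.card_eq_fintype_card, GaloisField.card p r hr.ne']
  obtain ⟨σ⟩ := exists_hom_of_card_pow (F := F) (K := GaloisField p r) m (by rw [hc, hF])
  refine ⟨(pslMap σ).range, fun htop => ?_, fun hsol => ?_⟩
  · have h1 : Nat.card (ProjectiveSpecialLinearGroup (Fin 2) F) =
        Nat.card (ProjectiveSpecialLinearGroup (Fin 2) (GaloisField p r)) := by
      rw [Nat.card_congr (MonoidHom.ofInjective (pslMap_injective σ)).toEquiv, htop, Subgroup.card_top]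
    have h2 := card_psl_le (F := GaloisField p r) hc
    rw [← h1] at h2
    set Q := p ^ r
    have hQq : Q * Q ≤ Q ^ m := by rw [← pow_two]; exact Nat.pow_le_pow_right (by omega) hm
    have hG := gcd_mul_card_PSL hF
    set q := Q ^ m
    have hd := Nat.le_of_dvd two_pos (Nat.gcd_dvd_left 2 (q - 1))
    have h3 : q * ((q - 1) * (q + 1)) ≤ 2 * (Q * ((Q - 1) * (Q + 1))) := hG ▸ Nat.mul_le_mul hd h2
    have h5 : 4 * Q ≤ Q * Q := Nat.mul_le_mul_right Q h4
    have h6 : (Q - 1) * (Q + 1) ≤ (q - 1) * (q + 1) := Nat.mul_le_mul (by omega) (by omega)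
    have h7 : 3 * (Q * ((Q - 1) * (Q + 1))) ≤ q * ((q - 1) * (q + 1)) := by
      rw [← mul_assoc]
      exact Nat.mul_le_mul (by omega) h6
    have h8 : 0 < Q * ((Q - 1) * (Q + 1)) := Nat.mul_pos (by omega) (Nat.mul_pos (by omega) (by omega))
    omega
  · haveI := hsol
    exact (noncomm_of_four_le hc h4).2.2
      (Group.isSolvable_of_surjective (f := (MonoidHom.ofInjective (pslMap_injective σ)).symm.toMonoidHom)
        (MulEquiv.surjective _))

theorem exists_alt_five_counterexample {q : ℕ} (hF : Fintype.card F = q) (h5 : 5 ∣ q * (q ^ 2 - 1)) (h9 : 8 ≤ q) :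
    ∃ H : Subgroup (ProjectiveSpecialLinearGroup (Fin 2) F), H ≠ ⊤ ∧ ¬ Group.IsSolvable H := by
  obtain ⟨H, ⟨e⟩⟩ := (alt_five_iff hF).2 h5
  refine ⟨H, fun htop => ?_, fun hsol => ?_⟩
  · have h1 : Nat.card (ProjectiveSpecialLinearGroup (Fin 2) F) = 60 := by
      rw [← Subgroup.card_top, ← htop, Nat.card_congr e.toEquiv, nat_card_alternatingGroup, Nat.card_fin]; rfl
    have hG := gcd_mul_card_PSL hF
    rw [h1] at hG
    have hd := Nat.le_of_dvd two_pos (Nat.gcd_dvd_left 2 (q - 1))
    have := Nat.mul_le_mul h9 (Nat.mul_le_mul (show 7 ≤ q - 1 by omega) (show 9 ≤ q + 1 by omega))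
    omega
  · haveI := hsol
    haveI : IsSimpleGroup (alternatingGroup (Fin 5)) := alternatingGroup.isSimpleGroup_five
    have hs : Group.IsSolvable (alternatingGroup (Fin 5)) := Group.isSolvable_of_surjective e.surjective (f := e.toMonoidHom)
    obtain ⟨⟨hc⟩⟩ := (⟨⟨IsSimpleGroup.comm_iff_isSolvable.2 hs⟩⟩ : IsMulCommutative (alternatingGroup (Fin 5)))
    have := hc (⟨Equiv.swap 0 1 * Equiv.swap 1 2, Equiv.Perm.mem_alternatingGroup.2 (by decide)⟩ : alternatingGroup (Fin 5))
      ⟨Equiv.swap 1 2 * Equiv.swap 2 3, Equiv.Perm.mem_alternatingGroup.2 (by decide)⟩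
    exact absurd (congrArg Subtype.val this) (by decide)

theorem not_five_dvd {q : ℕ} (h : q ^ 2 % 5 = 4) : ¬ 5 ∣ q * (q ^ 2 - 1) := by
  intro hd
  rcases (Nat.Prime.dvd_mul (by norm_num : Nat.Prime 5)).1 hd with h5 | h5
  · rw [Nat.pow_mod, Nat.mod_eq_zero_of_dvd h5] at h
    omega
  · omega

theorem minimal_simple_iff {q : ℕ} (hF : Fintype.card F = q) :
    Cfsg.IsMinimalSimple (ProjectiveSpecialLinearGroup (Fin 2) F) ↔
      ((∃ r : ℕ, r.Prime ∧ q = 2 ^ r) ∨ (∃ r : ℕ, r.Prime ∧ r ≠ 2 ∧ q = 3 ^ r) ∨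
        (q.Prime ∧ 5 < q ∧ (q % 5 = 2 ∨ q % 5 = 3)) ∨ q = 5) := by
  obtain ⟨p, _⟩ := CharP.exists F
  haveI : Fact p.Prime := ⟨CharP.char_is_prime F p⟩
  have hp : p.Prime := Fact.out
  constructor
  · rintro ⟨hs, hnc, hall⟩
    obtain ⟨⟨n, hn0⟩, -, hn⟩ := FiniteField.card F p
    simp only [PNat.mk_coe] at hn
    rw [hF] at hn
    have h4 : 4 ≤ q := by
      by_contra hlt
      have hsol := (small_pgl_solvable (K := F) (by omega)).1
      exact hnc ⟨⟨IsSimpleGroup.comm_iff_isSolvable.2 hsol⟩⟩
    have key : ∀ H : Subgroup (ProjectiveSpecialLinearGroup (Fin 2) F), H ≠ ⊤ → ¬ Group.IsSolvable H → False :=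
      fun H h1 h2 => h2 (hall H h1)
    by_cases hp5 : 5 ≤ p
    · have hn1 : n = 1 := by
        by_contra hne
        obtain ⟨H, h1, h2⟩ := exists_subfield_counterexample (F := F) p 1 n one_pos (by omega)
          (by rw [pow_one]; omega) (by rw [pow_one, hF, hn])
        exact key H h1 h2
      subst hn1
      rw [pow_one] at hn
      subst hn
      rcases eq_or_lt_of_le hp5 with h | h
      · exact Or.inr (Or.inr (Or.inr h.symm))
      refine Or.inr (Or.inr (Or.inl ⟨hp, h, ?_⟩))
      by_contra hcon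
      have h0 : q % 5 ≠ 0 := fun h0 => by
        rcases hp.eq_one_or_self_of_dvd 5 (Nat.dvd_of_mod_eq_zero h0) with e | e <;> omega
      have h5 : 5 ∣ q * (q ^ 2 - 1) := by
        refine dvd_mul_of_dvd_right ?_ _
        have hsq : q ^ 2 % 5 = 1 := by
          rw [Nat.pow_mod]
          rcases (show q % 5 = 1 ∨ q % 5 = 4 by omega) with e | e <;> rw [e]
        omega
      have h6 : q ≠ 6 := fun e => by rw [e] at hp; norm_num at hp
      obtain ⟨H, h1, h2⟩ := exists_alt_five_counterexample hF h5 (by omega)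
      exact key H h1 h2
    · have hn1 : n ≠ 1 := fun e => by
        subst e
        rw [pow_one] at hn
        have : p ≠ 4 := by rintro rfl; norm_num at hp
        omega
      have hnp : n.Prime := by
        by_contra hnp
        obtain ⟨r, ⟨m, rfl⟩, hr2, hrn⟩ := Nat.exists_dvd_of_not_prime2 (by omega) hnp
        obtain ⟨H, h1, h2⟩ := exists_subfield_counterexample (F := F) p r m (by omega)
          (by by_contra hm; interval_cases m <;> omega)
          (le_trans (show 2 ^ 2 ≤ 2 ^ r from Nat.pow_le_pow_right two_pos hr2) (Nat.pow_le_pow_left hp.two_le r))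
          (by rw [hF, hn, pow_mul])
        exact key H h1 h2
      have hp23 : p = 2 ∨ p = 3 := by
        have := hp.two_le
        have : p ≠ 4 := by rintro rfl; norm_num at hp
        omega
      rcases hp23 with rfl | rfl
      · exact Or.inl ⟨n, hnp, hn⟩
      · refine Or.inr (Or.inl ⟨n, hnp, fun e => ?_, hn⟩)
        subst e
        obtain ⟨H, h1, h2⟩ := exists_alt_five_counterexample hF (by rw [hn]; norm_num) (by rw [hn]; norm_num)
        exact key H h1 h2
  · intro hcases
    have h4 : 4 ≤ q := by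
      rcases hcases with ⟨r, hr, rfl⟩ | ⟨r, hr, -, rfl⟩ | ⟨-, h, -⟩ | rfl
      · exact (show 2 ^ 2 ≤ 2 ^ r from Nat.pow_le_pow_right two_pos hr.two_le)
      · exact le_trans (by norm_num) (show 3 ^ 2 ≤ 3 ^ r from Nat.pow_le_pow_right (by norm_num) hr.two_le)
      · omega
      · omega
    obtain ⟨hs, hnc, -⟩ := noncomm_of_four_le hF h4
    refine ⟨hs, hnc, fun H hH => ?_⟩
    rcases dickson_list p hF H with ⟨k, -, hcase⟩ | ⟨P, K, hK, ⟨e⟩⟩ | ⟨⟨e⟩⟩ | ⟨⟨e⟩⟩ | ⟨⟨e⟩⟩ |
      ⟨K, _, _, m, hm, hcase⟩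
    · rcases hcase with ⟨hc, -⟩ | ⟨⟨e⟩⟩
      · haveI := hc
        letI : CommGroup H := IsCyclic.commGroup
        infer_instance
      · haveI := isSolvable_dihedral k
        exact Group.isSolvable_of_isSolvable_injective (f := e.toMonoidHom) e.injective
    · haveI := isSolvable_normalizer_sylow p P
      haveI : Group.IsSolvable K := Group.isSolvable_of_isSolvable_injective (Subgroup.inclusion_injective hK)
      exact Group.isSolvable_of_isSolvable_injective (f := e.toMonoidHom) e.injective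
    · exact isSolvable_of_card (by
        rw [Nat.card_congr e.toEquiv, nat_card_alternatingGroup, Nat.card_fin]; decide)
    · exact isSolvable_of_card (by rw [Nat.card_congr e.toEquiv, Nat.card_perm, Nat.card_fin]; decide)
    · exfalso
      have h5 := (alt_five_iff hF).1 ⟨H, ⟨e⟩⟩
      have hc : Nat.card H = 60 := by
        rw [Nat.card_congr e.toEquiv, nat_card_alternatingGroup, Nat.card_fin]; rfl
      have hG := gcd_mul_card_PSL hF
      have h60 : q ≠ 4 ∧ q ≠ 5 := by
        constructor <;> rintro rfl <;> norm_num at hG <;>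
          exact hH (Subgroup.eq_top_of_card_eq H (by omega))
      refine not_five_dvd ?_ h5
      rcases hcases with ⟨r, hr, rfl⟩ | ⟨r, hr, hr2, rfl⟩ | ⟨-, -, h⟩ | rfl
      · rcases hr.eq_two_or_odd' with rfl | ⟨j, rfl⟩
        · exact absurd rfl h60.1
        · rw [← pow_mul, show (2 * j + 1) * 2 = 4 * j + 2 by ring, pow_add, pow_mul, Nat.mul_mod, Nat.pow_mod]
          norm_num
      · obtain ⟨j, rfl⟩ := hr.eq_two_or_odd'.resolve_left hr2
        rw [← pow_mul, show (2 * j + 1) * 2 = 4 * j + 2 by ring, pow_add, pow_mul, Nat.mul_mod, Nat.pow_mod]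
        norm_num
      · rw [Nat.pow_mod]
        rcases h with h | h <;> rw [h]
      · exact absurd rfl h60.2
    · rcases (show m = 0 ∨ m = 1 ∨ 2 ≤ m by omega) with rfl | rfl | hm2
      · simp at hm; omega
      · exact absurd (subfield_lt hF (by rw [← hm, pow_one]) H hcase) hH
      · have h3 : Fintype.card K ≤ 3 := by
          have hK1 := Fintype.one_lt_card (α := K)
          have key : ∀ a r : ℕ, a.Prime → r.Prime → q = a ^ r → Fintype.card K = a := by
            intro a r ha hr hq
            obtain ⟨j, -, hj⟩ := (Nat.dvd_prime_pow ha).1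
              ((dvd_pow_self (Fintype.card K) (by omega : m ≠ 0)).trans (dvd_of_eq (hm.trans hq)))
            have hjm : j * m = r := Nat.pow_right_injective ha.two_le
              (show a ^ (j * m) = a ^ r by rw [pow_mul, ← hj, hm, hq])
            rcases hr.eq_one_or_self_of_dvd m ⟨j, by rw [← hjm]; ring⟩ with e | e
            · omega
            · have hj1 : j = 1 := Nat.eq_of_mul_eq_mul_right (by omega : 0 < m) (by rw [hjm, e, one_mul])
              rw [hj, hj1, pow_one]
          have notprime : ¬ q.Prime := by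
            intro hqp
            have h := key q q hqp hqp
            rw [← hm] at hqp
            exact hqp.ne_one (absurd hqp (Nat.Prime.not_prime_pow hm2))
          rcases hcases with ⟨r, hr, hq⟩ | ⟨r, hr, -, hq⟩ | ⟨hqp, -, -⟩ | hq
          · rw [key 2 r Nat.prime_two hr hq]; omega
          · rw [key 3 r Nat.prime_three hr hq]
          · exact absurd hqp notprime
          · exact absurd (hq ▸ (by norm_num : Nat.Prime 5)) notprime
        obtain ⟨s1, s2⟩ := small_pgl_solvable (K := K) h3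
        rcases hcase with ⟨⟨e⟩⟩ | ⟨⟨e⟩⟩
        · exact Group.isSolvable_of_isSolvable_injective (f := e.toMonoidHom) e.injective
        · exact Group.isSolvable_of_isSolvable_injective (f := e.toMonoidHom) e.injective

end CfsgLib.Classical.Dickson
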