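/-
Dihedral subgroups of `PSL_2(q)` coming from the two tori.
-/
import Cfsg.Agent.Lib.Classical.Dickson.MinIndex
import Cfsg.Agent.Lib.Classical.QuadBinary

set_option autoImplicit false

namespace CfsgLib.Classical.Dickson

open Matrix SL2Q CfsgLib.Fusion.PSL2 CfsgLib.Spectrum
open scoped MatrixGroups

/-- A rotation and an inverting involution give a dihedral subgroup. -/
theorem exists_dihedral_sub {G : Type*} [Group G] [Finite G] {m : ℕ} (hm : 0 < m) {r s : G} (hr : orderOf r = m)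
    (hs : s * s = 1) (hsr : s * r * s = r⁻¹) (hns : s ∉ Subgroup.zpowers r) :
    ∃ H : Subgroup G, r ∈ H ∧ s ∈ H ∧ Nat.card H = 2 * m ∧ Nonempty (H ≃* DihedralGroup m) := by
  set C := Subgroup.zpowers r with hC
  have hsinv : s⁻¹ = s := inv_eq_of_mul_eq_one_right hs
  have hflip : ∀ c ∈ C, s * c * s = c⁻¹ := by
    rintro c ⟨j, rfl⟩
    have h := conj_zpow (a := s) (b := r) (i := j)
    rw [hsinv, hsr, _root_.inv_zpow] at h
    exact h.symm
  let H : Subgroup G :=
    { carrier := {x | x ∈ C ∨ s * x ∈ C}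
      one_mem' := Or.inl C.one_mem
      mul_mem' := by
        rintro a b (ha | ha) (hb | hb)
        · exact Or.inl (C.mul_mem ha hb)
        · refine Or.inr ?_
          have e : s * (a * b) = (s * a * s) * (s * b) := by
            simp only [mul_assoc]
            rw [← mul_assoc s s b, hs, one_mul]
          rw [e, hflip a ha]
          exact C.mul_mem (C.inv_mem ha) hb
        · exact Or.inr (by rw [← mul_assoc]; exact C.mul_mem ha hb)
        · refine Or.inl ?_
          have e : a * b = (s * (s * a) * s) * (s * b) := by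
            simp only [mul_assoc]
            rw [← mul_assoc s s b, hs, one_mul, ← mul_assoc s s, hs, one_mul]
          rw [e, hflip _ ha]
          exact C.mul_mem (C.inv_mem ha) hb
      inv_mem' := by
        rintro a (ha | ha)
        · exact Or.inl (C.inv_mem ha)
        · refine Or.inr ?_
          have e : s * a⁻¹ = s * (s * a)⁻¹ * s := by rw [_root_.mul_inv_rev, hsinv, mul_assoc, mul_assoc, hs, mul_one]
          rw [e, hflip _ (C.inv_mem ha), inv_inv]
          exact ha }
  have hsH : s ∈ H := Or.inr (by rw [hs]; exact C.one_mem)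
  have hrH : r ∈ H := Or.inl (Subgroup.mem_zpowers r)
  have hcard : Nat.card H = 2 * m := by
    rw [← SetLike.coe_sort_coe, Nat.card_coe_set_eq,
      show (H : Set G) = (C : Set G) ∪ (fun c => s * c) '' (C : Set G) by
        ext x
        refine ⟨fun h => h.imp_right fun h => ⟨s * x, h, by simp only; rw [← mul_assoc, hs, one_mul]⟩, ?_⟩
        rintro (h | ⟨c, hc, rfl⟩)
        · exact Or.inl h
        · exact Or.inr (by rw [← mul_assoc, hs, one_mul]; exact hc),
      Set.ncard_union_eq (Set.disjoint_left.2 (by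
        rintro x hx ⟨c, hc, e⟩
        refine hns ?_
        rw [show s = x * c⁻¹ by rw [← e]; simp]
        exact C.mul_mem hx (C.inv_mem hc))) (Set.toFinite _) (Set.toFinite _),
      Set.ncard_image_of_injective _ (mul_right_injective s), ← Nat.card_coe_set_eq]
    have : Nat.card C = m := by rw [hC, Nat.card_zpowers, hr]
    simp only [SetLike.coe_sort_coe]
    omega
  refine ⟨H, hrH, hsH, hcard, CfsgLib.Classical.dihedral_of_rotation hm (r := ⟨r, hrH⟩) (s := ⟨s, hsH⟩)
    (by rw [← Subgroup.orderOf_coe, hr]) (Subtype.ext hs) (Subtype.ext hsr) ?_ hcard⟩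
  rintro ⟨j, hj⟩
  exact hns ⟨j, by simpa using congrArg Subtype.val hj⟩

variable {F : Type*} [Field F] [Fintype F]

theorem mem_range_of_pow_eq {q : ℕ} (hF : Fintype.card F = q) {x : AlgebraicClosure F} (hx : x ^ q = x) :
    ∃ t : F, algebraMap F (AlgebraicClosure F) t = x := by
  classical
  by_contra hcon
  push Not at hcon
  have hq : 1 < q := hF ▸ Fintype.one_lt_card
  set S := insert x (Finset.univ.image (algebraMap F (AlgebraicClosure F))) with hS
  have hcard : S.card = q + 1 := by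
    rw [hS, Finset.card_insert_of_notMem (by simpa using hcon),
      Finset.card_image_of_injective _ (algebraMap F (AlgebraicClosure F)).injective, Finset.card_univ, hF]
  have hne : (Polynomial.X ^ q - Polynomial.X : Polynomial (AlgebraicClosure F)) ≠ 0 :=
    FiniteField.X_pow_card_sub_X_ne_zero _ hq
  have hle := Polynomial.card_le_degree_of_subset_roots (Z := S) (p := Polynomial.X ^ q - Polynomial.X)
    (fun y hy => by
      have hy' : y ∈ S := hy
      rw [Polynomial.mem_roots hne]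
      rcases Finset.mem_insert.1 hy' with rfl | h
      · simp [Polynomial.IsRoot, hx]
      · obtain ⟨t, -, rfl⟩ := Finset.mem_image.1 h
        simp [Polynomial.IsRoot, ← map_pow, ← hF, FiniteField.pow_card])
  rw [FiniteField.X_pow_card_sub_X_natDegree_eq _ hq, hcard] at hle
  omega

theorem exists_flip_coeff (p : ℕ) [Fact p.Prime] [CharP F p] (t : F) (ht : t * t ≠ 4) :
    ∃ a b : F, a * a - t * a * b + b * b = -1 := by
  by_cases hp : p = 2
  · haveI : CharP F 2 := CharP.congr p hp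
    exact ⟨1, 0, by simp [CharTwo.neg_eq]⟩
  · have h2 : (2 : F) ≠ 0 := Ring.two_ne_zero (by rw [ringChar.eq F p]; exact hp)
    have h4 : (4 : F) ≠ 0 := by rw [show (4 : F) = 2 * 2 by norm_num]; exact mul_ne_zero h2 h2
    have hc : (1 : F) - t * t / 4 ≠ 0 := fun hc => ht (by
      field_simp at hc
      linear_combination -hc)
    obtain ⟨X, Y, h⟩ := CfsgLib.Classical.exists_mul_sq_add_mul_sq h2 (one_ne_zero (α := F)) hc (-1)
    refine ⟨X + t * Y / 2, Y, ?_⟩
    field_simp at h ⊢
    linear_combination h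

theorem pow_eq_one_iff_companion {t : F} {ζ : AlgebraicClosure F}
    (hζ : ζ + ζ⁻¹ = algebraMap F (AlgebraicClosure F) t) (h0 : ζ ≠ 0) (hne : ζ ^ 2 ≠ 1)
    {g : SpecialLinearGroup (Fin 2) F} (hg : g.1 = !![0, -1; 1, t]) (m : ℕ) :
    (g ^ m = 1 ↔ ζ ^ m = 1) ∧ (g ^ m = negOne ↔ ζ ^ m = -1) := by
  set φ := algebraMap F (AlgebraicClosure F)
  have htr : (g : Matrix (Fin 2) (Fin 2) F).trace = t := by rw [hg]; simp [Matrix.trace_fin_two]
  have hpow := sl2_pow_eq g m
  rw [htr] at hpow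
  obtain ⟨ma, mb⟩ := CfsgLib.Classical.sl2Coef_map φ t m
  have r1 : ζ * ζ = φ t * ζ - 1 := by rw [← hζ]; field_simp; ring
  have r2 : ζ⁻¹ * ζ⁻¹ = φ t * ζ⁻¹ - 1 := by rw [← hζ]; field_simp; ring
  have e1 := CfsgLib.Classical.sl2Coef_root (φ t) ζ r1 m
  have e2 := CfsgLib.Classical.sl2Coef_root (φ t) ζ⁻¹ r2 m
  rw [← ma, ← mb] at e1 e2
  set a := (sl2Coef t m).1
  set b := (sl2Coef t m).2
  have hdiff : ζ - ζ⁻¹ ≠ 0 := fun h => hne (by field_simp at h; linear_combination h)
  have key : ∀ c : SpecialLinearGroup (Fin 2) F, ∀ e : F, c.1 0 0 = e → c.1 1 0 = 0 → c.1 0 1 = 0 → c.1 1 1 = e →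
      e * e = 1 → (g ^ m = c ↔ ζ ^ m = φ e) := by
    intro c e c00 c10 c01 c11 hee
    constructor
    · intro h
      rw [h, hg] at hpow
      have q10 := congrFun (congrFun hpow 1) 0
      have q00 := congrFun (congrFun hpow 0) 0
      simp [c10, c00] at q10 q00
      rw [← e1, show a = 0 from q10.symm, ← q00]
      simp
    · intro h
      have hinv : ζ⁻¹ ^ m = ζ ^ m := by
        rw [inv_pow, h, ← map_inv₀, inv_eq_of_mul_eq_one_right hee]
      have ha : φ a * (ζ - ζ⁻¹) = 0 := by linear_combination e1 - e2 - hinv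
      have ha0 := (mul_eq_zero.1 ha).resolve_right hdiff
      rw [ha0, zero_mul, zero_add, h] at e1
      have a0 : a = 0 := φ.injective (by rw [ha0, map_zero])
      have be : b = e := φ.injective e1
      refine ext2 ?_ ?_ ?_ ?_
      · show ((g ^ m : SpecialLinearGroup (Fin 2) F) : Matrix (Fin 2) (Fin 2) F) 0 0 = _
        rw [hpow]; simp [a0, be, c00]
      · show ((g ^ m : SpecialLinearGroup (Fin 2) F) : Matrix (Fin 2) (Fin 2) F) 0 1 = _
        rw [hpow]; simp [a0, c01]
      · show ((g ^ m : SpecialLinearGroup (Fin 2) F) : Matrix (Fin 2) (Fin 2) F) 1 0 = _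
        rw [hpow]; simp [a0, c10]
      · show ((g ^ m : SpecialLinearGroup (Fin 2) F) : Matrix (Fin 2) (Fin 2) F) 1 1 = _
        rw [hpow]; simp [a0, be, c11]
  refine ⟨?_, ?_⟩
  · rw [key 1 1 (by simp) (by simp) (by simp) (by simp) (one_mul 1), map_one]
  · rw [key negOne (-1) (by simp [negOne]) (by simp [negOne]) (by simp [negOne]) (by simp [negOne]) (by ring),
      map_neg, map_one]

theorem exists_torus_dihedral {q : ℕ} (hF : Fintype.card F = q) (n : ℕ) (hn : n = q - 1 ∨ n = q + 1) (h3 : 3 ≤ n) :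
    ∃ (r s : ProjectiveSpecialLinearGroup (Fin 2) F) (H : Subgroup (ProjectiveSpecialLinearGroup (Fin 2) F)),
      orderOf r = n / Nat.gcd 2 (q - 1) ∧ orderOf s = 2 ∧ s * r * s = r⁻¹ ∧ r ∈ H ∧ s ∈ H ∧
      Nat.card H = 2 * (n / Nat.gcd 2 (q - 1)) ∧ Nonempty (H ≃* DihedralGroup (n / Nat.gcd 2 (q - 1))) := by
  obtain ⟨p, _⟩ := CharP.exists F
  haveI : Fact p.Prime := ⟨CharP.char_is_prime F p⟩
  obtain ⟨⟨j, hj0⟩, -, hj⟩ := FiniteField.card F p
  simp only [PNat.mk_coe] at hj
  rw [hF] at hj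
  have hq2 : 2 ≤ q := hF ▸ Fintype.one_lt_card
  set L := AlgebraicClosure F
  haveI : CharP L p := charP_of_injective_algebraMap (algebraMap F L).injective p
  have hqL : (q : L) = 0 := by
    rw [hj, Nat.cast_pow, CharP.cast_eq_zero L p, zero_pow hj0.ne']
  haveI : NeZero (n : L) := ⟨by
    rcases hn with rfl | rfl
    · rw [Nat.cast_sub (by omega), hqL]; simp
    · rw [Nat.cast_add, hqL]; simp⟩
  obtain ⟨ζ, hζ⟩ := HasEnoughRootsOfUnity.exists_primitiveRoot L n
  have h0 : ζ ≠ 0 := hζ.ne_zero (by omega)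
  have hne : ζ ^ 2 ≠ 1 := fun h => by
    have := Nat.le_of_dvd two_pos (hζ.dvd_of_pow_eq_one 2 h)
    omega
  have hfix : ζ ^ q = ζ ∨ ζ ^ q = ζ⁻¹ := by
    rcases hn with rfl | rfl
    · left
      rw [show q = q - 1 + 1 by omega, pow_succ, hζ.pow_eq_one, one_mul]
    · right
      refine eq_inv_of_mul_eq_one_left ?_
      rw [← pow_succ, hζ.pow_eq_one]
  obtain ⟨t, ht⟩ := mem_range_of_pow_eq hF (x := ζ + ζ⁻¹) (by
    rw [hj, add_pow_char_pow, inv_pow, ← hj]
    rcases hfix with h | h <;> rw [h]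
    rw [inv_inv, add_comm])
  have ht4 : t * t ≠ 4 := by
    intro h
    apply hne
    have h' := congrArg (algebraMap F L) h
    rw [map_mul, ht, map_ofNat] at h'
    have : (ζ * ζ - 1) * (ζ * ζ - 1) = 0 := by
      have hu : ζ * ζ⁻¹ = 1 := mul_inv_cancel₀ h0
      linear_combination (ζ * ζ) * h' - (2 * ζ * ζ + ζ * ζ⁻¹ + 1) * hu
    rw [pow_two]
    exact sub_eq_zero.1 (mul_self_eq_zero.1 this)
  obtain ⟨a, b, hab⟩ := exists_flip_coeff p t ht4
  obtain ⟨g, hg⟩ : ∃ g : SpecialLinearGroup (Fin 2) F, g.1 = !![0, -1; 1, t] :=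
    ⟨⟨!![0, -1; 1, t], by simp [Matrix.det_fin_two]⟩, rfl⟩
  obtain ⟨u, hu⟩ : ∃ u : SpecialLinearGroup (Fin 2) F, u.1 = !![a, b; b - t * a, -a] :=
    ⟨⟨!![a, b; b - t * a, -a], by simp [Matrix.det_fin_two]; linear_combination -hab⟩, rfl⟩
  have hug : u * g = g⁻¹ * u := by
    apply Subtype.ext
    rw [Matrix.SpecialLinearGroup.coe_mul, Matrix.SpecialLinearGroup.coe_mul, Matrix.SpecialLinearGroup.coe_inv,
      hg, hu, Matrix.adjugate_fin_two]
    ext i j
    fin_cases i <;> fin_cases j <;> simp [Matrix.mul_apply, Fin.sum_univ_two] <;> ring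
  have key := pow_eq_one_iff_companion ht.symm h0 hne hg
  have hg2 : g * g ≠ 1 := fun h => hne ((key 2).1.1 (by rw [pow_two, h]))
  have huu : u * u = negOne := sq_of_trace_zero (by rw [hu]; simp)
  have hs2 : proj u * proj u = 1 := by rw [← map_mul, huu, proj_negOne]
  have hsr : proj u * proj g * proj u = (proj g)⁻¹ := by
    rw [← map_mul, hug, map_mul, map_inv, mul_assoc, hs2, mul_one]
  have hns : proj u ∉ Subgroup.zpowers (proj g) := by
    rintro ⟨i, hi⟩
    have hi' : proj (g ^ i) = proj u := (map_zpow _ _ _).trans hi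
    have hc : u * g = g * u := by
      rcases proj_eq_iff.1 hi' with e | e
      · rw [← e, ← _root_.zpow_add_one, ← mul_self_zpow]
      · have e' : u = negOne * g ^ i := by rw [e, ← mul_assoc, negOne_sq, one_mul]
        rw [e', mul_assoc, ← _root_.zpow_add_one, ← mul_assoc, ← negOne_comm, mul_assoc, mul_self_zpow]
    rw [hug] at hc
    exact hg2 (by rw [← eq_inv_iff_mul_eq_one]; exact (mul_right_cancel hc).symm)
  have hs1 : proj u ≠ 1 := fun h => hns (h ▸ one_mem _)
  have hd : Nat.gcd 2 (q - 1) ∣ n := by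
    rcases hn with rfl | rfl
    · exact Nat.gcd_dvd_right _ _
    · rw [show q + 1 = (q - 1) + 2 by omega]
      exact dvd_add (Nat.gcd_dvd_right _ _) (Nat.gcd_dvd_left _ _)
  have hproj : ∀ m : ℕ, proj g ^ m = 1 ↔ n / Nat.gcd 2 (q - 1) ∣ m := by
    intro m
    rw [Nat.div_dvd_iff_dvd_mul hd (Nat.gcd_pos_of_pos_left _ two_pos), ← map_pow, ← map_one (proj (F := F)),
      proj_eq_iff, mul_one, (key m).1, (key m).2, ← hζ.pow_eq_one_iff_dvd]
    rcases q_shape hF with ⟨hq, hd2⟩ | ⟨hq, hd1, -⟩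
    · rw [hd2, mul_comm 2 m, pow_mul, sq_eq_one_iff]
    · rw [hd1, one_mul]
      have hp2 : p = 2 := by
        by_contra hp
        have hodd : Odd q := hj ▸ ((Fact.out : p.Prime).eq_two_or_odd'.resolve_left hp).pow
        rw [Nat.odd_iff] at hodd
        omega
      subst hp2
      rw [CharTwo.neg_eq, or_self]
  have hord : orderOf (proj g) = n / Nat.gcd 2 (q - 1) :=
    Nat.dvd_antisymm (orderOf_dvd_of_pow_eq_one ((hproj _).2 dvd_rfl)) ((hproj _).1 (pow_orderOf_eq_one _))
  obtain ⟨H, hrH, hsH, hcard, hiso⟩ := exists_dihedral_sub (Nat.div_pos (Nat.le_of_dvd (by omega) hd)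
    (Nat.gcd_pos_of_pos_left _ two_pos)) hord hs2 hsr hns
  exact ⟨proj g, proj u, H, hord, orderOf_eq_prime (by rw [pow_two]; exact hs2) hs1, hsr, hrH, hsH, hcard, hiso⟩

end CfsgLib.Classical.Dickson
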