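/-
Maximality of the torus normalisers in `PSL_2(q)`.
-/
import Cfsg.Agent.Lib.Classical.Dickson.TorusDihedral
import Cfsg.Agent.Lib.Spectrum.A5

set_option autoImplicit false

namespace CfsgLib.Classical.Dickson

open Matrix SL2Q
open scoped MatrixGroups

theorem pgl_semisimple_le {K : Type*} [Field K] [Fintype K] (p : ℕ) [hp : Fact p.Prime] [CharP K p]
    (g : Matrix.ProjGenLinGroup (Fin 2) K) (hg : (orderOf g).Coprime p) : orderOf g ≤ Fintype.card K + 1 := by
  have hQ := Fintype.one_lt_card (α := K)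
  obtain ⟨⟨k, hk0⟩, -, hk⟩ := FiniteField.card K p
  simp only [PNat.mk_coe] at hk
  by_cases h2 : p = 2
  · subst h2
    have hcard : Nat.card (ProjectiveSpecialLinearGroup (Fin 2) K) = Nat.card (Matrix.ProjGenLinGroup (Fin 2) K) := by
      have h := gcd_mul_card_PSL (F := K) rfl
      rw [show Nat.gcd 2 (Fintype.card K - 1) = 1 from Nat.prime_two.coprime_iff_not_dvd.2 (by
        have : 2 ∣ Fintype.card K := hk ▸ dvd_pow_self 2 hk0.ne'
        omega), one_mul] at h
      rw [h, card_pgl rfl]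
    haveI : Finite (Matrix.ProjGenLinGroup (Fin 2) K) :=
      Finite.of_surjective _ Matrix.ProjGenLinGroup.mk_surjective
    obtain ⟨x, rfl⟩ := ((Nat.bijective_iff_injective_and_card _).2
      ⟨Matrix.ProjectiveSpecialLinearGroup.toPGL_injective (n := Fin 2) (R := K), hcard⟩).2 g
    rw [orderOf_injective _ Matrix.ProjectiveSpecialLinearGroup.toPGL_injective] at hg ⊢
    rcases psl_semisimple_dvd (F := K) rfl 2 x hg with h | h
    · exact (Nat.le_of_dvd (Nat.div_pos (by
        have := Nat.le_of_dvd two_pos (Nat.gcd_dvd_left 2 (Fintype.card K - 1)); omega)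
        (Nat.gcd_pos_of_pos_left _ two_pos)) h).trans (Nat.div_le_self _ _)
    · rcases Nat.eq_zero_or_pos ((Fintype.card K - 1) / Nat.gcd 2 (Fintype.card K - 1)) with h0 | h0
      · have := Nat.le_of_dvd (by omega) (Nat.gcd_dvd_right 2 (Fintype.card K - 1))
        have := Nat.div_pos this (Nat.gcd_pos_of_pos_left _ two_pos)
        omega
      · exact ((Nat.le_of_dvd h0 h).trans (Nat.div_le_self _ _)).trans (by omega)
  · have h2' : (2 : K) ≠ 0 := Ring.two_ne_zero (by rw [ringChar.eq K p]; exact h2)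
    rcases CfsgLib.Spectrum.orderOf_pgl_cases h2' hk g with h | h | h
    · exact le_of_eq_of_le (Nat.eq_one_of_dvd_coprimes hg dvd_rfl h) (by omega)
    · exact (Nat.le_of_dvd (by omega) h).trans (by omega)
    · exact Nat.le_of_dvd (by omega) h

theorem perm_four_no_flip : ∀ a b : Equiv.Perm (Fin 4), Equiv.Perm.sign a = 1 → Equiv.Perm.sign b = 1 →
    a * a * a = 1 → b * b = 1 → b * a * b = a⁻¹ → a = 1 := by decide

theorem alt_four_no_flip (a b : alternatingGroup (Fin 4)) (h1 : a * a * a = 1) (h2 : b * b = 1)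
    (h3 : b * a * b = a⁻¹) : a = 1 :=
  Subtype.ext (perm_four_no_flip a b a.2 b.2 (congrArg Subtype.val h1) (congrArg Subtype.val h2)
    (congrArg Subtype.val h3))

variable {F : Type*} [Field F] [Fintype F]

theorem torus_dihedral_maximal {q : ℕ} (hF : Fintype.card F = q) (n : ℕ)
    (hn : (n = q + 1 ∧ q ∉ ({2, 7, 9} : Finset ℕ)) ∨ (n = q - 1 ∧ q ∉ ({2, 3, 5, 7, 9, 11} : Finset ℕ))) :
    ∃ H : Subgroup (ProjectiveSpecialLinearGroup (Fin 2) F),
      IsCoatom H ∧ Nonempty (H ≃* DihedralGroup (n / Nat.gcd 2 (q - 1))) := by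
  simp only [Finset.mem_insert, Finset.mem_singleton, not_or] at hn
  obtain ⟨p, _⟩ := CharP.exists F
  haveI hpF : Fact p.Prime := ⟨CharP.char_is_prime F p⟩
  have hp : p.Prime := Fact.out
  obtain ⟨⟨j, hj0⟩, -, hj⟩ := FiniteField.card F p
  simp only [PNat.mk_coe] at hj
  rw [hF] at hj
  have hq2 : 2 ≤ q := hF ▸ Fintype.one_lt_card
  have hshape := q_shape hF
  have hn3 : 3 ≤ n := by rcases hshape with ⟨h1, -⟩ | ⟨h1, -, h⟩ <;> omega
  obtain ⟨r, s, H, hr, hs, hsr, hrH, hsH, hHcard, hHiso⟩ :=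
    exists_torus_dihedral hF n (hn.symm.imp And.left And.left) hn3
  set d := Nat.gcd 2 (q - 1) with hd
  set k := n / d with hk
  have hG := gcd_mul_card_PSL hF
  rw [← hd] at hG
  have hdn : d * k = n := by
    refine Nat.mul_div_cancel' ?_
    rcases hn with ⟨rfl, -⟩ | ⟨rfl, -⟩
    · rw [show q + 1 = (q - 1) + 2 by omega]
      exact dvd_add (Nat.gcd_dvd_right _ _) (Nat.gcd_dvd_left _ _)
    · exact Nat.gcd_dvd_right _ _
  have hk2 : 2 ≤ k := by
    rcases hshape with ⟨h1, h2⟩ | ⟨h1, h2, -⟩ <;> rw [h2] at hdn <;> omega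
  have hkd : k ∣ n := Dvd.intro_left d hdn
  have hcop : Nat.Coprime n q := by
    rcases hn with ⟨rfl, -⟩ | ⟨rfl, -⟩
    · rw [Nat.coprime_self_add_left (m := q) (n := 1)]; exact Nat.coprime_one_left q
    · exact (Nat.coprime_self_sub_left (by omega : 1 ≤ q)).2 (Nat.coprime_one_left q)
  have hkp : Nat.Coprime k p := by
    refine Nat.Coprime.coprime_dvd_left hkd (Nat.Coprime.coprime_dvd_right ?_ hcop)
    rw [hj]; exact dvd_pow_self p hj0.ne'
  have htop : H ≠ ⊤ := by
    intro e
    rw [e, Subgroup.card_top] at hHcard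
    rw [hHcard, mul_left_comm, hdn] at hG
    have h4 : 2 * 3 ≤ q * (q - 1) → False := fun h => by
      have h1 : n * 6 ≤ q * ((q - 1) * (q + 1)) := by
        rw [← mul_assoc, mul_comm n]
        exact Nat.mul_le_mul h (by omega)
      omega
    exact h4 (le_trans (by norm_num) (Nat.mul_le_mul (show 3 ≤ q by omega) (show 2 ≤ q - 1 by omega)))
  refine ⟨H, ⟨htop, fun M hlt => ?_⟩, hHiso⟩
  by_contra hM
  have hdvd : 2 * k ∣ Nat.card M := hHcard ▸ Subgroup.card_dvd_of_le hlt.le
  have hstrict : 2 * k < Nat.card M := by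
    rcases lt_or_eq_of_le (Nat.le_of_dvd Nat.card_pos hdvd) with h | h
    · exact h
    · exact absurd (Subgroup.eq_of_le_of_card_ge hlt.le (by rw [hHcard, h])) hlt.ne
  have hMlt : Nat.card M < Nat.card (ProjectiveSpecialLinearGroup (Fin 2) F) := by
    rcases lt_or_eq_of_le (Subgroup.card_le_card_group M) with h | h
    · exact h
    · exact absurd (Subgroup.eq_top_of_card_eq M h) hM
  let r' : M := ⟨r, hlt.le hrH⟩
  let s' : M := ⟨s, hlt.le hsH⟩
  have hr' : orderOf r' = k := by rw [← Subgroup.orderOf_coe]; exact hr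
  have hs' : s' * s' = 1 := Subtype.ext (by
    have := pow_orderOf_eq_one s
    rw [hs, pow_two] at this
    exact this)
  have hsr' : s' * r' * s' = r'⁻¹ := Subtype.ext hsr
  rcases dickson_list p hF M with ⟨k', hk', hcase⟩ | ⟨P, K, hK, ⟨e⟩⟩ | ⟨⟨e⟩⟩ | ⟨⟨e⟩⟩ | ⟨⟨e⟩⟩ |
    ⟨K, _, _, m, hm, hcase⟩
  · rcases hcase with ⟨hc, -⟩ | ⟨⟨e⟩⟩
    · obtain ⟨eH⟩ := hHiso
      haveI := hc
      haveI : IsCyclic H := isCyclic_of_injective _ (Subgroup.inclusion_injective hlt.le)
      haveI : IsCyclic (DihedralGroup k) := eH.isCyclic.1 inferInstance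
      exact DihedralGroup.not_isCyclic (n := k) (by omega) inferInstance
    · have hMc : Nat.card M = 2 * k' := by rw [Nat.card_congr e.toEquiv, DihedralGroup.nat_card]
      rw [hMc] at hdvd hstrict
      have hkk : k ∣ k' := Nat.dvd_of_mul_dvd_mul_left two_pos hdvd
      rw [← hd] at hk'
      rcases hshape with ⟨h1, h2⟩ | ⟨h1, h2, -⟩ <;> rw [h2] at hk' hdn
      · rcases hk' with h | h
        · rcases hn with ⟨hn', -⟩ | ⟨hn', -⟩
          · have := Nat.le_of_dvd (by omega) h; omega
          · have h3 : k ∣ (q + 1) / 2 - k := Nat.dvd_sub (hkk.trans h) dvd_rfl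
            rw [show (q + 1) / 2 - k = 1 by omega, Nat.dvd_one] at h3
            omega
        · have := Nat.le_of_dvd (by omega) h
          rcases hn with ⟨hn', -⟩ | ⟨hn', -⟩ <;> omega
      · rw [Nat.div_one, Nat.div_one] at hk'
        rcases hk' with h | h
        · rcases hn with ⟨hn', -⟩ | ⟨hn', -⟩
          · have := Nat.le_of_dvd (by omega) h; omega
          · have h3 : k ∣ (q + 1) - k := Nat.dvd_sub (hkk.trans h) dvd_rfl
            rw [show (q + 1) - k = 2 by omega] at h3
            have := Nat.le_of_dvd two_pos h3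
            omega
        · have := Nat.le_of_dvd (by omega) h
          rcases hn with ⟨hn', -⟩ | ⟨hn', -⟩ <;> omega
  · have hN := Subgroup.card_mul_index
      (Subgroup.normalizer ((P : Subgroup (ProjectiveSpecialLinearGroup (Fin 2) F)) :
        Set (ProjectiveSpecialLinearGroup (Fin 2) F)))
    rw [index_normalizer_sylow p hF P] at hN
    have h1 : 2 * k ∣ Nat.card (Subgroup.normalizer ((P : Subgroup (ProjectiveSpecialLinearGroup (Fin 2) F)) :
        Set (ProjectiveSpecialLinearGroup (Fin 2) F))) :=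
      hdvd.trans ((dvd_of_eq (Nat.card_congr e.toEquiv)).trans (Subgroup.card_dvd_of_le hK))
    have h2 : 2 * n ∣ q * (q - 1) := by
      have h := mul_dvd_mul_left d h1
      rw [← mul_assoc, mul_comm d 2, mul_assoc, hdn] at h
      refine h.trans (dvd_of_eq (Nat.eq_of_mul_eq_mul_right (Nat.succ_pos q) ?_))
      rw [mul_assoc, hN, hG, mul_assoc]
    rcases hn with ⟨hn', -⟩ | ⟨hn', hqq⟩
    · have h3 : n ∣ q - 1 := hcop.dvd_of_dvd_mul_left ((dvd_mul_left n 2).trans h2)
      have := Nat.le_of_dvd (by omega) h3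
      omega
    · have h3 : 2 ∣ q := by
        rw [hn'] at h2
        exact Nat.dvd_of_mul_dvd_mul_right (by omega) h2
      set c := (e s' : K) * e r' * (e s')⁻¹ * (e r')⁻¹ with hc
      have hcP : (c : ProjectiveSpecialLinearGroup (Fin 2) F) ∈ P :=
        commutator_mem_sylow p P (hK (e s').2) (hK (e r').2)
      have hc' : c = e (r'⁻¹ * r'⁻¹) := by
        rw [hc, ← map_inv, ← map_inv, ← map_mul, ← map_mul, ← map_mul, inv_eq_of_mul_eq_one_right hs', hsr']
      obtain ⟨i, hi⟩ := IsPGroup.iff_orderOf.1 P.isPGroup' ⟨_, hcP⟩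
      rw [Subgroup.orderOf_mk, Subgroup.orderOf_coe, hc', MulEquiv.orderOf_eq, ← pow_two, inv_pow,
        orderOf_inv] at hi
      have hdk : orderOf (r' ^ 2) ∣ k := hr' ▸ orderOf_pow_dvd 2
      have h4 : orderOf (r' ^ 2) = 1 :=
        Nat.eq_one_of_dvd_coprimes (hkp.pow_right i) hdk (dvd_of_eq hi)
      have h5 : k ∣ 2 := hr' ▸ orderOf_dvd_of_pow_eq_one (orderOf_eq_one_iff.1 h4)
      have := Nat.le_of_dvd two_pos h5
      rcases hshape with ⟨h1', h2'⟩ | ⟨h1', h2', -⟩ <;> rw [h2'] at hdn <;> omega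
  · have hMc : Nat.card M = 12 := by rw [Nat.card_congr e.toEquiv, nat_card_alternatingGroup, Nat.card_fin]; rfl
    rw [hMc] at hdvd hstrict
    have hk23 : k = 2 ∨ k = 3 := by
      have : k < 6 := by omega
      interval_cases k <;> omega
    rcases hk23 with hk' | hk'
    · have hq3 : q = 3 := by
        rcases hshape with ⟨h1, h2⟩ | ⟨h1, h2, -⟩ <;> rw [h2] at hdn <;> omega
      subst hq3
      rw [hd] at hG
      norm_num at hG
      omega
    · have h1 : r' * r' * r' = 1 := by
        rw [← pow_two, ← pow_succ, show 2 + 1 = k by omega, ← hr', pow_orderOf_eq_one]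
      have := alt_four_no_flip (e r') (e s') (by rw [← map_mul, ← map_mul, h1, map_one])
        (by rw [← map_mul, hs', map_one]) (by rw [← map_mul, ← map_mul, hsr', map_inv])
      rw [← map_one e] at this
      rw [e.injective this, orderOf_one] at hr'
      omega
  · have hMc : Nat.card M = 24 := by rw [Nat.card_congr e.toEquiv, Nat.card_perm, Nat.card_fin]; rfl
    have hq16 := (sym_four_iff hF).1 ⟨M, ⟨e⟩⟩
    rw [hMc] at hdvd hstrict
    have : k < 12 := by omega
    rcases hshape with ⟨h1, h2⟩ | ⟨h1, h2, -⟩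
    · rw [h2] at hdn
      have hk12 : k = 2 ∨ k = 3 ∨ k = 4 ∨ k = 6 := by interval_cases k <;> omega
      have hq9 : q = 3 ∨ q = 5 ∨ q = 11 ∨ q = 13 := by omega
      rcases hq9 with rfl | rfl | rfl | rfl <;> norm_num at hq16
    · have : q ^ 2 % 2 = 0 := by rw [Nat.pow_mod, h1]
      omega
  · have hMc : Nat.card M = 60 := by rw [Nat.card_congr e.toEquiv, nat_card_alternatingGroup, Nat.card_fin]; rfl
    have hk5 : k ∈ ({1, 2, 3, 5} : Set ℕ) := by
      rw [← CfsgLib.Spectrum.orders_A5, ← hr']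
      exact ⟨e r', MulEquiv.orderOf_eq e r'⟩
    simp only [Set.mem_insert_iff, Set.mem_singleton_iff] at hk5
    have hq45 : q = 3 ∨ q = 4 ∨ q = 5 := by
      rcases hshape with ⟨h1, h2⟩ | ⟨h1, h2, h⟩ <;> rw [h2] at hdn <;> omega
    rw [hMc] at hMlt
    rcases hq45 with rfl | rfl | rfl <;> rw [hd] at hG <;> norm_num at hG <;> omega
  · rcases (show m = 0 ∨ m = 1 ∨ 2 ≤ m by omega) with rfl | rfl | hm2
    · simp at hm; omega
    · have hKq : Fintype.card K = q := by rw [← hm, pow_one]
      rcases hcase with ⟨⟨e⟩⟩ | ⟨⟨e⟩⟩ <;> rw [Nat.card_congr e.toEquiv] at hMlt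
      · rw [Nat.eq_of_mul_eq_mul_left (Nat.gcd_pos_of_pos_left _ two_pos)
          ((gcd_mul_card_PSL hKq).trans (gcd_mul_card_PSL hF).symm)] at hMlt
        exact lt_irrefl _ hMlt
      · rw [card_pgl hKq] at hMlt
        exact absurd hMlt (not_lt.2 (card_psl_le hF))
    · obtain ⟨σ⟩ := exists_hom_of_card_pow (F := F) (K := K) m (hm.trans hF.symm)
      haveI : CharP K p := (σ.charP_iff_charP p).2 inferInstance
      set Q := Fintype.card K with hQdef
      have hQ2 : 2 ≤ Q := Fintype.one_lt_card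
      have hkQ : k ≤ Q + 1 := by
        rcases hcase with ⟨⟨e⟩⟩ | ⟨⟨e⟩⟩
        · rw [← hr', ← MulEquiv.orderOf_eq e r',
            ← orderOf_injective _ Matrix.ProjectiveSpecialLinearGroup.toPGL_injective (e r')]
          refine pgl_semisimple_le p _ ?_
          rw [orderOf_injective _ Matrix.ProjectiveSpecialLinearGroup.toPGL_injective, MulEquiv.orderOf_eq, hr']
          exact hkp
        · rw [← hr', ← MulEquiv.orderOf_eq e r']
          exact pgl_semisimple_le p _ (by rw [MulEquiv.orderOf_eq, hr']; exact hkp)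
      have hQq : Q * Q ≤ q := by
        rw [← hm, ← pow_two]
        exact Nat.pow_le_pow_right (by omega) hm2
      have hdQ : d * k ≤ d * (Q + 1) := Nat.mul_le_mul_left d hkQ
      have hQ4 : Q ≤ 3 := by
        by_contra hQ
        have := Nat.mul_le_mul_right Q (show 4 ≤ Q by omega)
        have : d ≤ 2 := Nat.le_of_dvd two_pos (Nat.gcd_dvd_left _ _)
        have := Nat.mul_le_mul_right (Q + 1) this
        omega
      rcases (show Q = 2 ∨ Q = 3 by omega) with hQ | hQ <;> rw [hQ] at hm hdQ hQq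
      · rcases hshape with ⟨h1, -⟩ | ⟨h1, h2, h⟩
        · have : Even q := hm ▸ even_two.pow_of_ne_zero (by omega)
          rw [Nat.even_iff] at this
          omega
        · rw [h2] at hdQ hdn
          rcases hn with ⟨hn', hqq⟩ | ⟨hn', hqq⟩
          · omega
          · have hq4 : q = 4 ∧ k = 3 := by omega
            have hc : Nat.card M ≤ 6 := by
              rcases hcase with ⟨⟨e⟩⟩ | ⟨⟨e⟩⟩ <;> rw [Nat.card_congr e.toEquiv]
              · exact (card_psl_le hQ).trans (by norm_num)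
              · rw [card_pgl hQ]
            omega
      · rcases hshape with ⟨h1, h2⟩ | ⟨h1, h2, -⟩
        · rw [h2] at hdQ hdn
          have hq9 : q ≤ 9 := by omega
          rcases hn with ⟨hn', hqq⟩ | ⟨hn', hqq⟩ <;> omega
        · have : Odd q := hm ▸ (show Odd 3 by decide).pow
          rw [Nat.odd_iff] at this
          omega

end CfsgLib.Classical.Dickson
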