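/-
Subfield subgroups of `PSL_2(q)`.
-/
import Cfsg.Agent.Lib.Classical.Dickson.SmallSub

set_option autoImplicit false

namespace CfsgLib.Classical.Dickson

open Matrix SL2Q
open scoped MatrixGroups

theorem odd_cofactor (y : ℕ) (hy : Even y) : ∀ j : ℕ, ∃ S, Odd S ∧ (y + 1) ^ (2 * j + 1) = y * S + 1
  | 0 => ⟨1, odd_one, by ring⟩
  | j + 1 => by
    obtain ⟨S, hS, e⟩ := odd_cofactor y hy j
    refine ⟨(y + 1) ^ 2 * S + (y + 2), ?_, ?_⟩
    · exact ((hy.add_one.pow).mul hS).add_even (hy.add even_two)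
    · rw [show 2 * (j + 1) + 1 = (2 * j + 1) + 2 by ring, pow_add, e]
      ring

variable {F K : Type*} [Field F] [Fintype F] [Field K] [Fintype K]

theorem isSquare_of_even (σ : K →+* F) {q : ℕ} (hF : Fintype.card F = q) (hodd : Odd q) (m : ℕ) (hm : Even m)
    (hK : Fintype.card K ^ m = q) (d : K) : IsSquare (σ d) := by
  by_cases hd : d = 0
  · rw [hd, map_zero]; exact IsSquare.zero
  obtain ⟨j, rfl⟩ := hm
  have hj : j ≠ 0 := fun e => by
    subst e
    have := Fintype.one_lt_card (α := F)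
    simp at hK
    omega
  have hc : ringChar F ≠ 2 := fun hc => by
    have := (FiniteField.even_card_iff_char_two).1 hc
    rw [hF, Nat.odd_iff.1 hodd] at this
    omega
  rw [FiniteField.isSquare_iff hc ((map_ne_zero σ).2 hd), hF, ← map_pow]
  have hQ : Odd (Fintype.card K) := Nat.Odd.of_mul_left (n := Fintype.card K ^ (j + j - 1)) (by
    rw [← pow_succ', show j + j - 1 + 1 = j + j by omega, hK]; exact hodd)
  have hdvd : Fintype.card K - 1 ∣ q / 2 := by
    obtain ⟨r, hr⟩ := hQ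
    obtain ⟨c, hc⟩ : (Fintype.card K ^ 2 - 1) ∣ q - 1 := by
      rw [← hK, ← two_mul, pow_mul]
      exact Nat.sub_one_dvd_pow_sub_one _ j
    refine ⟨(r + 1) * c, ?_⟩
    have hsq : Fintype.card K ^ 2 - 1 = 4 * r * (r + 1) := by
      rw [hr, show (2 * r + 1) ^ 2 = 4 * r * (r + 1) + 1 by ring, Nat.add_sub_cancel]
    have hr2 : Fintype.card K - 1 = 2 * r := by omega
    rw [hsq] at hc
    obtain ⟨s, hs⟩ := hodd
    have e : 4 * r * (r + 1) * c = 2 * (2 * r * ((r + 1) * c)) := by ring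
    rw [hr2]
    omega
  obtain ⟨c, hc⟩ := hdvd
  rw [hc, pow_mul, FiniteField.pow_card_sub_one_eq_one d hd, one_pow, map_one]

theorem pgl_le_range_toPGL (σ : K →+* F) (hsq : ∀ d : K, IsSquare (σ d)) :
    (pglMap σ).range ≤ (Matrix.ProjectiveSpecialLinearGroup.toPGL (n := Fin 2) (R := F)).range := by
  rintro _ ⟨g, rfl⟩
  obtain ⟨M, rfl⟩ := Matrix.ProjGenLinGroup.mk_surjective g
  obtain ⟨r, hr⟩ := hsq M.val.det
  have hd : σ M.val.det ≠ 0 := (map_ne_zero σ).2 ((Matrix.isUnit_iff_isUnit_det M.val).1 M.isUnit).ne_zero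
  have hr0 : r ≠ 0 := fun e => hd (by rw [hr, e, mul_zero])
  let N : SpecialLinearGroup (Fin 2) F := ⟨r⁻¹ • M.val.map σ, by
    rw [Matrix.det_smul, ← RingHom.mapMatrix_apply, ← RingHom.map_det, Fintype.card_fin, hr, pow_two]
    field_simp⟩
  refine ⟨QuotientGroup.mk N, ?_⟩
  rw [Matrix.ProjectiveSpecialLinearGroup.toPGL_mk, pglMap_mk, Matrix.ProjGenLinGroup.mk_eq_mk_iff]
  refine ⟨Units.mk0 r hr0, Units.ext ?_⟩
  have hN : ∀ i j, N.1 i j = r⁻¹ * σ (M.val i j) := fun i j => rfl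
  clear_value N
  ext i j
  fin_cases i <;> fin_cases j <;> simp [hN, hr0] <;> field_simp

theorem exists_pgl_of_even {q : ℕ} (hF : Fintype.card F = q) (hodd : Odd q) (m : ℕ) (hm : Even m)
    (hK : Fintype.card K ^ m = q) :
    ∃ H : Subgroup (ProjectiveSpecialLinearGroup (Fin 2) F), Nonempty (H ≃* Matrix.ProjGenLinGroup (Fin 2) K) := by
  obtain ⟨σ⟩ := exists_hom_of_card_pow (F := F) (K := K) m (hK.trans hF.symm)
  have hle := pgl_le_range_toPGL σ (isSquare_of_even σ hF hodd m hm hK)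
  refine ⟨(pglMap σ).range.comap Matrix.ProjectiveSpecialLinearGroup.toPGL, ⟨?_⟩⟩
  exact ((Subgroup.equivMapOfInjective _ _ Matrix.ProjectiveSpecialLinearGroup.toPGL_injective).trans
    (MulEquiv.subgroupCongr (Subgroup.map_comap_eq_self hle))).trans
    (MonoidHom.ofInjective (pglMap_injective σ)).symm

theorem even_of_exists_pgl {q : ℕ} (hF : Fintype.card F = q) (hodd : Odd q) (m : ℕ)
    (hK : Fintype.card K ^ m = q)
    (h : ∃ H : Subgroup (ProjectiveSpecialLinearGroup (Fin 2) F),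
      Nonempty (H ≃* Matrix.ProjGenLinGroup (Fin 2) K)) : Even m := by
  obtain ⟨H, ⟨e⟩⟩ := h
  by_contra hm
  obtain ⟨j, rfl⟩ := Nat.not_even_iff_odd.1 hm
  set Q := Fintype.card K with hQdef
  have hQ1 : 1 < Q := Fintype.one_lt_card
  have hQodd : Odd Q := Nat.Odd.of_mul_left (n := Q ^ (2 * j)) (by rw [← pow_succ', hK]; exact hodd)
  obtain ⟨r, hr⟩ := hQodd
  obtain ⟨S, hS, hSe⟩ := odd_cofactor (4 * r * (r + 1)) ⟨2 * r * (r + 1), by ring⟩ j
  have hy : Q ^ 2 = 4 * r * (r + 1) + 1 := by rw [hr]; ring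
  have h2 : (2 : F) ≠ 0 := Ring.two_ne_zero fun hc => by
    have := (FiniteField.even_card_iff_char_two).1 hc
    rw [hF, Nat.odd_iff.1 hodd] at this
    omega
  have hd := Nat.mul_dvd_mul_left 2 (Subgroup.card_subgroup_dvd_card H)
  rw [two_mul_card_PSL h2, card_SL_two hF, Nat.card_congr e.toEquiv, card_PGL_eq_card_SL,
    card_SL_two (q := Q) rfl] at hd
  have e1 : (q - 1) * (q + 1) = 4 * r * (r + 1) * S := by
    have h3 : q ^ 2 = 4 * r * (r + 1) * S + 1 := by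
      rw [← hK, ← pow_mul, mul_comm, pow_mul, hy, hSe]
    obtain ⟨t, rfl⟩ : ∃ t, q = t + 1 := ⟨q - 1, by have := hodd.pos; omega⟩
    rw [Nat.add_sub_cancel]
    rw [show (t + 1) ^ 2 = t * (t + 1 + 1) + 1 by ring] at h3
    omega
  have e2 : (Q - 1) * (Q + 1) = 4 * r * (r + 1) := by
    rw [hr, Nat.add_sub_cancel]; ring
  rw [e1, e2] at hd
  have hr0 : 0 < r := by omega
  have h3 : 4 * r * (r + 1) * (2 * Q) ∣ 4 * r * (r + 1) * (q * S) := by
    convert hd using 1 <;> ring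
  have h4 : 2 ∣ q * S := (dvd_mul_right 2 Q).trans (Nat.dvd_of_mul_dvd_mul_left (by positivity) h3)
  exact Nat.not_even_iff_odd.2 (hodd.mul hS) (even_iff_two_dvd.2 h4)

theorem pgl_two_subfield_iff {q : ℕ} (hF : Fintype.card F = q) (hodd : Odd q) (m : ℕ)
    (hK : Fintype.card K ^ m = q) :
    (∃ H : Subgroup (ProjectiveSpecialLinearGroup (Fin 2) F),
      Nonempty (H ≃* ProjectiveSpecialLinearGroup (Fin 2) K)) ∧
    ((∃ H : Subgroup (ProjectiveSpecialLinearGroup (Fin 2) F),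
      Nonempty (H ≃* Matrix.ProjGenLinGroup (Fin 2) K)) ↔ Even m) := by
  refine ⟨?_, even_of_exists_pgl hF hodd m hK, fun hm => exists_pgl_of_even hF hodd m hm hK⟩
  obtain ⟨σ⟩ := exists_hom_of_card_pow (F := F) (K := K) m (hK.trans hF.symm)
  exact ⟨(pslMap σ).range, ⟨(MonoidHom.ofInjective (pslMap_injective σ)).symm⟩⟩

end CfsgLib.Classical.Dickson
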